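import Cfsg.Agent.Mrg.Omega.FFMutual
import Cfsg.Agent.Mrg.Omega.BTwo.Conj
import Cfsg.Agent.Mrg.Omega.VP
import Cfsg.Agent.Mrg.Omega.FrameI
import Cfsg.Agent.Lib.ProductSet
import Cfsg.Agent.Mrg.Omega.BTwo.Basic
import Cfsg.Agent.Omega.NoFF.Basic
import Cfsg.Agent.PLocal.OffenderStep
import Cfsg.Agent.Lib.SylowNormalInf
import Cfsg.Agent.Mrg.Omega.OM.PG.NoRad_m3
import Mathlib
import Cfsg.Agent.Mrg.Omega.TC.Crit_m3
import Cfsg.Agent.Mrg.Omega.FFBr.Main
import Cfsg.Agent.FastGrp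
import Cfsg.Agent.Prune
set_option linter.all false

section
prune_inst 0x7ffdfefb3ffcbddfdfff7e7ffff1dffc39d0dfffffffff4b7fe8ebff5fff038c3be5fba79de0d0ff4ff7e2beb0b87853f97eca3fea6bdc7ffffd5ff45ffbee0fb5e7bd8971d69c340fbc0fff63f07fce7f3fffffffffffffffffffffffffffbefffdffffffff

-- part: Mrg/Omega/All/HOneKer
section
prune_inst 0x1048001022020000180000e0003c42d2000000000b080171000a0006863c40a0448620c0a00b000000005400300068135c00500010000000000800411d04a1802240020200a10427000980b003180c00000000000000000000000000041000200000000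
set_option linter.all false
open scoped Cfsg.Agent.FastGrp


/-!
# The action of `P ∈ P*(S)` on `V / D`, `V = V_P`, `D = C_V(O²(P))`

No coordinates.  `Triv S P g` : `g ∈ P` centralises `V / D`.

* `comm_of_sec` : an element of `S` which centralises `V / D` centralises `V`;
* `comm_of_both` : an element of `P` which centralises `V / D` and `D` centralises `V`;
* `fix_of_cube` : `g` centralises `D`, `g³` centralises `V / D`, `g` fixes `x D`: then `g` fixes `x`;
* `fix_of_comm` : `a`, `g` centralise `D` and commute on `V / D`, `a` fixes `v D`: then `a` fixes `[g, v]`.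
-/

set_option autoImplicit false

namespace Cfsg.Agent.Omega.All.HOne

open Subgroup Cfsg Cfsg.Agent.ZN Cfsg.Agent.Omega.MinPar Cfsg.Agent.Omega.FrameFF
open Cfsg.Agent.MinSimple.VModule (oddGen oddGen_le mem_oddGen oddGen_le_of_sup zc_le_zl le_normalizer_zl
  le_normalizer_oddGen mem_zc zc_sq zc_comm oddGen_def)
open Cfsg.Agent.Omega.NoFF.LinesPlug (oddGen_sup)

universe u

variable {G : Type u} [Group G] {S P : Subgroup G}

theorem conjZ {g v : G} (hg : g ∈ P) (hv : v ∈ zl S P) : g * v * g⁻¹ ∈ zl S P :=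
  (mem_normalizer_iff.1 (le_normalizer_zl S P hg) v).1 hv

theorem conjD {g v : G} (hg : g ∈ P) (hv : v ∈ cv S P) : g * v * g⁻¹ ∈ cv S P := by
  have h1 : P ≤ normalizer (cv S P : Set G) := by
    refine le_trans (le_inf (le_normalizer_zl S P)
      ((le_normalizer_oddGen P).trans (BTwo.normalizer_le_normalizer_centralizer _))) ?_
    exact inf_normalizer_le_normalizer_inf
  exact (mem_normalizer_iff.1 (h1 hg) v).1 hv

/-- the elements of `P` which centralise `V / D` -/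
def Ker (S P : Subgroup G) : Subgroup G where
  carrier := {g | g ∈ P ∧ ∀ v ∈ zl S P, g * v * g⁻¹ * v⁻¹ ∈ cv S P}
  mul_mem' := by
    rintro a b ⟨ha, ha'⟩ ⟨hb, hb'⟩
    refine ⟨mul_mem ha hb, fun v hv => ?_⟩
    have h1 := ha' _ (conjZ hb hv)
    have e : a * b * v * (a * b)⁻¹ * v⁻¹ = (a * (b * v * b⁻¹) * a⁻¹ * (b * v * b⁻¹)⁻¹) * (b * v * b⁻¹ * v⁻¹) := by
      group
    rw [e]
    exact mul_mem h1 (hb' v hv)
  one_mem' := ⟨one_mem _, fun v _ => by simp⟩
  inv_mem' := by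
    rintro a ⟨ha, ha'⟩
    refine ⟨inv_mem ha, fun v hv => ?_⟩
    have h1 := ha' _ (conjZ (inv_mem ha) hv)
    have e : a⁻¹ * v * a⁻¹⁻¹ * v⁻¹ = (a * (a⁻¹ * v * a⁻¹⁻¹) * a⁻¹ * (a⁻¹ * v * a⁻¹⁻¹)⁻¹)⁻¹ := by group
    rw [e]
    exact inv_mem h1

theorem Ker_le : Ker S P ≤ P := fun _ h => h.1

theorem Ker_conj {g x : G} (hg : g ∈ P) (hx : x ∈ Ker S P) : g * x * g⁻¹ ∈ Ker S P := by
  refine ⟨mul_mem (mul_mem hg hx.1) (inv_mem hg), fun v hv => ?_⟩
  have h1 := conjZ (inv_mem hg) hv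
  have h2 := conjD hg (hx.2 _ h1)
  have e : g * x * g⁻¹ * v * (g * x * g⁻¹)⁻¹ * v⁻¹ =
      g * (x * (g⁻¹ * v * g⁻¹⁻¹) * x⁻¹ * (g⁻¹ * v * g⁻¹⁻¹)⁻¹) * g⁻¹ := by group
  rw [e]
  exact h2

theorem Ker_norm : P ≤ normalizer (Ker S P : Set G) := by
  intro g hg
  rw [mem_normalizer_iff]
  intro x
  refine ⟨Ker_conj hg, fun h => ?_⟩
  have h1 := Ker_conj (inv_mem hg) h
  have e : g⁻¹ * (g * x * g⁻¹) * g⁻¹⁻¹ = x := by group
  rwa [e] at h1

section par

variable [Finite G] (hG : IsCharacteristicTwoType G) (S : Sylow 2 G) {P : Subgroup G}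
  (h : IsParS (S : Subgroup G) P)

include hG h

theorem zl_sq' {v : G} (hv : v ∈ zl (S : Subgroup G) P) : v * v = 1 := by
  have := zc_sq _ _ (h.isLoc.zl_le S hG hv)
  rwa [pow_two] at this

theorem zl_comm' {v w : G} (hv : v ∈ zl (S : Subgroup G) P) (hw : w ∈ zl (S : Subgroup G) P) :
    v * w = w * v :=
  zc_comm _ _ (h.isLoc.zl_le S hG hv) _ (h.isLoc.zl_le S hG hw)

omit [Finite G] hG h in
/-- the square of an element which centralises its commutators with `V` -/
theorem sq_comm {S P : Subgroup G} {k : G} (hsq : ∀ v ∈ zl S P, v * v = 1)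
    (hk : ∀ v ∈ zl S P, k * v * k⁻¹ * v⁻¹ ∈ zl S P ∧
      k * (k * v * k⁻¹ * v⁻¹) = (k * v * k⁻¹ * v⁻¹) * k) :
    k ^ 2 ∈ centralizer (zl S P : Set G) := by
  rw [mem_centralizer_iff]
  intro v hv
  obtain ⟨h2, h3⟩ := hk v hv
  have h4 : k ^ 2 * v * (k ^ 2)⁻¹ = v := by
    calc k ^ 2 * v * (k ^ 2)⁻¹ = k * (k * v * k⁻¹ * v⁻¹) * v * k⁻¹ := by rw [pow_two]; group
      _ = (k * v * k⁻¹ * v⁻¹) * (k * v * k⁻¹ * v⁻¹) * v := by rw [h3]; group
      _ = v := by rw [hsq _ h2, one_mul]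
  rw [mul_inv_eq_iff_eq_mul] at h4
  exact h4.symm

/-- `S ∩ C_P(V / D) ≤ C(V)` -/
theorem comm_of_sec {a : G} (ha : a ∈ (S : Subgroup G))
    (hc : ∀ v ∈ zl (S : Subgroup G) P, a * v * a⁻¹ * v⁻¹ ∈ cv (S : Subgroup G) P) :
    ∀ v ∈ zl (S : Subgroup G) P, a * v = v * a := by
  have hSyl := MinSimple.Basic.not_dvd_relIndex S h.le
  have h1 : (S : Subgroup G) ⊓ Ker (S : Subgroup G) P ≤ o2 P := by
    rcases h.toIsPar.sup_eq_or_inf_le S (Ker_le (S := (S : Subgroup G)) (P := P)) Ker_norm with h2 | h2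
    · exfalso
      have h3 : oddGen P ≤ Ker (S : Subgroup G) P :=
        oddGen_le_of_sup Ker_norm h2.symm.le h.le Ker_le S.isPGroup'
      -- `O²(P)` centralises `V`
      have h4 : oddGen P ≤ centralizer (zl (S : Subgroup G) P : Set G) := by
        rw [oddGen_def, closure_le]
        rintro x ⟨hx, ho⟩
        have hxo := mem_oddGen hx ho
        have h5 : x ^ 2 ∈ centralizer (zl (S : Subgroup G) P : Set G) := by
          apply sq_comm (fun v hv => zl_sq' hG S h hv)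
          intro v hv
          have h6 := (h3 hxo).2 v hv
          exact ⟨h6.1, mem_centralizer_iff.1 h6.2 x hxo⟩
        obtain ⟨j, hj⟩ := ho
        have h6 : x = ((x ^ 2) ^ j)⁻¹ := by
          rw [eq_inv_iff_mul_eq_one, ← pow_mul, ← pow_succ', ← hj, pow_orderOf_eq_one]
        rw [SetLike.mem_coe, h6]
        exact inv_mem (pow_mem h5 j)
      apply h.not_zc
      have h5 : P ≤ centralizer (zc (S : Subgroup G) : Set G) := by
        conv_lhs => rw [← oddGen_sup h.le hSyl]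
        refine sup_le (h4.trans (centralizer_le (zc_le_zl _ _))) ?_
        intro s hs
        rw [mem_centralizer_iff]
        exact fun z hz => ((mem_zc.1 hz).2.1 s hs).symm
      exact h5.trans (centralizer_le_normalizer _)
    · exact h2
  have h2 : a ∈ o2 P := h1 ⟨ha, h.le ha, hc⟩
  rw [← IsParS.inf_centralizer S hG h] at h2
  intro v hv
  exact (mem_centralizer_iff.1 h2.2 v hv).symm

/-- a 2-element of `P` which centralises `V / D` centralises `V` -/
theorem comm_of_sec_two {u : G} (hu2 : ∃ a : ℕ, u ^ 2 ^ a = 1) (hk : u ∈ Ker (S : Subgroup G) P) :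
    ∀ v ∈ zl (S : Subgroup G) P, u * v = v * u := by
  obtain ⟨a, ha⟩ := hu2
  have hz : IsPGroup 2 (zpowers u) := by
    rintro ⟨x, n, rfl⟩
    refine ⟨a, Subtype.ext ?_⟩
    change (u ^ n) ^ 2 ^ a = 1
    rw [← zpow_natCast, ← zpow_mul, mul_comm, zpow_mul, zpow_natCast, ha, one_zpow]
  obtain ⟨p, hp, h1⟩ := FFThm.exists_conj_le S h.le hz (zpowers_le.2 hk.1)
  have h2 : p * u * p⁻¹ ∈ (S : Subgroup G) := h1 ⟨u, mem_zpowers u, rfl⟩
  have h3 : p * u * p⁻¹ ∈ Ker (S : Subgroup G) P := Ker_conj hp hk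
  have h4 := comm_of_sec hG S h h2 h3.2
  intro v hv
  have h5 := h4 _ (conjZ hp hv)
  have e : u * v = p⁻¹ * (p * u * p⁻¹ * (p * v * p⁻¹)) * p := by group
  rw [e, h5]
  group

/-- **an element of `P` which centralises `V / D` and `D` centralises `V`** -/
theorem comm_of_both {k : G} (hk : k ∈ Ker (S : Subgroup G) P)
    (hkD : ∀ d ∈ cv (S : Subgroup G) P, k * d = d * k) :
    ∀ v ∈ zl (S : Subgroup G) P, k * v = v * k := by
  have hsq : k ^ 2 ∈ centralizer (zl (S : Subgroup G) P : Set G) := by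
    apply sq_comm (fun v hv => zl_sq' hG S h hv)
    intro v hv
    have h6 := hk.2 v hv
    exact ⟨h6.1, hkD _ h6⟩
  obtain ⟨a, m, hm, ha⟩ := Nat.exists_eq_pow_mul_and_not_dvd (orderOf_pos k).ne' 2 (by norm_num)
  have hkm : k ^ m ∈ centralizer (zl (S : Subgroup G) P : Set G) := by
    rw [mem_centralizer_iff]
    intro v hv
    refine (comm_of_sec_two hG S h ⟨a, ?_⟩ (pow_mem hk m) v hv).symm
    rw [← pow_mul, mul_comm, ← ha, pow_orderOf_eq_one]
  have hodd : Odd m := Nat.not_even_iff_odd.1 fun h => hm h.two_dvd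
  obtain ⟨j, hj⟩ := hodd
  have h2 : k = k ^ m * ((k ^ 2) ^ j)⁻¹ := by
    rw [hj, pow_succ', ← pow_mul, mul_inv_cancel_right]
  have h3 : k ∈ centralizer (zl (S : Subgroup G) P : Set G) := by
    rw [h2]
    exact mul_mem hkm (inv_mem (pow_mem hsq j))
  intro v hv
  exact (mem_centralizer_iff.1 h3 v hv).symm

/-- an element `g` which centralises `D`, with `g³` trivial on `V / D`, and fixes `x D`, fixes `x` -/
theorem fix_of_cube {g x : G} (hgD : ∀ d ∈ cv (S : Subgroup G) P, g * d = d * g)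
    (h3 : g ^ 3 ∈ Ker (S : Subgroup G) P) (hx : x ∈ zl (S : Subgroup G) P)
    (hfix : g * x * g⁻¹ * x⁻¹ ∈ cv (S : Subgroup G) P) : g * x = x * g := by
  have h3D : ∀ d ∈ cv (S : Subgroup G) P, g ^ 3 * d = d * g ^ 3 := fun d hd =>
    ((show Commute g d from hgD d hd).pow_left 3)
  have h4 := comm_of_both hG S h h3 h3D x hx
  set d := g * x * g⁻¹ * x⁻¹ with hd
  have e1 : g * x * g⁻¹ = d * x := by rw [hd]; group
  have hgd : g * d * g⁻¹ = d := by rw [hgD d hfix]; group
  have e2 : g ^ 3 * x * (g ^ 3)⁻¹ = d * (d * (d * x)) := by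
    calc g ^ 3 * x * (g ^ 3)⁻¹ = g * (g * (g * x * g⁻¹) * g⁻¹) * g⁻¹ := by
          rw [pow_succ, pow_two]; group
      _ = g * (g * (d * x) * g⁻¹) * g⁻¹ := by rw [e1]
      _ = g * ((g * d * g⁻¹) * (g * x * g⁻¹)) * g⁻¹ := by group
      _ = g * (d * (d * x)) * g⁻¹ := by rw [hgd, e1]
      _ = (g * d * g⁻¹) * ((g * d * g⁻¹) * (g * x * g⁻¹)) := by group
      _ = d * (d * (d * x)) := by rw [hgd, e1]
  have e3 : g ^ 3 * x * (g ^ 3)⁻¹ = x := by rw [h4]; group
  have hdd : d * d = 1 := zl_sq' hG S h hfix.1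
  have e4 : d * x = x := by
    rw [e3] at e2
    calc d * x = (d * d) * (d * x) := by rw [hdd, one_mul]
      _ = d * (d * (d * x)) := by group
      _ = x := e2.symm
  rw [e4] at e1
  calc g * x = (g * x * g⁻¹) * g := by group
    _ = x * g := by rw [e1]

/-- `a`, `g` centralise `D` and commute on `V / D`, `a` fixes `v D`: then `a` fixes `[g, v]` -/
theorem fix_of_comm {a g v : G} (hg : g ∈ P)
    (haD : ∀ d ∈ cv (S : Subgroup G) P, a * d = d * a) (hgD : ∀ d ∈ cv (S : Subgroup G) P, g * d = d * g)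
    (hk : a * g * a⁻¹ * g⁻¹ ∈ Ker (S : Subgroup G) P) (hv : v ∈ zl (S : Subgroup G) P)
    (hfix : a * v * a⁻¹ * v⁻¹ ∈ cv (S : Subgroup G) P) :
    a * (g * v * g⁻¹ * v⁻¹) = (g * v * g⁻¹ * v⁻¹) * a := by
  have hcD : ∀ d ∈ cv (S : Subgroup G) P, (a * g * a⁻¹ * g⁻¹) * d = d * (a * g * a⁻¹ * g⁻¹) := by
    intro d hd
    have ca : Commute a d := haD d hd
    have cg : Commute g d := hgD d hd
    exact ((ca.mul_left cg).mul_left ca.inv_left).mul_left cg.inv_left
  have hc := comm_of_both hG S h hk hcD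
  set c := a * g * a⁻¹ * g⁻¹ with hcdef
  set d := a * v * a⁻¹ * v⁻¹ with hddef
  have e1 : a * v * a⁻¹ = d * v := by rw [hddef]; group
  have e2 : a * g * a⁻¹ = c * g := by rw [hcdef]; group
  have hgv : g * v * g⁻¹ ∈ zl (S : Subgroup G) P := conjZ hg hv
  have hdg : d * g = g * d := (hgD d hfix).symm
  have e3 : a * (g * v * g⁻¹ * v⁻¹) * a⁻¹ = g * v * g⁻¹ * v⁻¹ := by
    calc a * (g * v * g⁻¹ * v⁻¹) * a⁻¹ = (a * g * a⁻¹) * (a * v * a⁻¹) * (a * g * a⁻¹)⁻¹ * (a * v * a⁻¹)⁻¹ := by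
          group
      _ = (c * g) * (d * v) * (c * g)⁻¹ * (d * v)⁻¹ := by rw [e1, e2]
      _ = c * (g * d * v * g⁻¹) * c⁻¹ * v⁻¹ * d⁻¹ := by group
      _ = c * (d * (g * v * g⁻¹)) * c⁻¹ * v⁻¹ * d⁻¹ := by rw [← hdg]; group
      _ = (d * (g * v * g⁻¹)) * v⁻¹ * d⁻¹ := by rw [hc _ (mul_mem hfix.1 hgv)]; group
      _ = d * ((g * v * g⁻¹) * v⁻¹) * d⁻¹ := by group
      _ = ((g * v * g⁻¹) * v⁻¹) * d * d⁻¹ := by rw [zl_comm' hG S h hfix.1 (mul_mem hgv (inv_mem hv))]
      _ = g * v * g⁻¹ * v⁻¹ := by group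
  calc a * (g * v * g⁻¹ * v⁻¹) = (a * (g * v * g⁻¹ * v⁻¹) * a⁻¹) * a := by group
    _ = (g * v * g⁻¹ * v⁻¹) * a := by rw [e3]

end par

end Cfsg.Agent.Omega.All.HOne
end

-- part: Mrg/Omega/NOThreeL/VF/One
section
prune_inst 0x48001422020000180000e0003c02e0000000000b080171000a0006063c408041862140800900001000000000002000440050001800000000000000010020802240001200a104260009803003180c00000000000000000000000000041000200000000
set_option linter.all false
open scoped Cfsg.Agent.FastGrp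


/-!
# THEOREM VF, (1) (#16966, helper597)

`M ∈ L(S)` is generated by the members of `P*(S)` in `M`, `V = zl S M`.

* `le_o2_of_cj`, `gallery` : a 2-subgroup `A` of `M` with `[V, A] ≠ 1` is `M`-conjugate to a subgroup of `S` which
  does not centralise `V_P` for some `P ∈ P*(S)`, `P ≤ M`;
* `exists_two` : a subgroup `A ≤ M` which acts on `V` as an elementary abelian 2-group may be replaced by a
  2-subgroup;
* `one` : if `M` has an offender on `V`, then no subgroup of `M` over-offends on `V`, and there are `P` and an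
  offender `A ≤ S` on `V` and on `V_P` with `C_A(V_P) = C_A(V)`; the conclusion of the FF theorem holds for `P`.
-/

set_option autoImplicit false
set_option linter.unusedSectionVars false

namespace Cfsg.Agent.Omega.NOThreeL.VF

open Subgroup Cfsg Cfsg.Agent.ZN Cfsg.Agent.ZN.ChoiceBase Cfsg.Agent.ZN.ChoiceSit Cfsg.Agent.Omega.MinPar
open Cfsg.Agent.Omega.FFThm
open Cfsg.Agent.MinSimple.VModule (zl_le le_normalizer_zl zc_le_zl mem_zc le_o2 o2_isPGroup le_normalizer_o2)

universe u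

variable {G : Type u} [Group G] [Finite G]

theorem card_mul_card_le {H K L : Subgroup G} (hH : H ≤ L) (hK : K ≤ L) :
    Nat.card H * Nat.card K ≤ Nat.card L * Nat.card (H ⊓ K : Subgroup G) := by
  rw [← Lib.ProductSet.card_mul_card_inf H K]
  refine Nat.mul_le_mul_right _ ?_
  refine Nat.card_mono (Set.toFinite _) ?_
  rintro _ ⟨h, hh, k, hk, rfl⟩
  exact L.mul_mem (hH hh) (hK hk)

/-! ### Galleries -/

/-- A subgroup of all `S^m`, `m ∈ M`, lies in `O₂(M)`. -/
theorem le_o2_of_cj (S : Sylow 2 G) {M A : Subgroup G} (hS : (S : Subgroup G) ≤ M)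
    (h : ∀ m ∈ M, cj m⁻¹ A ≤ (S : Subgroup G)) : A ≤ o2 M := by
  let U : Subgroup G :=
    { carrier := {x | ∀ m ∈ M, m⁻¹ * x * m ∈ (S : Subgroup G)}
      mul_mem' := by
        intro a b ha hb m hm
        have e : m⁻¹ * (a * b) * m = (m⁻¹ * a * m) * (m⁻¹ * b * m) := by group
        rw [e]
        exact mul_mem (ha m hm) (hb m hm)
      one_mem' := by
        intro m _
        have e : m⁻¹ * 1 * m = 1 := by group
        rw [e]
        exact one_mem _
      inv_mem' := by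
        intro a ha m hm
        have e : m⁻¹ * a⁻¹ * m = (m⁻¹ * a * m)⁻¹ := by group
        rw [e]
        exact inv_mem (ha m hm) }
  have mU : ∀ x, x ∈ U ↔ ∀ m ∈ M, m⁻¹ * x * m ∈ (S : Subgroup G) := fun x => Iff.rfl
  have hUS : U ≤ (S : Subgroup G) := by
    intro x hx
    have h1 := (mU x).1 hx 1 (one_mem _)
    simpa using h1
  have hn : M ≤ normalizer (U : Set G) := by
    intro g hg
    rw [mem_normalizer_iff]
    intro x
    constructor
    · intro hx m hm
      have h1 := (mU x).1 hx (g⁻¹ * m) (mul_mem (inv_mem hg) hm)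
      have e : (g⁻¹ * m)⁻¹ * x * (g⁻¹ * m) = m⁻¹ * (g * x * g⁻¹) * m := by group
      rwa [e] at h1
    · intro hx m hm
      have h1 := (mU _).1 hx (g * m) (mul_mem hg hm)
      have e : (g * m)⁻¹ * (g * x * g⁻¹) * (g * m) = m⁻¹ * x * m := by group
      rwa [e] at h1
  have hAU : A ≤ U := by
    intro a ha m hm
    refine h m hm ?_
    rw [mem_cj]
    have e : m⁻¹⁻¹ * (m⁻¹ * a * m) * m⁻¹ = a := by group
    rwa [e]
  exact hAU.trans (le_o2 (hUS.trans hS) (S.isPGroup'.to_le hUS) hn)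

/-- A 2-subgroup `A ≤ M` moving `V = ⟨Z^M⟩` moves some line `V_P`, `P ∈ P*(T)`, `A ≤ T ∈ Syl₂(M)`. -/
theorem gallery (hc : IsCharacteristicTwoType G) (S : Sylow 2 G) {M : Subgroup G}
    (hM : IsLoc (S : Subgroup G) M) (hgen : M ≤ sSup {P | IsParS (S : Subgroup G) P ∧ P ≤ M})
    {A : Subgroup G} (hA : A ≤ M) (hA2 : IsPGroup 2 A)
    (hne : ¬ A ≤ centralizer (zl (S : Subgroup G) M : Set G)) :
    ∃ m ∈ M, ∃ P, IsParS (S : Subgroup G) P ∧ P ≤ M ∧ cj m A ≤ (S : Subgroup G) ∧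
      ¬ cj m A ≤ centralizer (zl (S : Subgroup G) P : Set G) := by
  by_contra hcon
  push Not at hcon
  apply hne
  -- all conjugates of `A` lie in `S`
  let Y : Subgroup G :=
    { carrier := {g | ∀ m, cj m A ≤ (S : Subgroup G) ∧ m ∈ M ↔ cj (g * m) A ≤ (S : Subgroup G) ∧ g * m ∈ M}
      mul_mem' := by
        intro a b ha hb m
        have h1 := hb m
        have h2 := ha (b * m)
        rw [← mul_assoc] at h2
        exact h1.trans h2
      one_mem' := by intro m; rw [one_mul]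
      inv_mem' := by
        intro a ha m
        have h1 := ha (a⁻¹ * m)
        have e : a * (a⁻¹ * m) = m := by group
        rw [e] at h1
        exact h1.symm }
  have key : ∀ P, IsParS (S : Subgroup G) P → P ≤ M → ∀ p ∈ P, ∀ m, cj m A ≤ (S : Subgroup G) → m ∈ M →
      cj (p * m) A ≤ (S : Subgroup G) ∧ p * m ∈ M := by
    intro P hP hPM p hp m hm hmM
    refine ⟨?_, mul_mem (hPM hp) hmM⟩
    have h1 := hcon m hmM P hP hPM hm
    have h2 : cj m A ≤ o2 P := by
      rw [← hP.inf_centralizer S hc]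
      exact le_inf hm h1
    have h3 := h2.trans (FrameNOFF.o2_le_conj S hP.toIsPar (P.inv_mem hp))
    have h4 := cj_mono p h3
    rw [cj_cj] at h4
    refine h4.trans ?_
    intro x hx
    rw [mem_cj] at hx
    change p⁻¹ * x * p ∈ cj p⁻¹ (S : Subgroup G) at hx
    rw [mem_cj] at hx
    have e : p⁻¹⁻¹ * (p⁻¹ * x * p) * p⁻¹ = x := by group
    rwa [e] at hx
  have hY : ∀ P, IsParS (S : Subgroup G) P → P ≤ M → P ≤ Y := by
    intro P hP hPM p hp m
    constructor
    · rintro ⟨h1, h2⟩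
      exact key P hP hPM p hp m h1 h2
    · rintro ⟨h1, h2⟩
      have h3 := key P hP hPM p⁻¹ (inv_mem hp) (p * m) h1 h2
      have e : p⁻¹ * (p * m) = m := by group
      rwa [e] at h3
  have hMY : M ≤ Y := hgen.trans (sSup_le fun P hP => hY P hP.1 hP.2)
  obtain ⟨m₀, hm₀, hA₀⟩ := exists_conj_le S hM.le hA2 hA
  have hall : ∀ m ∈ M, cj m⁻¹ A ≤ (S : Subgroup G) := by
    intro m hm
    have h1 := (hMY (mul_mem (inv_mem hm) (inv_mem hm₀)) : _ ∈ Y) m₀
    have h2 := (h1.1 ⟨hA₀, hm₀⟩).1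
    have e : m⁻¹ * m₀⁻¹ * m₀ = m⁻¹ := by group
    rwa [e] at h2
  have h1 := le_o2_of_cj S hM.le hall
  have h2 := hM.zl_le S hc
  intro a ha
  rw [mem_centralizer_iff]
  intro v hv
  exact ((Cfsg.Agent.MinSimple.VModule.mem_zc.1 (h2 hv)).2.1 a (h1 ha)).symm

/-! ### 2-subgroups -/

omit [Finite G] in
theorem elemM_mono {V A B : Subgroup G} (h : ElemM V A) (hB : B ≤ A) : ElemM V B :=
  ⟨fun a ha => h.sq a (hB ha), fun a ha b hb => h.comm a (hB ha) b (hB hb)⟩

/-- Replace `A` by a 2-subgroup. -/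
theorem exists_two {V A : Subgroup G} (hAV : A ≤ normalizer (V : Set G)) (h : ElemM V A) :
    ∃ B ≤ A, IsPGroup 2 B ∧ ∀ a ∈ A, ∃ b ∈ B, b⁻¹ * a ∈ centralizer (V : Set G) := by
  have h2 : Fact (Nat.Prime 2) := ⟨Nat.prime_two⟩
  obtain ⟨Q⟩ : Nonempty (Sylow 2 A) := inferInstance
  set N : Subgroup A := (centralizer (V : Set G)).subgroupOf A with hN
  have hNn : N.Normal := by
    refine ⟨fun n hn g => ?_⟩
    rw [hN, mem_subgroupOf] at hn ⊢
    rw [mem_centralizer_iff] at hn ⊢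
    intro v hv
    have h3 := hn (g.1⁻¹ * v * g.1) ((mem_normalizer_iff''.1 (hAV g.2) v).1 hv)
    push_cast
    have e1 : v * (g.1 * n.1 * g.1⁻¹) = g.1 * (g.1⁻¹ * v * g.1 * n.1) * g.1⁻¹ := by group
    rw [e1, h3]
    group
  have hp : IsPGroup 2 (A ⧸ N) := by
    intro x
    refine ⟨1, ?_⟩
    obtain ⟨a, rfl⟩ := QuotientGroup.mk_surjective x
    rw [← QuotientGroup.mk_pow, QuotientGroup.eq_one_iff, hN, mem_subgroupOf]
    have := h.sq a a.2
    simpa using this
  obtain ⟨n, hn⟩ := hp.exists_card_eq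
  have h3 : ((Q : Subgroup A) ⊔ N).index ∣ 2 ^ n := by
    have h4 := Subgroup.index_dvd_of_le (le_sup_right : N ≤ (Q : Subgroup A) ⊔ N)
    rwa [Subgroup.index_eq_card N, hn] at h4
  have h5 : ((Q : Subgroup A) ⊔ N).index ∣ (Q : Subgroup A).index := Subgroup.index_dvd_of_le le_sup_left
  have h6 : ¬ 2 ∣ (Q : Subgroup A).index := Q.not_dvd_index
  have h7 : ((Q : Subgroup A) ⊔ N).index = 1 := by
    obtain ⟨j, -, hj⟩ := (Nat.dvd_prime_pow Nat.prime_two).1 h3
    rcases Nat.eq_zero_or_pos j with h8 | h8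
    · rw [hj, h8, pow_zero]
    · exact absurd ((dvd_pow_self 2 h8.ne').trans (hj ▸ h5)) h6
  rw [Subgroup.index_eq_one] at h7
  refine ⟨(Q : Subgroup A).map A.subtype, ?_, Q.isPGroup'.map _, fun a ha => ?_⟩
  · rintro _ ⟨x, -, rfl⟩
    exact x.2
  · have h8 : (⟨a, ha⟩ : A) ∈ (Q : Subgroup A) ⊔ N := h7 ▸ mem_top _
    obtain ⟨q, hq, m, hm, hqm⟩ := Subgroup.mem_sup_of_normal_right.1 h8
    refine ⟨q.1, ⟨q, hq, rfl⟩, ?_⟩
    have h9 : q.1 * m.1 = a := congrArg Subtype.val hqm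
    have e : q.1⁻¹ * a = m.1 := by rw [← h9]; group
    rw [e]
    exact mem_subgroupOf.1 hm

/-- `f(A) = |A : C_A(V)| |C_V(A)|` -/
noncomputable def fM (V A : Subgroup G) : ℕ :=
  (centralizer (V : Set G)).relIndex A * Nat.card ↥(V ⊓ centralizer (A : Set G))

theorem card_eq_rel (V A : Subgroup G) :
    Nat.card A = (centralizer (V : Set G)).relIndex A * Nat.card ↥(A ⊓ centralizer (V : Set G)) := by
  have e := relIndex_inf_mul_relIndex (⊥ : Subgroup G) (centralizer (V : Set G)) A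
  rw [relIndex_bot_left, bot_inf_eq, relIndex_bot_left, mul_comm, inf_comm] at e
  exact e.symm

theorem fM_mul (V A : Subgroup G) :
    fM V A * Nat.card ↥(A ⊓ centralizer (V : Set G)) = Nat.card A * Nat.card ↥(V ⊓ centralizer (A : Set G)) := by
  rw [card_eq_rel V A, fM]
  ring

theorem fM_le_iff {V A : Subgroup G} : fM V A ≤ Nat.card V ↔
    Nat.card A * Nat.card ↥(V ⊓ centralizer (A : Set G)) ≤
      Nat.card V * Nat.card ↥(A ⊓ centralizer (V : Set G)) := by
  rw [← fM_mul]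
  have h : 0 < Nat.card ↥(A ⊓ centralizer (V : Set G)) := Nat.card_pos
  exact (Nat.mul_le_mul_right_iff h).symm

theorem le_fM_iff {V A : Subgroup G} : Nat.card V ≤ fM V A ↔
    Nat.card V * Nat.card ↥(A ⊓ centralizer (V : Set G)) ≤
      Nat.card A * Nat.card ↥(V ⊓ centralizer (A : Set G)) := by
  rw [← fM_mul V A]
  have h : 0 < Nat.card ↥(A ⊓ centralizer (V : Set G)) := Nat.card_pos
  exact (Nat.mul_le_mul_right_iff h).symm

theorem fM_of_le {V A : Subgroup G} (h : A ≤ centralizer (V : Set G)) : fM V A = Nat.card V := by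
  have h1 : V ⊓ centralizer (A : Set G) = V := inf_eq_left.2 (le_centralizer_iff.1 h)
  rw [fM, relIndex_eq_one.2 h, one_mul, h1]

theorem fM_cj {V A : Subgroup G} {m : G} (hm : m ∈ normalizer (V : Set G)) :
    fM V (cj m A) = fM V A ∧
      (centralizer (V : Set G)).relIndex (cj m A) = (centralizer (V : Set G)).relIndex A := by
  have h3 : cj m V = V := cj_eq_of_mem_normalizer hm
  have h4 : V ⊓ centralizer (cj m A : Set G) = cj m (V ⊓ centralizer (A : Set G)) := by
    rw [cj_inf, cj_centralizer, h3]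
  have h5 : cj m A ⊓ centralizer (V : Set G) = cj m (A ⊓ centralizer (V : Set G)) := by
    rw [cj_inf, cj_centralizer, h3]
  have h6 : (centralizer (V : Set G)).relIndex (cj m A) = (centralizer (V : Set G)).relIndex A := by
    have e1 := card_eq_rel V (cj m A)
    have e2 := card_eq_rel V A
    rw [h5, card_cj, card_cj, e2] at e1
    exact (Nat.eq_of_mul_eq_mul_right Nat.card_pos e1).symm
  refine ⟨?_, h6⟩
  rw [fM, fM, h6, h4, card_cj]

/-- Equality of images gives equality of `f`. -/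
theorem fM_congr {V A B : Subgroup G} (hB : B ≤ A)
    (h : ∀ a ∈ A, ∃ b ∈ B, b⁻¹ * a ∈ centralizer (V : Set G)) : fM V B = fM V A := by
  have h1 : V ⊓ centralizer (B : Set G) = V ⊓ centralizer (A : Set G) := by
    apply le_antisymm
    · intro v hv
      rw [mem_inf] at hv ⊢
      refine ⟨hv.1, mem_centralizer_iff.2 fun a ha => ?_⟩
      obtain ⟨b, hb, hab⟩ := h a ha
      have h2 := mem_centralizer_iff.1 hv.2 b hb
      have h3 := mem_centralizer_iff.1 hab v hv.1
      calc a * v = b * (b⁻¹ * a * v) := by group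
        _ = b * (v * (b⁻¹ * a)) := by rw [h3]
        _ = (b * v) * (b⁻¹ * a) := by group
        _ = (v * b) * (b⁻¹ * a) := by rw [h2]
        _ = v * a := by group
    · exact inf_le_inf le_rfl (centralizer_le hB)
  have h2 : (centralizer (V : Set G)).relIndex B = (centralizer (V : Set G)).relIndex A := by
    have h3 := card_mul_card_le (H := B) (K := A ⊓ centralizer (V : Set G)) (L := A) hB inf_le_left
    have e1 := card_eq_rel V A
    have e2 := card_eq_rel V B
    have e3 : B ⊓ (A ⊓ centralizer (V : Set G)) = B ⊓ centralizer (V : Set G) := by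
      rw [← inf_assoc, inf_eq_left.2 hB]
    -- `|A| |B ∩ C| = |B| |A ∩ C|`
    have h4 : Nat.card A * Nat.card ↥(B ⊓ centralizer (V : Set G)) =
        Nat.card B * Nat.card ↥(A ⊓ centralizer (V : Set G)) := by
      have h5 := Lib.ProductSet.card_mul_card_inf B (A ⊓ centralizer (V : Set G))
      rw [e3] at h5
      rw [← h5]
      congr 1
      refine Nat.card_congr (Equiv.setCongr ?_)
      ext x
      constructor
      · intro hx
        obtain ⟨b, hb, hab⟩ := h x hx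
        exact ⟨b, hb, b⁻¹ * x, mem_inf.2 ⟨A.mul_mem (A.inv_mem (hB hb)) hx, hab⟩, by simp⟩
      · rintro ⟨b, hb, c, hc, rfl⟩
        exact mul_mem (hB hb) (mem_inf.1 hc).1
    rw [e1, e2] at h4
    have h6 : 0 < Nat.card ↥(A ⊓ centralizer (V : Set G)) := Nat.card_pos
    have h7 : 0 < Nat.card ↥(B ⊓ centralizer (V : Set G)) := Nat.card_pos
    have h8 : (Nat.card ↥(A ⊓ centralizer (V : Set G)) * Nat.card ↥(B ⊓ centralizer (V : Set G))) *
        (centralizer (V : Set G)).relIndex A =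
        (Nat.card ↥(A ⊓ centralizer (V : Set G)) * Nat.card ↥(B ⊓ centralizer (V : Set G))) *
        (centralizer (V : Set G)).relIndex B := by linarith
    exact (Nat.eq_of_mul_eq_mul_left (Nat.mul_pos h6 h7) h8).symm
  rw [fM, fM, h1, h2]

/-! ### (1) -/

theorem elemM_cj {V A : Subgroup G} {m : G} (hm : m ∈ normalizer (V : Set G)) (h : ElemM V A) :
    ElemM V (cj m A) := by
  have h3 : cj m V = V := cj_eq_of_mem_normalizer hm
  have h4 : ∀ x, m⁻¹ * x * m ∈ centralizer (V : Set G) → x ∈ centralizer (V : Set G) := by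
    intro x hx
    have h5 : x ∈ cj m (centralizer (V : Set G)) := by rwa [mem_cj]
    rwa [cj_centralizer, h3] at h5
  refine ⟨fun a ha => h4 _ ?_, fun a ha b hb => h4 _ ?_⟩
  · rw [mem_cj] at ha
    have e : m⁻¹ * a ^ 2 * m = (m⁻¹ * a * m) ^ 2 := by rw [sq, sq]; group
    rw [e]
    exact h.sq _ ha
  · rw [mem_cj] at ha hb
    have e : m⁻¹ * (a * b * a⁻¹ * b⁻¹) * m =
        (m⁻¹ * a * m) * (m⁻¹ * b * m) * (m⁻¹ * a * m)⁻¹ * (m⁻¹ * b * m)⁻¹ := by group
    rw [e]
    exact h.comm _ ha _ hb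

/-- The core of (1): `B ≤ S`, `W = V_P ≤ V`, `B₁ = C_B(W)`; `f(B) ≤ f(B₁)`. -/
theorem fM_le {V W B : Subgroup G} (hWV : W ≤ V)
    (hno : Nat.card B * Nat.card ↥(W ⊓ centralizer (B : Set G)) ≤
      Nat.card W * Nat.card ↥(B ⊓ centralizer (W : Set G))) :
    fM V B ≤ fM V (B ⊓ centralizer (W : Set G)) := by
  set B₁ : Subgroup G := B ⊓ centralizer (W : Set G) with hB₁
  have h1 : W ≤ V ⊓ centralizer (B₁ : Set G) :=
    le_inf hWV (le_centralizer_iff.1 inf_le_right)
  have h2 : V ⊓ centralizer (B : Set G) ≤ V ⊓ centralizer (B₁ : Set G) :=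
    inf_le_inf le_rfl (centralizer_le inf_le_left)
  have h3 := card_mul_card_le h1 h2
  have e3 : W ⊓ (V ⊓ centralizer (B : Set G)) = W ⊓ centralizer (B : Set G) := by
    rw [← inf_assoc, inf_eq_left.2 hWV]
  rw [e3] at h3
  have e4 : B₁ ⊓ centralizer (V : Set G) = B ⊓ centralizer (V : Set G) := by
    rw [hB₁, inf_assoc, inf_eq_right.2 (centralizer_le (s := (W : Set G)) hWV)]
  have p1 : 0 < Nat.card ↥(W ⊓ centralizer (B : Set G)) := Nat.card_pos
  have p2 : 0 < Nat.card W := Nat.card_pos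
  have p3 : 0 < Nat.card ↥(B ⊓ centralizer (V : Set G)) := Nat.card_pos
  -- `|B| |C_V(B)| ≤ |B₁| |C_V(B₁)|`
  have h5 : Nat.card B * Nat.card ↥(V ⊓ centralizer (B : Set G)) ≤
      Nat.card B₁ * Nat.card ↥(V ⊓ centralizer (B₁ : Set G)) := by
    have h6 : (Nat.card W * Nat.card ↥(W ⊓ centralizer (B : Set G))) *
        (Nat.card B * Nat.card ↥(V ⊓ centralizer (B : Set G))) ≤
        (Nat.card W * Nat.card ↥(W ⊓ centralizer (B : Set G))) *
        (Nat.card B₁ * Nat.card ↥(V ⊓ centralizer (B₁ : Set G))) := by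
      calc _ = (Nat.card B * Nat.card ↥(W ⊓ centralizer (B : Set G))) *
          (Nat.card W * Nat.card ↥(V ⊓ centralizer (B : Set G))) := by ring
        _ ≤ (Nat.card W * Nat.card B₁) *
          (Nat.card ↥(V ⊓ centralizer (B₁ : Set G)) * Nat.card ↥(W ⊓ centralizer (B : Set G))) :=
            Nat.mul_le_mul hno h3
        _ = _ := by ring
    exact Nat.le_of_mul_le_mul_left h6 (Nat.mul_pos p2 p1)
  rw [← fM_mul V B, ← fM_mul V B₁, e4] at h5
  exact Nat.le_of_mul_le_mul_right h5 p3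

/-- **(1)** -/
theorem one (hFF : StmtM.{u}) (hc : IsCharacteristicTwoType G) (S : Sylow 2 G) {M : Subgroup G}
    (hM : IsLoc (S : Subgroup G) M) (hgen : M ≤ sSup {P | IsParS (S : Subgroup G) P ∧ P ≤ M})
    (hoff : ∃ A ≤ M, OffM (zl (S : Subgroup G) M) A) :
    NoOverM (zl (S : Subgroup G) M) M ∧ ∃ P, IsParS (S : Subgroup G) P ∧ P ≤ M ∧ ∃ A ≤ (S : Subgroup G),
      OffM (zl (S : Subgroup G) M) A ∧ OffM (zl (S : Subgroup G) P) A ∧
      A ⊓ centralizer (zl (S : Subgroup G) P : Set G) ≤ centralizer (zl (S : Subgroup G) M : Set G) ∧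
      ConclM (S : Subgroup G) P := by
  classical
  set V : Subgroup G := zl (S : Subgroup G) M with hVd
  have hMV : M ≤ normalizer (V : Set G) := le_normalizer_zl _ _
  -- the class
  let 𝒞 : Set (Subgroup G) := {B | B ≤ M ∧ IsPGroup 2 B ∧ ElemM V B ∧ ¬ B ≤ centralizer (V : Set G)}
  -- replacement
  have hrep : ∀ A ≤ M, ElemM V A → ¬ A ≤ centralizer (V : Set G) → ∃ B ∈ 𝒞, fM V B = fM V A := by
    intro A hA hE hne
    obtain ⟨B, hB, hB2, h⟩ := exists_two (hA.trans hMV) hE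
    refine ⟨B, ⟨hB.trans hA, hB2, elemM_mono hE hB, fun h1 => hne fun a ha => ?_⟩, fM_congr hB h⟩
    obtain ⟨b, hb, hab⟩ := h a ha
    have h2 := mul_mem (h1 hb) hab
    have e : b * (b⁻¹ * a) = a := by group
    rwa [e] at h2
  obtain ⟨A₀, hA₀M, hA₀⟩ := hoff
  obtain ⟨B₀, hB₀, hfB₀⟩ := hrep A₀ hA₀M hA₀.toElemM hA₀.ne
  have hVf₀ : Nat.card V ≤ fM V B₀ := by
    rw [hfB₀]
    exact le_fM_iff.2 hA₀.le
  obtain ⟨B₁, hB₁, hmax⟩ := Set.exists_max_image 𝒞 (fM V) (Set.toFinite _) ⟨B₀, hB₀⟩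
  obtain ⟨B, ⟨hB, hBf⟩, hmin⟩ := Set.exists_min_image {B | B ∈ 𝒞 ∧ fM V B = fM V B₁}
    (fun B => (centralizer (V : Set G)).relIndex B) (Set.toFinite _) ⟨B₁, hB₁, rfl⟩
  -- move it into `S`
  obtain ⟨m, hm, P, hP, hPM, hmS, hmP⟩ := gallery hc S hM hgen hB.1 hB.2.1 hB.2.2.2
  have hmV := hMV hm
  have hcj := fM_cj (A := B) hmV
  set A : Subgroup G := cj m B with hAd
  have hAM : A ≤ M := hmS.trans hM.le
  have hAE : ElemM V A := elemM_cj hmV hB.2.2.1
  have hWV : zl (S : Subgroup G) P ≤ V := zl_le (Cfsg.Agent.MinSimple.VModule.zc_le_zl _ _) (hPM.trans hMV)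
  set W : Subgroup G := zl (S : Subgroup G) P with hWd
  have hCVW : centralizer (V : Set G) ≤ centralizer (W : Set G) := centralizer_le hWV
  have hAne : ¬ A ≤ centralizer (V : Set G) := fun h => hmP (h.trans hCVW)
  have hAW : ElemM W A := ⟨fun a ha => hCVW (hAE.sq a ha), fun a ha b hb => hCVW (hAE.comm a ha b hb)⟩
  have hfA : fM V A = fM V B₁ := hcj.1.trans hBf
  have hPFF : (∃ A ≤ P, OffM W A) → NoOverM W P ∧ ConclM (S : Subgroup G) P := fun h =>
    hFF G (S : Subgroup G) P (syl_of_sylow S hP.le) hP.toIsMinPar (hP.isLoc.char2 S hc) h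
  -- no over-offender on `W`
  have hno : Nat.card A * Nat.card ↥(W ⊓ centralizer (A : Set G)) ≤
      Nat.card W * Nat.card ↥(A ⊓ centralizer (W : Set G)) := by
    by_contra hcon
    have hoffW : OffM W A := ⟨hAW, hmP, (not_le.1 hcon).le⟩
    exact hcon ((hPFF ⟨A, hmS.trans hP.le, hoffW⟩).1 A (hmS.trans hP.le) hAW)
  have hle := fM_le hWV hno
  set A₁ : Subgroup G := A ⊓ centralizer (W : Set G) with hA₁
  have hA₁V : A₁ ≤ centralizer (V : Set G) := by
    by_contra hcon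
    have hmem : A₁ ∈ 𝒞 := ⟨inf_le_left.trans hAM, (S.isPGroup'.to_le hmS).to_le inf_le_left,
      elemM_mono hAE inf_le_left, hcon⟩
    have h1 := hmax A₁ hmem
    have h2 : fM V A₁ = fM V B₁ := le_antisymm h1 (hfA ▸ hle)
    have h3 := hmin A₁ ⟨hmem, h2⟩
    rw [← hcj.2] at h3
    have e4 : A₁ ⊓ centralizer (V : Set G) = A ⊓ centralizer (V : Set G) := by
      rw [hA₁, inf_assoc, inf_eq_right.2 hCVW]
    have h4 : Nat.card A ≤ Nat.card A₁ := by
      rw [card_eq_rel V A, card_eq_rel V A₁, e4]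
      exact Nat.mul_le_mul_right _ h3
    have h5 : A₁ = A := Subgroup.eq_of_le_of_card_ge inf_le_left h4
    exact hmP (inf_eq_left.1 h5)
  have hfA₁ : fM V A₁ = Nat.card V := fM_of_le hA₁V
  have hfB₁ : fM V B₁ = Nat.card V :=
    le_antisymm (hfA ▸ hfA₁ ▸ hle) (hVf₀.trans (hmax B₀ hB₀))
  have hNO : NoOverM V M := by
    intro D hD hE
    rw [← fM_le_iff]
    by_cases hne : D ≤ centralizer (V : Set G)
    · exact (fM_of_le hne).le
    · obtain ⟨B', hB', h1⟩ := hrep D hD hE hne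
      rw [← h1, ← hfB₁]
      exact hmax B' hB'
  have hfAV : fM V A = Nat.card V := hfA.trans hfB₁
  have hoffV : OffM V A := ⟨hAE, hAne, le_fM_iff.1 hfAV.ge⟩
  have hoffW : OffM W A := by
    refine ⟨hAW, hmP, ?_⟩
    have h3 := card_mul_card_le hWV (inf_le_left : V ⊓ centralizer (A : Set G) ≤ V)
    have e3 : W ⊓ (V ⊓ centralizer (A : Set G)) = W ⊓ centralizer (A : Set G) := by
      rw [← inf_assoc, inf_eq_left.2 hWV]
    rw [e3] at h3
    have h4 := fM_mul V A
    rw [hfAV] at h4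
    have e4 : A₁ = A ⊓ centralizer (V : Set G) := by
      apply le_antisymm
      · exact le_inf inf_le_left hA₁V
      · exact inf_le_inf le_rfl hCVW
    rw [← e4] at h4
    have p1 : 0 < Nat.card V := Nat.card_pos
    have h5 : Nat.card V * (Nat.card W * Nat.card A₁) ≤
        Nat.card V * (Nat.card A * Nat.card ↥(W ⊓ centralizer (A : Set G))) := by
      calc Nat.card V * (Nat.card W * Nat.card A₁) = Nat.card W * (Nat.card V * Nat.card A₁) := by ring
        _ = Nat.card W * (Nat.card A * Nat.card ↥(V ⊓ centralizer (A : Set G))) := by rw [h4]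
        _ = Nat.card A * (Nat.card W * Nat.card ↥(V ⊓ centralizer (A : Set G))) := by ring
        _ ≤ Nat.card A * (Nat.card V * Nat.card ↥(W ⊓ centralizer (A : Set G))) := Nat.mul_le_mul_left _ h3
        _ = _ := by ring
    exact Nat.le_of_mul_le_mul_left h5 p1
  exact ⟨hNO, P, hP, hPM, A, hmS, hoffV, hoffW, hA₁V, (hPFF ⟨A, hmS.trans hP.le, hoffW⟩).2⟩

end Cfsg.Agent.Omega.NOThreeL.VF

private theorem dce_4d0009b32b3a : _root_.True := by
  try have : _root_.True := by simp only [_root_.Cfsg.Agent.Omega.NOThreeL.VF.fM.eq_1]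
  exact _root_.True.intro
end

-- part: Mrg/Omega/NOThreeL/RRed/ClassMod
section
prune_inst 0x8000422020000180000e0003c42f2000000000b080151400a0006863c41a0048621f0e00b0001100074203a8048121800590018000020008a00411904a1842260c29208b104270009c0f803180c00000000000000000000000000041000200000000
set_option linter.all false
open scoped Cfsg.Agent.FastGrp


/-!
# NO-3L, box R: THE CLASS MODULE THEOREM (#24537, helper241)

`M` acts on the elementary abelian 2-group `V`, `S` is a 2-subgroup of `M` of odd index, `V = ⟨C_V(S)^M⟩`; `EE` is a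
set of subgroups of `S` which act as elementary abelian 2-groups. `E_A = ⟨A^M⟩`, `W_A = [V, E_A]`, `C_A = C_V(E_A)`.

* `Bs S M V` : the base; `Bs.dec`, `Bs.split` : `V = [V, E] C_V(E)`, `C_V(S) = C_[V,E](S) C_V(ES)` for every `E ⊴ M`;
  `Bs.le_cent` : a normal subgroup of `M` which acts as a 2-group centralises `V`;
* `Sys S M V EE` : the hypotheses: (D) `dich` : `A ∈ EE`, `U ≤ V` is `M`-invariant: `[U, A] = 1` or `V = U C_V(A)`;
  (mv) every `z ∈ C_V(S)#` is moved: some `A ∈ EE` moves `⟨z^M⟩`;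
* `Sys.dich'` : `U ≤ C_A` or `W_A ≤ U`;
* `Sys.inf_bot`, `Sys.sup_eq` : `V = W_A × C_A`;  `Sys.genW`, `Sys.genC` : both are generated by the conjugates of
  their `S`-fixed points;  `Sys.fix_eq` : `C_V(S) = C_(W_A)(S) × C_(C_A)(S)`;
* `Sys.pair` : `W_A = W_B`, or `W_A ≤ C_B` and `W_B ≤ C_A`;
* `Sys.irr` : `W_A` is irreducible;
* `Sys.le_of_WW`, `Sys.iSup_eq` : `V` is the product of the `W_A`;  `Sys.indep`, `Sys.CC_eq_Rest` : `C_A` is the
  product of the `W_B ≠ W_A`, it meets `W_A` trivially;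
* `conj_WW`, `conj_CC` : conjugation by elements which normalise `M` and `V`.
-/

set_option autoImplicit false
set_option linter.unusedSectionVars false

namespace Cfsg.Agent.Omega.NOThreeL.RRed.CM

open Subgroup
open Cfsg.Agent.Omega.FFThm (ElemM)
open scoped Pointwise commutatorElement

universe u

variable {G : Type u} [Group G]

/-! ### Closures, centralisers modulo `U` -/

theorem mem_norm_iff {g : G} {H : Subgroup G} : g ∈ normalizer (H : Set G) ↔ MulAut.conj g • H = H :=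
  Cfsg.Agent.ZN.ChoiceBase.mem_normalizer_iff_cj

theorem le_cl (A M : Subgroup G) : A ≤ NoFF.Basic.V A M := by
  have := NoFF.Basic.Z_le_V (Z := A) (one_mem M)
  rwa [map_one, one_smul] at this

theorem norm_cl (A M : Subgroup G) : M ≤ normalizer (NoFF.Basic.V A M : Set G) := by
  intro p hp
  rw [mem_norm_iff]
  have := NoFF.Basic.conj_V_mul (Z := A) (P := M) (g := 1) hp
  rw [one_mul, map_one, one_smul] at this
  exact this

theorem cl_le {A M W : Subgroup G} (hA : A ≤ W) (hM : M ≤ normalizer (W : Set G)) : NoFF.Basic.V A M ≤ W := by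
  refine NoFF.Basic.V_le fun p hp => ?_
  rw [← mem_norm_iff.1 (hM hp)]
  exact Subgroup.pointwise_smul_le_pointwise_smul_iff.2 hA

theorem cl_mono {A B : Subgroup G} (M : Subgroup G) (h : A ≤ B) : NoFF.Basic.V A M ≤ NoFF.Basic.V B M :=
  cl_le (h.trans (le_cl B M)) (norm_cl B M)

theorem cl_le_self {A M : Subgroup G} (hA : A ≤ M) : NoFF.Basic.V A M ≤ M := cl_le hA le_normalizer

theorem conj_comm (g : G) (V E : Subgroup G) : MulAut.conj g • (⁅V, E⁆ : Subgroup G) = ⁅MulAut.conj g • V, MulAut.conj g • E⁆ :=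
  Subgroup.map_commutator V E (MulAut.conj g).toMonoidHom

theorem conj_inf (g : G) (H K : Subgroup G) : MulAut.conj g • (H ⊓ K) = MulAut.conj g • H ⊓ MulAut.conj g • K :=
  Cfsg.Agent.ZN.ChoiceBase.cj_inf g H K

theorem conj_cent (g : G) (H : Subgroup G) : MulAut.conj g • centralizer (H : Set G) =
    centralizer ((MulAut.conj g • H : Subgroup G) : Set G) :=
  Cfsg.Agent.ZN.ChoiceBase.cj_centralizer g H

theorem norm_comm {M V E : Subgroup G} (hV : M ≤ normalizer (V : Set G)) (hE : M ≤ normalizer (E : Set G)) :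
    M ≤ normalizer ((⁅V, E⁆ : Subgroup G) : Set G) := by
  intro g hg
  rw [mem_norm_iff, conj_comm, mem_norm_iff.1 (hV hg), mem_norm_iff.1 (hE hg)]

theorem norm_cent {M E : Subgroup G} (hE : M ≤ normalizer (E : Set G)) :
    M ≤ normalizer (centralizer (E : Set G) : Set G) := by
  intro g hg
  rw [mem_norm_iff, conj_cent, mem_norm_iff.1 (hE hg)]

theorem norm_inf {M V E : Subgroup G} (hV : M ≤ normalizer (V : Set G)) (hE : M ≤ normalizer (E : Set G)) :
    M ≤ normalizer ((V ⊓ E : Subgroup G) : Set G) := by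
  intro g hg
  rw [mem_norm_iff, conj_inf, mem_norm_iff.1 (hV hg), mem_norm_iff.1 (hE hg)]

theorem norm_sup {M V E : Subgroup G} (hV : M ≤ normalizer (V : Set G)) (hE : M ≤ normalizer (E : Set G)) :
    M ≤ normalizer ((V ⊔ E : Subgroup G) : Set G) := by
  intro g hg
  rw [mem_norm_iff, Subgroup.smul_sup, mem_norm_iff.1 (hV hg), mem_norm_iff.1 (hE hg)]

theorem norm_iSup {ι : Sort*} {M : Subgroup G} {f : ι → Subgroup G}
    (h : ∀ i, M ≤ normalizer (f i : Set G)) : M ≤ normalizer ((⨆ i, f i : Subgroup G) : Set G) := by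
  have key : ∀ g ∈ M, MulAut.conj g • (⨆ i, f i : Subgroup G) ≤ ⨆ i, f i := by
    intro g hg
    have h1 : MulAut.conj g • (⨆ i, f i : Subgroup G) = ⨆ i, MulAut.conj g • f i :=
      Subgroup.map_iSup (MulAut.conj g).toMonoidHom f
    rw [h1]
    refine iSup_le fun i => ?_
    rw [mem_norm_iff.1 (h i hg)]
    exact le_iSup f i
  intro g hg
  rw [mem_norm_iff]
  refine le_antisymm (key g hg) ?_
  have h1 := key g⁻¹ (inv_mem hg)
  rw [map_inv, Subgroup.pointwise_smul_subset_iff, inv_inv] at h1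
  exact h1

theorem cent_cl {U A M : Subgroup G} (h : A ≤ centralizer (U : Set G)) (hU : M ≤ normalizer (U : Set G)) :
    NoFF.Basic.V A M ≤ centralizer (U : Set G) := cl_le h (norm_cent hU)

/-- the elements of `N(V)` which centralise `V / U` -/
def Kr (V U : Subgroup G) (hUV : U ≤ V) : Subgroup G where
  carrier := {g | g ∈ normalizer (V : Set G) ∧ ∀ v ∈ V, g * v * g⁻¹ * v⁻¹ ∈ U}
  mul_mem' := by
    rintro a b ⟨ha, ha'⟩ ⟨hb, hb'⟩
    refine ⟨mul_mem ha hb, fun v hv => ?_⟩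
    have h1 := hb' v hv
    have h2 := ha' _ (hUV h1)
    have h3 := ha' v hv
    have e : a * b * v * (a * b)⁻¹ * v⁻¹ = (a * (b * v * b⁻¹ * v⁻¹) * a⁻¹ * (b * v * b⁻¹ * v⁻¹)⁻¹) *
      (b * v * b⁻¹ * v⁻¹) * (a * v * a⁻¹ * v⁻¹) := by group
    rw [e]
    exact mul_mem (mul_mem h2 h1) h3
  one_mem' := ⟨one_mem _, fun v _ => by
    have e : (1 : G) * v * 1⁻¹ * v⁻¹ = 1 := by group
    rw [e]; exact one_mem _⟩
  inv_mem' := by
    rintro a ⟨ha, ha'⟩
    refine ⟨inv_mem ha, fun v hv => ?_⟩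
    have hw : a⁻¹ * v * a ∈ V := (mem_normalizer_iff''.1 ha v).1 hv
    have h1 := inv_mem (ha' _ hw)
    have e : (a * (a⁻¹ * v * a) * a⁻¹ * (a⁻¹ * v * a)⁻¹)⁻¹ = a⁻¹ * v * a⁻¹⁻¹ * v⁻¹ := by group
    rwa [e] at h1

theorem mem_Kr {V U : Subgroup G} {hUV : U ≤ V} {g : G} : g ∈ Kr V U hUV ↔
    g ∈ normalizer (V : Set G) ∧ ∀ v ∈ V, g * v * g⁻¹ * v⁻¹ ∈ U := Iff.rfl

theorem norm_Kr {M V U : Subgroup G} (hUV : U ≤ V) (hV : M ≤ normalizer (V : Set G))
    (hU : M ≤ normalizer (U : Set G)) : M ≤ normalizer (Kr V U hUV : Set G) := by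
  have key : ∀ m ∈ M, ∀ g ∈ Kr V U hUV, m * g * m⁻¹ ∈ Kr V U hUV := by
    rintro m hm g ⟨hg, hg'⟩
    refine ⟨mul_mem (mul_mem (hV hm) hg) (inv_mem (hV hm)), fun v hv => ?_⟩
    have hw : m⁻¹ * v * m ∈ V := (mem_normalizer_iff''.1 (hV hm) v).1 hv
    have h1 := (mem_normalizer_iff.1 (hU hm) _).1 (hg' _ hw)
    have e : m * (g * (m⁻¹ * v * m) * g⁻¹ * (m⁻¹ * v * m)⁻¹) * m⁻¹ =
      m * g * m⁻¹ * v * (m * g * m⁻¹)⁻¹ * v⁻¹ := by group
    rwa [e] at h1
  intro m hm
  rw [mem_normalizer_iff]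
  refine fun g => ⟨key m hm g, fun h => ?_⟩
  have h1 := key m⁻¹ (inv_mem hm) _ h
  have e : m⁻¹ * (m * g * m⁻¹) * m⁻¹⁻¹ = g := by group
  rwa [e] at h1

theorem comm_le_of {V U E : Subgroup G} (hUV : U ≤ V) (h : E ≤ Kr V U hUV) : ⁅V, E⁆ ≤ U := by
  rw [commutator_le]
  intro v hv g hg
  have h1 := inv_mem ((h hg).2 v hv)
  have e : (g * v * g⁻¹ * v⁻¹)⁻¹ = ⁅v, g⁆ := by rw [commutatorElement_def]; group
  rwa [e] at h1

theorem le_Kr {V U E : Subgroup G} (hUV : U ≤ V) (hE : E ≤ normalizer (V : Set G)) (h : ⁅V, E⁆ ≤ U) :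
    E ≤ Kr V U hUV := by
  intro g hg
  refine ⟨hE hg, fun v hv => ?_⟩
  have h1 := inv_mem (h (commutator_mem_commutator hv hg))
  have e : ⁅v, g⁆⁻¹ = g * v * g⁻¹ * v⁻¹ := by rw [commutatorElement_def]; group
  rwa [e] at h1

theorem comm_le_self {V E : Subgroup G} (hE : E ≤ normalizer (V : Set G)) : ⁅V, E⁆ ≤ V := by
  rw [commutator_le]
  intro v hv g hg
  have h1 := (mem_normalizer_iff.1 (hE hg) v⁻¹).1 (inv_mem hv)
  have e : ⁅v, g⁆ = v * (g * v⁻¹ * g⁻¹) := by rw [commutatorElement_def]; group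
  rw [e]
  exact mul_mem hv h1

theorem comm_eq_bot {V E : Subgroup G} : ⁅V, E⁆ = ⊥ ↔ E ≤ centralizer (V : Set G) := by
  rw [commutator_eq_bot_iff_le_centralizer, le_centralizer_iff]

/-- `A` centralises `V / U`, `[U, A] = 1` : `A` acts on `V` as an elementary abelian 2-group. -/
theorem elemM_of {V U A : Subgroup G} (hUV : U ≤ V) (hsq : ∀ v ∈ V, v ^ 2 = 1) (h1 : A ≤ Kr V U hUV)
    (h2 : A ≤ centralizer (U : Set G)) (hV : V ≤ centralizer (V : Set G)) : ElemM V A := by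
  -- `a v a⁻¹ = u v`
  have key : ∀ a ∈ A, ∀ v ∈ V, ∃ w ∈ U, a * v * a⁻¹ = w * v := fun a ha v hv =>
    ⟨_, (h1 ha).2 v hv, by group⟩
  have fx : ∀ a ∈ A, ∀ w ∈ U, a * w * a⁻¹ = w := fun a ha w hw => by
    rw [← mem_centralizer_iff.1 (h2 ha) w hw]; group
  have two : ∀ a ∈ A, ∀ b ∈ A, ∀ v ∈ V, ∀ w x, w ∈ U → x ∈ U → a * v * a⁻¹ = w * v → b * v * b⁻¹ = x * v →
      a * b * v * (a * b)⁻¹ = x * w * v := by
    intro a ha b hb v hv w x hw hx e f
    calc a * b * v * (a * b)⁻¹ = a * (b * v * b⁻¹) * a⁻¹ := by group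
      _ = a * (x * v) * a⁻¹ := by rw [f]
      _ = (a * x * a⁻¹) * (a * v * a⁻¹) := by group
      _ = x * (w * v) := by rw [fx a ha x hx, e]
      _ = x * w * v := by rw [mul_assoc]
  constructor
  · intro a ha
    rw [mem_centralizer_iff]
    intro v hv
    obtain ⟨w, hw, e⟩ := key a ha v hv
    have hw2 : w * w = 1 := by rw [← pow_two]; exact hsq w (hUV hw)
    have e1 : a ^ 2 * v * (a ^ 2)⁻¹ = v := by
      rw [pow_two, two a ha a ha v hv w w hw hw e e, hw2, one_mul]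
    calc v * a ^ 2 = (a ^ 2 * v * (a ^ 2)⁻¹) * a ^ 2 := by rw [e1]
      _ = a ^ 2 * v := by group
  · intro a ha b hb
    rw [mem_centralizer_iff]
    intro v hv
    have hv' : (b * a)⁻¹ * v * (b * a) ∈ V :=
      (mem_normalizer_iff''.1 (mul_mem (h1 hb).1 (h1 ha).1) v).1 hv
    set v' := (b * a)⁻¹ * v * (b * a) with hv'd
    obtain ⟨w, hw, e⟩ := key a ha v' hv'
    obtain ⟨x, hx, f⟩ := key b hb v' hv'
    have hwx : w * x = x * w := (mem_centralizer_iff.1 (hV (hUV hw)) x (hUV hx)).symm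
    have g1 := two a ha b hb v' hv' w x hw hx e f
    have g2 := two b hb a ha v' hv' x w hx hw f e
    have g3 : b * a * v' * (b * a)⁻¹ = v := by rw [hv'd]; group
    have g4 : a * b * v' * (a * b)⁻¹ = v := by rw [g1, ← hwx, ← g2, g3]
    have g5 : a * b * a⁻¹ * b⁻¹ * v * (a * b * a⁻¹ * b⁻¹)⁻¹ = v := by
      calc a * b * a⁻¹ * b⁻¹ * v * (a * b * a⁻¹ * b⁻¹)⁻¹ = a * b * v' * (a * b)⁻¹ := by rw [hv'd]; group
        _ = v := g4
    calc v * (a * b * a⁻¹ * b⁻¹) = (a * b * a⁻¹ * b⁻¹ * v * (a * b * a⁻¹ * b⁻¹)⁻¹) * (a * b * a⁻¹ * b⁻¹) := by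
          rw [g5]
      _ = a * b * a⁻¹ * b⁻¹ * v := by group

/-! ### The base -/

/-- the base -/
structure Bs (S M V : Subgroup G) : Prop where
  two : IsPGroup 2 S
  SM : S ≤ M
  odd : Odd (S.relIndex M)
  MV : M ≤ normalizer (V : Set G)
  comm : V ≤ centralizer (V : Set G)
  sq : ∀ v ∈ V, v ^ 2 = 1
  gen : V ≤ NoFF.Basic.V (V ⊓ centralizer (S : Set G)) M

section base

variable [Finite G] {S M V : Subgroup G}

theorem isPGroup_of_sq {U : Subgroup G} (h : ∀ v ∈ U, v ^ 2 = 1) : IsPGroup 2 U := by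
  rintro ⟨v, hv⟩
  refine ⟨1, ?_⟩
  apply Subtype.ext
  simpa using h v hv

/-- Sylow's theorem in `N` -/
theorem exists_conj_le {N T X : Subgroup G} (hT : IsPGroup 2 T) (hd : ¬ 2 ∣ T.relIndex N) (hX : IsPGroup 2 X)
    (hXN : X ≤ N) : ∃ c ∈ N, ∀ x ∈ X, c * x * c⁻¹ ∈ T := by
  have : Fact (Nat.Prime 2) := ⟨Nat.prime_two⟩
  have hX' : IsPGroup 2 (X.subgroupOf N) := hX.comap_subtype
  obtain ⟨S2, hS2⟩ := hX'.exists_le_sylow
  obtain ⟨c, hc⟩ := MulAction.exists_smul_eq N S2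
    ((hT.comap_of_injective _ N.subtype_injective).toSylow hd)
  refine ⟨c, c.2, fun x hx => ?_⟩
  have h1 : (⟨x, hXN hx⟩ : N) ∈ (S2 : Subgroup N) := hS2 (Subgroup.mem_subgroupOf.mpr hx)
  have h2 : c * ⟨x, hXN hx⟩ * c⁻¹ ∈ ((c • S2 : Sylow 2 N) : Subgroup N) := by
    rw [Sylow.coe_subgroup_smul]
    exact Subgroup.smul_mem_pointwise_smul _ (MulAut.conj c) _ h1
  rw [hc] at h2
  exact mem_subgroupOf.1 h2

/-- odd index in a subgroup -/
theorem odd_sub {N : Subgroup G} (hd : Odd (S.relIndex M)) (hSN : S ≤ N) (hNM : N ≤ M) : Odd (S.relIndex N) := by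
  have h1 : S.relIndex N * N.relIndex M = S.relIndex M := relIndex_mul_relIndex S N M hSN hNM
  rw [← h1] at hd
  exact (Nat.odd_mul.1 hd).1

namespace Bs

variable (h : Bs S M V)
include h

theorem exists_z {U : Subgroup G} (hU : U ≤ V) (hM : M ≤ normalizer (U : Set G)) (hne : U ≠ ⊥) :
    ∃ z ∈ U, z ∈ centralizer (S : Set G) ∧ z ≠ 1 := by
  have hf : Fact (Nat.Prime 2) := ⟨Nat.prime_two⟩
  have h1 := PLocal.OffenderStep.inf_centralizer_ne_bot U S (isPGroup_of_sq fun v hv => h.sq v (hU hv)) h.two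
    (h.SM.trans hM) hne
  obtain ⟨c, hc1⟩ := Subgroup.ne_bot_iff_exists_ne_one.1 h1
  exact ⟨c, c.2.1, c.2.2, fun h0 => hc1 (Subtype.ext h0)⟩

theorem le_of {U : Subgroup G} (hM : M ≤ normalizer (U : Set G)) (hZ : V ⊓ centralizer (S : Set G) ≤ U) : V ≤ U :=
  h.gen.trans (cl_le hZ hM)

/-- **(0)**, elementwise -/
theorem dec {E : Subgroup G} (hE : M ≤ normalizer (E : Set G)) (hEM : E ≤ M) {z : G} (hz : z ∈ V)
    (hzS : z ∈ centralizer (S : Set G)) :
    ∃ x ∈ ⁅V, E⁆, x ∈ centralizer (S : Set G) ∧ ∃ y ∈ V, y ∈ centralizer (E : Set G) ∧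
      y ∈ centralizer (S : Set G) ∧ z = x * y := by
  have hXM : E ⊔ S ≤ M := sup_le hEM h.SM
  have hodd : Odd (S.relIndex (E ⊔ S)) := odd_sub h.odd le_sup_right hXM
  have hWV : ⁅V, E⁆ ≤ V := comm_le_self (hEM.trans h.MV)
  have hn := norm_comm h.MV hE
  obtain ⟨y, hy, hfix⟩ := BTwo.Avg.avg (X := E ⊔ S) (P := S) (Y := ⁅V, E⁆) (D := ⊥) (c := z) le_sup_right hodd
    bot_le (fun x hx y hy => (mem_normalizer_iff.1 (hn (hXM hx)) y).1 hy)
    (fun x _ y hy => by rw [mem_bot] at hy ⊢; rw [hy]; group)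
    (fun x _ y hy => by rw [mem_bot] at hy ⊢; rw [hy]; group)
    (fun y hy => by rw [mem_bot, ← pow_two]; exact h.sq y (hWV hy))
    (by
      have hle : E ⊔ S ≤ Kr V ⁅V, E⁆ hWV ⊔ S := sup_le_sup_right (le_Kr hWV (hEM.trans h.MV) le_rfl) S
      intro x hx
      have hSE : S ≤ normalizer (E : Set G) := h.SM.trans hE
      have hx' : x ∈ ((E ⊔ S : Subgroup G) : Set G) := hx
      rw [coe_mul_of_right_le_normalizer_left _ _ hSE] at hx'
      obtain ⟨e, he, s, hs, rfl⟩ := hx'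
      have hs' : s * z * s⁻¹ = z := by
        rw [mem_centralizer_iff.1 hzS s hs]; group
      have h1 := (le_Kr hWV (hEM.trans h.MV) le_rfl he).2 z hz
      have e1 : z⁻¹ * (e * s) * z * (e * s)⁻¹ = z⁻¹ * (e * (s * z * s⁻¹) * e⁻¹ * z⁻¹) * z := by group
      rw [e1, hs']
      -- `z⁻¹ w z = w`
      have h2 : z⁻¹ * (e * z * e⁻¹ * z⁻¹) * z = e * z * e⁻¹ * z⁻¹ := by
        rw [mul_assoc, mem_centralizer_iff.1 (h.comm hz) _ (hWV h1)]; group
      rw [h2]; exact h1)
    (fun x hx => by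
      rw [mem_bot, mul_assoc z⁻¹, mem_centralizer_iff.1 hzS x hx]; group)
  have hfix' : ∀ x ∈ E ⊔ S, x * (z * y) = (z * y) * x := by
    intro x hx
    have h1 := hfix x hx
    rw [mem_bot] at h1
    calc x * (z * y) = (z * y) * ((z * y)⁻¹ * x * (z * y) * x⁻¹) * x := by group
      _ = (z * y) * x := by rw [h1, mul_one]
  have hyS : y ∈ centralizer (S : Set G) := by
    have h1 : z * y ∈ centralizer (S : Set G) := mem_centralizer_iff.2 fun s hs => hfix' s (mem_sup_right hs)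
    exact (Subgroup.mul_mem_cancel_left _ hzS).1 h1
  refine ⟨y⁻¹, inv_mem hy, inv_mem hyS, z * y, mul_mem hz (hWV hy),
    mem_centralizer_iff.2 fun e he => hfix' e (mem_sup_left he), mul_mem hzS hyS, ?_⟩
  have h1 : y⁻¹ * (z * y) = (z * y) * y⁻¹ :=
    mem_centralizer_iff.1 (h.comm (mul_mem hz (hWV hy))) _ (hWV (inv_mem hy))
  rw [h1]; group

/-- **(0)** -/
theorem split {E : Subgroup G} (hE : M ≤ normalizer (E : Set G)) (hEM : E ≤ M) :
    V = ⁅V, E⁆ ⊔ (V ⊓ centralizer (E : Set G)) := by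
  refine le_antisymm ?_ (sup_le (comm_le_self (hEM.trans h.MV)) inf_le_left)
  refine h.le_of (norm_sup (norm_comm h.MV hE) (norm_inf h.MV (norm_cent hE))) ?_
  rintro z ⟨hz, hzS⟩
  obtain ⟨x, hx, -, y, hy, hyE, -, rfl⟩ := h.dec hE hEM hz hzS
  exact mul_mem (mem_sup_left hx) (mem_sup_right ⟨hy, hyE⟩)

/-- A normal subgroup of `M` which acts on `V` as a 2-group centralises `V`. -/
theorem le_cent {N : Subgroup G} (hN : M ≤ normalizer (N : Set G)) (hNM : N ≤ M) {B : Subgroup G} (hB : B ≤ N)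
    (hB2 : IsPGroup 2 B) (hdec : ∀ a ∈ N, ∃ b ∈ B, b⁻¹ * a ∈ centralizer (V : Set G)) :
    N ≤ centralizer (V : Set G) := by
  have hXM : N ⊔ S ≤ M := sup_le hNM h.SM
  have hodd : Odd (S.relIndex (N ⊔ S)) := odd_sub h.odd le_sup_right hXM
  obtain ⟨c, hc, hcB⟩ := exists_conj_le h.two hodd.not_two_dvd_nat hB2 (hB.trans le_sup_left)
  -- `N` centralises `C_V(S)`
  have key : ∀ n ∈ N, ∀ z ∈ V, z ∈ centralizer (S : Set G) → n * z = z * n := by
    intro n hn z hz hzS
    have hcM := hXM hc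
    have hn' : c⁻¹ * n * c ∈ N := (mem_normalizer_iff''.1 (hN hcM) n).1 hn
    obtain ⟨b, hb, hbc⟩ := hdec _ hn'
    have h1 := hcB b hb
    have h2 : c * (b⁻¹ * (c⁻¹ * n * c)) * c⁻¹ ∈ centralizer (V : Set G) :=
      (mem_normalizer_iff.1 (norm_cent h.MV hcM) _).1 hbc
    have e : n = (c * b * c⁻¹) * (c * (b⁻¹ * (c⁻¹ * n * c)) * c⁻¹) := by group
    rw [e]
    set s := c * b * c⁻¹
    set k := c * (b⁻¹ * (c⁻¹ * n * c)) * c⁻¹
    calc s * k * z = s * (k * z) := by group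
      _ = s * (z * k) := by rw [mem_centralizer_iff.1 h2 z hz]
      _ = (s * z) * k := by group
      _ = (z * s) * k := by rw [mem_centralizer_iff.1 hzS s h1]
      _ = z * (s * k) := by group
  have h1 : V ≤ centralizer (N : Set G) := by
    refine h.le_of (norm_cent hN) ?_
    rintro z ⟨hz, hzS⟩
    exact mem_centralizer_iff.2 fun n hn => key n hn z hz hzS
  exact le_centralizer_iff.1 h1

/-- A normal subgroup of `M` which acts on `V` as an elementary abelian 2-group centralises `V`. -/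
theorem le_cent_of_elem {N : Subgroup G} (hN : M ≤ normalizer (N : Set G)) (hNM : N ≤ M) (he : ElemM V N) :
    N ≤ centralizer (V : Set G) := by
  obtain ⟨B, hB, hB2, hdec⟩ := VF.exists_two (hNM.trans h.MV) he
  exact h.le_cent hN hNM hB hB2 hdec

end Bs

end base

/-! ### The system -/

/-- `E_A = ⟨A^M⟩` -/
abbrev EA (M A : Subgroup G) : Subgroup G := NoFF.Basic.V A M

/-- `W_A = [V, E_A]` -/
abbrev WW (V M A : Subgroup G) : Subgroup G := ⁅V, EA M A⁆

/-- `C_A = C_V(E_A)` -/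
abbrev CC (V M A : Subgroup G) : Subgroup G := V ⊓ centralizer (EA M A : Set G)

/-- the hypotheses -/
structure Sys (S M V : Subgroup G) (EE : Set (Subgroup G)) : Prop extends Bs S M V where
  le : ∀ A ∈ EE, A ≤ S
  dich : ∀ A ∈ EE, ∀ U ≤ V, M ≤ normalizer (U : Set G) →
    U ≤ centralizer (A : Set G) ∨ V ≤ U ⊔ (V ⊓ centralizer (A : Set G))
  mv : ∀ z ∈ V, z ∈ centralizer (S : Set G) → z ≠ 1 →
    ∃ A ∈ EE, ¬ NoFF.Basic.V (zpowers z) M ≤ centralizer (A : Set G)

/-! #### conjugation -/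

theorem conj_EA {g : G} {M : Subgroup G} (hM : g ∈ normalizer (M : Set G)) (A : Subgroup G) :
    MulAut.conj g • EA M A = EA M (MulAut.conj g • A) := by
  have key : ∀ (g : G), g ∈ normalizer (M : Set G) → ∀ A : Subgroup G,
      MulAut.conj g • EA M A ≤ EA M (MulAut.conj g • A) := by
    intro g hM A
    rw [Subgroup.pointwise_smul_subset_iff]
    refine NoFF.Basic.V_le fun p hp => ?_
    rw [← Subgroup.pointwise_smul_subset_iff, NoFF.Basic.conj_conj]
    have hgp : g * p * g⁻¹ ∈ M := (mem_normalizer_iff.1 hM p).1 hp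
    have e : g * p = (g * p * g⁻¹) * g := by group
    rw [e, ← NoFF.Basic.conj_conj]
    exact NoFF.Basic.Z_le_V hgp
  refine le_antisymm (key g hM A) ?_
  have h1 := key g⁻¹ (inv_mem hM) (MulAut.conj g • A)
  rw [NoFF.Basic.conj_conj, inv_mul_cancel, map_one, one_smul, map_inv, Subgroup.pointwise_smul_subset_iff,
    inv_inv] at h1
  exact h1

theorem conj_WW {g : G} {M V : Subgroup G} (hM : g ∈ normalizer (M : Set G)) (hV : g ∈ normalizer (V : Set G))
    (A : Subgroup G) : MulAut.conj g • WW V M A = WW V M (MulAut.conj g • A) := by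
  rw [WW, conj_comm, mem_norm_iff.1 hV, conj_EA hM]

namespace Sys

variable [Finite G] {S M V : Subgroup G} {EE : Set (Subgroup G)} (h : Sys S M V EE) {A B : Subgroup G}
include h

theorem AM (hA : A ∈ EE) : A ≤ M := (h.le A hA).trans h.SM

theorem EM (hA : A ∈ EE) : EA M A ≤ M := cl_le_self (h.AM hA)

theorem EV (hA : A ∈ EE) : EA M A ≤ normalizer (V : Set G) := (h.EM hA).trans h.MV

theorem WV (hA : A ∈ EE) : WW V M A ≤ V := comm_le_self (h.EV hA)

theorem nW (A : Subgroup G) : M ≤ normalizer (WW V M A : Set G) := norm_comm h.MV (norm_cl A M)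

theorem nC (A : Subgroup G) : M ≤ normalizer (CC V M A : Set G) := norm_inf h.MV (norm_cent (norm_cl A M))

/-- **(1)** -/
theorem dich' (hA : A ∈ EE) {U : Subgroup G} (hU : U ≤ V) (hn : M ≤ normalizer (U : Set G)) :
    U ≤ CC V M A ∨ WW V M A ≤ U := by
  rcases h.dich A hA U hU hn with h1 | h1
  · left
    exact le_inf hU (le_centralizer_iff.1 (cent_cl (le_centralizer_iff.1 h1) hn))
  · right
    refine comm_le_of hU (cl_le ?_ (norm_Kr hU h.MV hn))
    intro a ha
    refine ⟨h.MV (h.AM hA ha), fun v hv => ?_⟩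
    have hn' : (V ⊓ centralizer (A : Set G) : Subgroup G) ≤ normalizer (U : Set G) :=
      inf_le_left.trans (h.comm.trans ((centralizer_le hU).trans (centralizer_le_normalizer _)))
    have hv' : v ∈ ((U ⊔ (V ⊓ centralizer (A : Set G)) : Subgroup G) : Set G) := h1 hv
    rw [coe_mul_of_right_le_normalizer_left _ _ hn'] at hv'
    obtain ⟨w, hw, c, hc, rfl⟩ := hv'
    have h2 : a * w * a⁻¹ ∈ U := (mem_normalizer_iff.1 (hn (h.AM hA ha)) w).1 hw
    have h3 : a * c = c * a := mem_centralizer_iff.1 hc.2 a ha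
    have e : a * (w * c) * a⁻¹ * (w * c)⁻¹ = (a * w * a⁻¹) * w⁻¹ := by
      calc a * (w * c) * a⁻¹ * (w * c)⁻¹ = a * w * a⁻¹ * (a * c) * a⁻¹ * c⁻¹ * w⁻¹ := by group
        _ = (a * w * a⁻¹) * w⁻¹ := by rw [h3]; group
    rw [e]
    exact mul_mem h2 (inv_mem hw)

/-- `N_z = ⟨z^M⟩ ≤ U` for `z ∈ U` -/
theorem Nz_le {U : Subgroup G} (hn : M ≤ normalizer (U : Set G)) {z : G} (hz : z ∈ U) :
    NoFF.Basic.V (zpowers z) M ≤ U := cl_le (zpowers_le.2 hz) hn

/-- every nontrivial `M`-invariant `U ≤ V` contains some `W_B`, `B ∈ EE`, and `B` moves `U` -/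
theorem exists_WW {U : Subgroup G} (hU : U ≤ V) (hn : M ≤ normalizer (U : Set G)) (hne : U ≠ ⊥) :
    ∃ B ∈ EE, WW V M B ≤ U ∧ ¬ U ≤ CC V M B := by
  obtain ⟨z, hz, hzS, hz1⟩ := h.exists_z hU hn hne
  obtain ⟨B, hB, hBz⟩ := h.mv z (hU hz) hzS hz1
  have hNU : NoFF.Basic.V (zpowers z) M ≤ U := h.Nz_le hn hz
  have hc : ∀ X : Subgroup G, X ≤ CC V M B → X ≤ centralizer (B : Set G) := fun X hX =>
    hX.trans (inf_le_right.trans (centralizer_le (le_cl B M)))
  rcases h.dich' hB (hNU.trans hU) (norm_cl _ M) with h1 | h1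
  · exact absurd (hc _ h1) hBz
  · exact ⟨B, hB, h1.trans hNU, fun h2 => hBz (hNU.trans (hc _ h2))⟩

/-- **(2)** `W_A ∩ C_A = 1` -/
theorem inf_bot (hA : A ∈ EE) : WW V M A ⊓ CC V M A = ⊥ := by
  by_contra hne
  set U : Subgroup G := WW V M A ⊓ CC V M A with hU
  have hUV : U ≤ V := inf_le_left.trans (h.WV hA)
  have hUn : M ≤ normalizer (U : Set G) := norm_inf (h.nW A) (h.nC A)
  obtain ⟨B, hB, hBU, hBn⟩ := h.exists_WW hUV hUn hne
  have hEA := norm_cl A M
  have hEB := norm_cl B M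
  -- `N = E_A ∩ E_B` centralises `V / U` and `U`
  have hN : M ≤ normalizer ((EA M A ⊓ EA M B : Subgroup G) : Set G) := norm_inf hEA hEB
  have h1 : EA M A ⊓ EA M B ≤ Kr V U hUV := inf_le_right.trans (le_Kr hUV (h.EV hB) hBU)
  have h2 : EA M A ⊓ EA M B ≤ centralizer (U : Set G) := by
    refine inf_le_left.trans (le_centralizer_iff.1 ?_)
    exact inf_le_right.trans inf_le_right
  have h3 : EA M A ⊓ EA M B ≤ centralizer (V : Set G) :=
    h.le_cent_of_elem hN (inf_le_left.trans (h.EM hA)) (elemM_of hUV h.sq h1 h2 h.comm)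
  -- three subgroups
  have h4 : ⁅⁅EA M A, EA M B⁆, V⁆ = ⊥ := by
    rw [commutator_eq_bot_iff_le_centralizer]
    refine le_trans ?_ h3
    refine le_inf ?_ ?_
    · exact comm_le_self ((h.EM hB).trans hEA)
    · rw [commutator_comm]
      exact comm_le_self ((h.EM hA).trans hEB)
  have h5 : ⁅⁅EA M B, V⁆, EA M A⁆ = ⊥ := by
    rw [commutator_comm (EA M B) V, commutator_eq_bot_iff_le_centralizer]
    exact hBU.trans (inf_le_right.trans inf_le_right)
  have h6 : ⁅⁅V, EA M A⁆, EA M B⁆ = ⊥ := commutator_commutator_eq_bot_of_rotate h4 h5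
  rw [commutator_eq_bot_iff_le_centralizer] at h6
  exact hBn (le_inf hUV (inf_le_left.trans h6))

/-- **(3)** `V = W_A C_A` -/
theorem sup_eq (hA : A ∈ EE) : V = WW V M A ⊔ CC V M A := h.split (norm_cl A M) (h.EM hA)

theorem mem_dec (hA : A ∈ EE) {v : G} (hv : v ∈ V) : ∃ w ∈ WW V M A, ∃ c ∈ CC V M A, v = w * c := by
  have hn : CC V M A ≤ normalizer (WW V M A : Set G) :=
    inf_le_left.trans (h.comm.trans ((centralizer_le (h.WV hA)).trans (centralizer_le_normalizer _)))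
  rw [h.sup_eq hA] at hv
  have hv' : v ∈ ((WW V M A ⊔ CC V M A : Subgroup G) : Set G) := hv
  rw [coe_mul_of_right_le_normalizer_left _ _ hn] at hv'
  obtain ⟨w, hw, c, hc, e⟩ := hv'
  exact ⟨w, hw, c, hc, e.symm⟩

/-- `C_V(S) = C_(W_A)(S) C_(C_A)(S)` -/
theorem fix_dec (hA : A ∈ EE) {z : G} (hz : z ∈ V) (hzS : z ∈ centralizer (S : Set G)) :
    ∃ x ∈ WW V M A ⊓ centralizer (S : Set G), ∃ y ∈ CC V M A ⊓ centralizer (S : Set G), z = x * y := by
  obtain ⟨x, hx, hxS, y, hy, hyE, hyS, e⟩ := h.dec (norm_cl A M) (h.EM hA) hz hzS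
  exact ⟨x, ⟨hx, hxS⟩, y, ⟨⟨hy, hyE⟩, hyS⟩, e⟩

theorem fix_eq (hA : A ∈ EE) : V ⊓ centralizer (S : Set G) =
    (WW V M A ⊓ centralizer (S : Set G)) ⊔ (CC V M A ⊓ centralizer (S : Set G)) := by
  refine le_antisymm ?_ (sup_le (inf_le_inf_right _ (h.WV hA)) (inf_le_inf_right _ inf_le_left))
  rintro z ⟨hz, hzS⟩
  obtain ⟨x, hx, y, hy, rfl⟩ := h.fix_dec hA hz hzS
  exact mul_mem (mem_sup_left hx) (mem_sup_right hy)

theorem eq_of_dec {w w' c c' : G} (hA : A ∈ EE) (hw : w ∈ WW V M A) (hw' : w' ∈ WW V M A) (hc : c ∈ CC V M A)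
    (hc' : c' ∈ CC V M A) (e : w * c = w' * c') : w = w' ∧ c = c' := by
  have h1 : w'⁻¹ * w = c' * c⁻¹ := by
    calc w'⁻¹ * w = w'⁻¹ * (w * c) * c⁻¹ := by group
      _ = c' * c⁻¹ := by rw [e]; group
  have h2 : w'⁻¹ * w ∈ WW V M A ⊓ CC V M A := mem_inf.2 ⟨mul_mem (inv_mem hw') hw, by
    rw [h1]; exact mul_mem hc' (inv_mem hc)⟩
  rw [h.inf_bot hA, mem_bot] at h2
  rw [h2] at h1
  exact ⟨(inv_mul_eq_one.1 h2).symm, (mul_inv_eq_one.1 h1.symm).symm⟩

/-- **(3)** `W_A` and `C_A` are generated by the conjugates of their `S`-fixed points. -/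
theorem gens (hA : A ∈ EE) : WW V M A = NoFF.Basic.V (WW V M A ⊓ centralizer (S : Set G)) M ∧
    CC V M A = NoFF.Basic.V (CC V M A ⊓ centralizer (S : Set G)) M := by
  set W' := NoFF.Basic.V (WW V M A ⊓ centralizer (S : Set G)) M with hW'
  set C' := NoFF.Basic.V (CC V M A ⊓ centralizer (S : Set G)) M with hC'
  have h1 : W' ≤ WW V M A := cl_le inf_le_left (h.nW A)
  have h2 : C' ≤ CC V M A := cl_le inf_le_left (h.nC A)
  have h3 : V ≤ W' ⊔ C' := by
    refine h.le_of (norm_sup (norm_cl _ M) (norm_cl _ M)) ?_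
    rw [h.fix_eq hA]
    exact sup_le_sup (le_cl _ M) (le_cl _ M)
  have hn : C' ≤ normalizer (W' : Set G) :=
    (h2.trans inf_le_left).trans (h.comm.trans ((centralizer_le (h1.trans (h.WV hA))).trans
      (centralizer_le_normalizer _)))
  have key : ∀ v ∈ V, ∃ w ∈ W', ∃ c ∈ C', v = w * c := by
    intro v hv
    have hv' : v ∈ ((W' ⊔ C' : Subgroup G) : Set G) := h3 hv
    rw [coe_mul_of_right_le_normalizer_left _ _ hn] at hv'
    obtain ⟨w, hw, c, hc, e⟩ := hv'
    exact ⟨w, hw, c, hc, e.symm⟩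
  constructor
  · refine le_antisymm (fun x hx => ?_) h1
    obtain ⟨w, hw, c, hc, e⟩ := key x (h.WV hA hx)
    have h4 := h.eq_of_dec hA hx (h1 hw) (one_mem _) (h2 hc) (by rw [mul_one, e])
    rw [h4.1]; exact hw
  · refine le_antisymm (fun x hx => ?_) h2
    obtain ⟨w, hw, c, hc, e⟩ := key x hx.1
    have h4 := h.eq_of_dec hA (one_mem _) (h1 hw) hx (h2 hc) (by rw [one_mul, e])
    rw [h4.2]; exact hc

/-- `W_A = 1` iff `A` centralises `V` -/
theorem WW_eq_bot : WW V M A = ⊥ ↔ A ≤ centralizer (V : Set G) := by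
  rw [WW, comm_eq_bot]
  exact ⟨fun h1 => (le_cl A M).trans h1, fun h1 => cent_cl h1 h.MV⟩

/-- `W_A ≤ C_A` implies `W_A = 1` -/
theorem WW_eq_bot_of_le (hA : A ∈ EE) (h1 : WW V M A ≤ CC V M A) : WW V M A = ⊥ := by
  rw [← h.inf_bot hA]
  exact (inf_eq_left.2 h1).symm

/-- `W_B ≤ C_A` iff `W_A ≤ C_B` -/
theorem le_symm (hA : A ∈ EE) (hB : B ∈ EE) (h1 : WW V M B ≤ CC V M A) : WW V M A ≤ CC V M B := by
  rcases h.dich' hB (h.WV hA) (h.nW A) with h2 | h2
  · exact h2
  · -- `W_B ≤ W_A ∩ C_A = 1`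
    have h3 : WW V M B = ⊥ := by
      rw [← le_bot_iff, ← h.inf_bot hA]
      exact le_inf h2 h1
    have h4 : CC V M B = V := by
      apply le_antisymm inf_le_left
      have h5 := h.sup_eq hB
      rw [h3, bot_sup_eq] at h5
      exact h5.le
    rw [h4]
    exact h.WV hA

/-- **(3)** for two members of `EE` -/
theorem pair (hA : A ∈ EE) (hB : B ∈ EE) :
    WW V M A = WW V M B ∨ (WW V M A ≤ CC V M B ∧ WW V M B ≤ CC V M A) := by
  rcases h.dich' hA (h.WV hB) (h.nW B) with h1 | h1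
  · exact Or.inr ⟨h.le_symm hA hB h1, h1⟩
  · rcases h.dich' hB (h.WV hA) (h.nW A) with h2 | h2
    · exact Or.inr ⟨h2, h.le_symm hB hA h2⟩
    · exact Or.inl (le_antisymm h1 h2)

/-- `W_A ≠ W_B`: `W_B ≤ C_A` -/
theorem le_of_ne (hA : A ∈ EE) (hB : B ∈ EE) (hne : WW V M A ≠ WW V M B) : WW V M B ≤ CC V M A :=
  ((h.pair hA hB).resolve_left hne).2

/-- **(4)** `W_A` is irreducible. -/
theorem irr (hA : A ∈ EE) {U : Subgroup G} (hU : U ≤ WW V M A) (hn : M ≤ normalizer (U : Set G)) :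
    U = ⊥ ∨ U = WW V M A := by
  by_cases hne : U = ⊥
  · exact Or.inl hne
  right
  obtain ⟨B, hB, hBU, hBn⟩ := h.exists_WW (hU.trans (h.WV hA)) hn hne
  refine le_antisymm hU ?_
  rcases h.pair hA hB with h1 | h1
  · rw [h1]; exact hBU
  · exfalso
    apply hBn
    have h2 : WW V M B = ⊥ := by
      rw [← le_bot_iff, ← h.inf_bot hA]
      exact le_inf (hBU.trans hU) h1.2
    have h3 : CC V M B = V := by
      apply le_antisymm inf_le_left
      have h5 := h.sup_eq hB
      rw [h2, bot_sup_eq] at h5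
      exact h5.le
    rw [h3]
    exact hU.trans (h.WV hA)

/-- **(5)** An `M`-invariant subgroup of `V` which contains all `W_A` is `V`. -/
theorem le_of_WW {R : Subgroup G} (hRV : R ≤ V) (hRn : M ≤ normalizer (R : Set G))
    (hle : ∀ A ∈ EE, WW V M A ≤ R) : V ≤ R := by
  have hEn : M ≤ normalizer ((Kr V R hRV ⊓ M : Subgroup G) : Set G) := norm_inf (norm_Kr hRV h.MV hRn) le_normalizer
  have hVE : ⁅V, Kr V R hRV ⊓ M⁆ ≤ R := comm_le_of hRV inf_le_left
  have hEA : ∀ A ∈ EE, EA M A ≤ Kr V R hRV ⊓ M := fun A hA => le_inf (le_Kr hRV (h.EV hA) (hle A hA)) (h.EM hA)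
  refine h.le_of hRn ?_
  intro z hz
  obtain ⟨x, hx, -, y, hy, hyE, hyS, e⟩ := h.dec hEn inf_le_right (mem_inf.1 hz).1 (mem_inf.1 hz).2
  by_cases hy1 : y = 1
  · rw [e, hy1, mul_one]
    exact hVE hx
  exfalso
  obtain ⟨B, hB, hBy⟩ := h.mv y hy hyS hy1
  have h1 : B ≤ Kr V R hRV ⊓ M := (le_cl B M).trans (hEA B hB)
  exact hBy ((h.Nz_le (norm_cent hEn) hyE).trans (centralizer_le h1))

/-- **(5)** `V` is the product of the `W_A`. -/
theorem iSup_eq : V = ⨆ A ∈ EE, WW V M A := by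
  refine le_antisymm (h.le_of_WW (iSup₂_le fun A hA => h.WV hA) ?_ fun A hA => ?_)
    (iSup₂_le fun A hA => h.WV hA)
  · exact norm_iSup fun A => norm_iSup fun _ => h.nW A
  · exact le_iSup₂ (f := fun A (_ : A ∈ EE) => WW V M A) A hA

/-- the product of the `W_B ≠ W_A` -/
def Rest (V M : Subgroup G) (EE : Set (Subgroup G)) (A : Subgroup G) : Subgroup G :=
  ⨆ B ∈ {B ∈ EE | WW V M B ≠ WW V M A}, WW V M B

omit h in
theorem le_Rest {A B : Subgroup G} (hB : B ∈ EE) (hne : WW V M B ≠ WW V M A) : WW V M B ≤ Rest V M EE A :=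
  le_iSup₂ (f := fun B (_ : B ∈ {B ∈ EE | WW V M B ≠ WW V M A}) => WW V M B) B ⟨hB, hne⟩

omit h in
theorem Rest_le {A R : Subgroup G} (hR : ∀ B ∈ EE, WW V M B ≠ WW V M A → WW V M B ≤ R) : Rest V M EE A ≤ R :=
  iSup₂_le fun B hB => hR B hB.1 hB.2

theorem norm_Rest (A : Subgroup G) : M ≤ normalizer (Rest V M EE A : Set G) :=
  norm_iSup fun B => norm_iSup fun _ => h.nW B

/-- `C_A` is the product of the `W_B ≠ W_A`. -/
theorem CC_eq_Rest (hA : A ∈ EE) : CC V M A = Rest V M EE A := by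
  have h1 : Rest V M EE A ≤ CC V M A := Rest_le fun B hB hne => h.le_of_ne hA hB (Ne.symm hne)
  refine le_antisymm ?_ h1
  have h2 : V ≤ WW V M A ⊔ Rest V M EE A := by
    refine h.le_of_WW (sup_le (h.WV hA) (h1.trans inf_le_left)) (norm_sup (h.nW A) (h.norm_Rest A)) ?_
    intro B hB
    by_cases hB' : WW V M B = WW V M A
    · rw [hB']; exact le_sup_left
    · exact le_sup_of_le_right (le_Rest hB hB')
  intro x hx
  have hn : Rest V M EE A ≤ normalizer (WW V M A : Set G) :=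
    (h1.trans inf_le_left).trans (h.comm.trans ((centralizer_le (h.WV hA)).trans
      (centralizer_le_normalizer _)))
  have hv' : x ∈ ((WW V M A ⊔ Rest V M EE A : Subgroup G) : Set G) := h2 (mem_inf.1 hx).1
  rw [coe_mul_of_right_le_normalizer_left _ _ hn] at hv'
  obtain ⟨w, hw, c, hc, e⟩ := hv'
  have h4 := h.eq_of_dec hA (one_mem _) hw hx (h1 hc) (by rw [one_mul]; exact e.symm)
  rw [h4.2]; exact hc

/-- **(5)** The product is direct. -/
theorem indep (hA : A ∈ EE) : WW V M A ⊓ Rest V M EE A = ⊥ := by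
  rw [← h.CC_eq_Rest hA]
  exact h.inf_bot hA

end Sys

end Cfsg.Agent.Omega.NOThreeL.RRed.CM

private theorem dce_15ab8d0968ec : _root_.True := by
  try have : _root_.True := by simp only [_root_.Cfsg.Agent.Omega.NOThreeL.RRed.CM.WW.eq_1]
  try have : _root_.True := by simp only [_root_.Cfsg.Agent.Omega.NOThreeL.RRed.CM.CC.eq_1]
  exact _root_.True.intro
end

-- part: Mrg/Omega/IId/Fac
section
prune_inst 0x8000422020000000000400000402000000000000800600000000000004080000000000001000000000020000028025c00400000000000000000000100000000000010000100200008000000000000000000000000000000000000000000000000000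
set_option linter.all false
open scoped Cfsg.Agent.FastGrp

section


/-!
# The factors of `V = V_P` in the case of `k` natural `SL₂(F)`-modules, `C_V(O²(P)) = 1`

`M : NatK F S P (zl S P) ⊥ k`, `V = zl S P`.

* `part M I` : the sum of the factors with index in `I`; `fac M i = part M {i}`; `line M I` : the elements of
  `part M I` with all coordinates in the line `{x | x 1 = 0}`;
* `grp M I` : the elements of `P` which act on `V` as elements of `SL₂(F)^I`;
* `σ M g` : the permutation of the factors induced by `g ∈ P`; `conj_part`;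
* `stab M i` : the normaliser of `fac M i` in `S`.
-/

set_option autoImplicit false

namespace Cfsg.Agent.Omega.IId

open Subgroup Cfsg Cfsg.Agent.ZN Cfsg.Agent.ZN.ChoiceBase
open Cfsg.Agent.Omega.MinPar Cfsg.Agent.Omega.FFThm
open Cfsg.Agent.MinSimple.VModule (le_normalizer_zl)
open Cfsg.Agent.Lib.SL2Mat
open Cfsg.Agent.Omega.NatPair (ap ap_mul ap_one ap_inv_ap ap_ap_inv exists_ap ap_add)

universe u

variable {G : Type u} [Group G] {F : Type} [Field F] {S P : Subgroup G} {k : ℕ}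
  (M : NatK F S P (zl S P) ⊥ k)

/-! ### Coordinates -/

theorem cj_mem {g v : G} (hg : g ∈ P) (hv : v ∈ zl S P) : g * v * g⁻¹ ∈ zl S P :=
  (mem_normalizer_iff.mp (le_normalizer_zl S P hg) v).mp hv

theorem cj_mem' {g v : G} (hg : g ∈ P) (hv : v ∈ zl S P) : g⁻¹ * v * g ∈ zl S P := by
  have := cj_mem (inv_mem hg) hv
  rwa [inv_inv] at this

include M in
theorem e_one : M.e 1 = 0 := by
  have := M.mul 1 (one_mem _) 1 (one_mem _)
  rw [mul_one] at this
  exact left_eq_add.1 this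

theorem e_inv {v : G} (hv : v ∈ zl S P) : M.e v⁻¹ = - M.e v := by
  have := M.mul v⁻¹ (inv_mem hv) v hv
  rw [inv_mul_cancel, e_one] at this
  exact eq_neg_of_add_eq_zero_left this.symm

theorem e_eq_zero {v : G} (hv : v ∈ zl S P) : M.e v = 0 ↔ v = 1 := by
  rw [M.ker v hv, mem_bot]

theorem e_inj {v w : G} (hv : v ∈ zl S P) (hw : w ∈ zl S P) (h : M.e v = M.e w) : v = w := by
  have h1 : M.e (v * w⁻¹) = 0 := by
    rw [M.mul v hv _ (inv_mem hw), e_inv M hw, h, add_neg_cancel]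
  exact mul_inv_eq_one.1 ((e_eq_zero M (mul_mem hv (inv_mem hw))).1 h1)

include M in
theorem comm {v w : G} (hv : v ∈ zl S P) (hw : w ∈ zl S P) : v * w = w * v :=
  e_inj M (mul_mem hv hw) (mul_mem hw hv) (by rw [M.mul v hv w hw, M.mul w hw v hv, add_comm])

include M in
theorem sq [CharP F 2] {v : G} (hv : v ∈ zl S P) : v * v = 1 := by
  rw [← e_eq_zero M (mul_mem hv hv), M.mul v hv v hv]
  funext i j
  exact CharTwo.add_self_eq_zero _

/-! ### Parts -/

/-- The sum of the factors with index in `I`. -/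
def part (I : Set (Fin k)) : Subgroup G where
  carrier := {v | v ∈ zl S P ∧ ∀ i, i ∉ I → M.e v i = 0}
  one_mem' := ⟨one_mem _, fun i _ => by rw [e_one]; rfl⟩
  mul_mem' := by
    rintro a b ⟨ha, ha'⟩ ⟨hb, hb'⟩
    exact ⟨mul_mem ha hb, fun i hi => by rw [M.mul a ha b hb, Pi.add_apply, ha' i hi, hb' i hi, add_zero]⟩
  inv_mem' := by
    rintro a ⟨ha, ha'⟩
    exact ⟨inv_mem ha, fun i hi => by rw [e_inv M ha, Pi.neg_apply, ha' i hi, neg_zero]⟩

theorem mem_part {I : Set (Fin k)} {v : G} : v ∈ part M I ↔ v ∈ zl S P ∧ ∀ i, i ∉ I → M.e v i = 0 := Iff.rfl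

/-- The `i`-th factor. -/
def fac (i : Fin k) : Subgroup G := part M {i}

theorem mem_fac {i : Fin k} {v : G} : v ∈ fac M i ↔ v ∈ zl S P ∧ ∀ j, j ≠ i → M.e v j = 0 := Iff.rfl

theorem part_le (I : Set (Fin k)) : part M I ≤ zl S P := fun _ h => h.1

theorem fac_le (i : Fin k) : fac M i ≤ zl S P := part_le M _

theorem part_mono {I J : Set (Fin k)} (h : I ⊆ J) : part M I ≤ part M J :=
  fun _ hv => ⟨hv.1, fun i hi => hv.2 i fun h1 => hi (h h1)⟩

theorem part_inf (I J : Set (Fin k)) : part M I ⊓ part M J = part M (I ∩ J) := by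
  ext v
  constructor
  · rintro ⟨h1, h2⟩
    refine ⟨h1.1, fun i hi => ?_⟩
    by_cases h3 : i ∈ I
    · exact h2.2 i fun h4 => hi ⟨h3, h4⟩
    · exact h1.2 i h3
  · rintro ⟨h1, h2⟩
    exact ⟨⟨h1, fun i hi => h2 i fun h3 => hi h3.1⟩, ⟨h1, fun i hi => h2 i fun h3 => hi h3.2⟩⟩

theorem part_empty : part M ∅ = ⊥ := by
  rw [eq_bot_iff]
  rintro v ⟨h1, h2⟩
  rw [mem_bot, ← e_eq_zero M h1]
  funext i
  exact h2 i (Set.notMem_empty i)

theorem part_univ : part M Set.univ = zl S P := by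
  ext v
  exact ⟨fun h => h.1, fun h => ⟨h, fun i hi => (hi (Set.mem_univ i)).elim⟩⟩

open Classical in
/-- The components of `v`. -/
theorem exists_comp {v : G} (hv : v ∈ zl S P) (I : Set (Fin k)) :
    ∃ a ∈ part M I, ∃ b ∈ part M Iᶜ, v = a * b := by
  obtain ⟨a, ha, hea⟩ := M.surj fun i => if i ∈ I then M.e v i else 0
  have he : ∀ i, M.e a i = if i ∈ I then M.e v i else 0 := fun i => congrFun hea i
  refine ⟨a, ⟨ha, fun i hi => by rw [he, if_neg hi]⟩, a⁻¹ * v, ⟨mul_mem (inv_mem ha) hv, fun i hi => ?_⟩, by group⟩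
  have hi' : i ∈ I := not_not.1 hi
  rw [M.mul _ (inv_mem ha) _ hv, e_inv M ha, Pi.add_apply, Pi.neg_apply, he, if_pos hi', neg_add_cancel]

theorem part_sup (I : Set (Fin k)) : part M I ⊔ part M Iᶜ = zl S P := by
  refine le_antisymm (sup_le (part_le M _) (part_le M _)) fun v hv => ?_
  obtain ⟨a, ha, b, hb, rfl⟩ := exists_comp M hv I
  exact mul_mem_sup ha hb

theorem fac_inf {i j : Fin k} (h : i ≠ j) : fac M i ⊓ fac M j = ⊥ := by
  rw [fac, fac, part_inf, ← part_empty M]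
  congr 1
  ext x
  simp only [Set.mem_inter_iff, Set.mem_singleton_iff, Set.mem_empty_iff_false, iff_false, not_and]
  rintro rfl
  exact h

theorem ext_fac {i : Fin k} {v w : G} (hv : v ∈ fac M i) (hw : w ∈ fac M i) (h : M.e v i = M.e w i) : v = w := by
  refine e_inj M hv.1 hw.1 (funext fun j => ?_)
  by_cases hj : j = i
  · rw [hj, h]
  · rw [hv.2 j hj, hw.2 j hj]

theorem fac_eq_one {i : Fin k} {v : G} (hv : v ∈ fac M i) : M.e v i = 0 ↔ v = 1 := by
  refine ⟨fun h => ext_fac M hv (one_mem _) (by rw [h, e_one]; rfl), fun h => ?_⟩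
  rw [h, e_one]
  rfl

open Classical in
theorem exists_fac (i : Fin k) (x : Fin 2 → F) : ∃ v ∈ fac M i, M.e v i = x := by
  obtain ⟨v, hv, h⟩ := M.surj (Pi.single i x)
  exact ⟨v, ⟨hv, fun j hj => by rw [h, Pi.single_eq_of_ne hj]⟩, by rw [h, Pi.single_eq_same]⟩

theorem fac_ne_bot (i : Fin k) : fac M i ≠ ⊥ := by
  obtain ⟨v, hv, h⟩ := exists_fac M i ![1, 0]
  intro h0
  rw [h0, mem_bot] at hv
  rw [hv, e_one] at h
  have := congrFun h 0
  simp at this

/-- The coordinate on a factor. -/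
noncomputable def facEquiv (i : Fin k) : fac M i ≃ (Fin 2 → F) :=
  Equiv.ofBijective (fun v => M.e v i) ⟨fun v w h => Subtype.ext (ext_fac M v.2 w.2 h), fun x => by
    obtain ⟨v, hv, h⟩ := exists_fac M i x
    exact ⟨⟨v, hv⟩, h⟩⟩

theorem card_fac (i : Fin k) : Nat.card (fac M i) = Nat.card F ^ 2 := by
  rw [Nat.card_congr (facEquiv M i), Nat.card_fun]
  simp

/-! ### The group `SL₂(F)^I` -/

theorem acts_one : ActsSL M.e (zl S P) ⊥ 1 1 := by
  refine ⟨fun v _ i => ?_, fun d _ => ?_⟩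
  · have e : (1 : G) * v * 1⁻¹ = v := by group
    rw [e, Pi.one_apply, ap_one]
  · rw [one_mul, mul_one]

variable {M}

theorem acts_mul {g h : G} (hh : h ∈ P) {A B : Fin k → Matrix.SpecialLinearGroup (Fin 2) F}
    (h1 : ActsSL M.e (zl S P) ⊥ g A) (h2 : ActsSL M.e (zl S P) ⊥ h B) :
    ActsSL M.e (zl S P) ⊥ (g * h) (A * B) := by
  refine ⟨fun v hv i => ?_, fun d hd => ?_⟩
  · have e : g * h * v * (g * h)⁻¹ = g * (h * v * h⁻¹) * g⁻¹ := by group
    rw [e, h1.1 _ (cj_mem hh hv) i, h2.1 v hv i, Pi.mul_apply, ap_mul]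
  · rw [mem_bot] at hd
    rw [hd]
    group

theorem acts_inv {g : G} (hg : g ∈ P) {A : Fin k → Matrix.SpecialLinearGroup (Fin 2) F}
    (h1 : ActsSL M.e (zl S P) ⊥ g A) : ActsSL M.e (zl S P) ⊥ g⁻¹ A⁻¹ := by
  refine ⟨fun v hv i => ?_, fun d hd => ?_⟩
  · have h2 := h1.1 _ (cj_mem (inv_mem hg) hv) i
    have e : g * (g⁻¹ * v * g⁻¹⁻¹) * g⁻¹ = v := by group
    rw [e] at h2
    rw [h2, Pi.inv_apply, ap_inv_ap]
  · rw [mem_bot] at hd
    rw [hd]
    group

variable (M)

/-- The elements of `P` which act on `V` as elements of `SL₂(F)^I`. -/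
def grp (I : Set (Fin k)) : Subgroup G where
  carrier := {g | g ∈ P ∧ ∃ A : Fin k → Matrix.SpecialLinearGroup (Fin 2) F,
    ActsSL M.e (zl S P) ⊥ g A ∧ ∀ i, i ∉ I → A i = 1}
  one_mem' := ⟨one_mem _, 1, acts_one M, fun _ _ => rfl⟩
  mul_mem' := by
    rintro a b ⟨ha, A, hA, hA'⟩ ⟨hb, B, hB, hB'⟩
    exact ⟨mul_mem ha hb, A * B, acts_mul hb hA hB, fun i hi => by
      rw [Pi.mul_apply, hA' i hi, hB' i hi, mul_one]⟩
  inv_mem' := by
    rintro a ⟨ha, A, hA, hA'⟩
    exact ⟨inv_mem ha, A⁻¹, acts_inv ha hA, fun i hi => by rw [Pi.inv_apply, hA' i hi, inv_one]⟩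

theorem mem_grp {I : Set (Fin k)} {g : G} : g ∈ grp M I ↔ g ∈ P ∧
    ∃ A : Fin k → Matrix.SpecialLinearGroup (Fin 2) F, ActsSL M.e (zl S P) ⊥ g A ∧ ∀ i, i ∉ I → A i = 1 := Iff.rfl

theorem grp_le (I : Set (Fin k)) : grp M I ≤ P := fun _ h => h.1

theorem grp_mono {I J : Set (Fin k)} (h : I ⊆ J) : grp M I ≤ grp M J :=
  fun _ ⟨h1, A, h2, h3⟩ => ⟨h1, A, h2, fun i hi => h3 i fun h4 => hi (h h4)⟩

/-- `SL₂(F)^I` centralises the factors outside `I`. -/
theorem grp_comm {I J : Set (Fin k)} (hIJ : Disjoint I J) {g v : G} (hg : g ∈ grp M I) (hv : v ∈ part M J) :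
    g * v = v * g := by
  obtain ⟨hgP, A, hA, hA'⟩ := hg
  have h1 : g * v * g⁻¹ = v := by
    refine e_inj M (cj_mem hgP hv.1) hv.1 (funext fun i => ?_)
    rw [hA.1 v hv.1 i]
    by_cases hi : i ∈ I
    · have h2 : i ∉ J := fun h => Set.disjoint_left.1 hIJ hi h
      rw [hv.2 i h2]
      apply NatPair.ext2 <;> simp [NatPair.ap_zero', NatPair.ap_one']
    · rw [hA' i hi, ap_one]
  calc g * v = g * v * g⁻¹ * g := by group
    _ = v * g := by rw [h1]

theorem grp_le_centralizer {I J : Set (Fin k)} (hIJ : Disjoint I J) :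
    grp M I ≤ centralizer (part M J : Set G) := by
  intro g hg
  rw [mem_centralizer_iff]
  intro v hv
  exact (grp_comm M hIJ hg hv).symm

theorem grp_normalizes (I J : Set (Fin k)) : grp M I ≤ normalizer (part M J : Set G) := by
  have key : ∀ g ∈ grp M I, ∀ v ∈ part M J, g * v * g⁻¹ ∈ part M J := by
    rintro g ⟨hgP, A, hA, -⟩ v ⟨hv, hv'⟩
    refine ⟨cj_mem hgP hv, fun i hi => ?_⟩
    rw [hA.1 v hv i, hv' i hi]
    apply NatPair.ext2 <;> simp [NatPair.ap_zero', NatPair.ap_one']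
  intro g hg
  rw [mem_normalizer_iff]
  intro v
  refine ⟨key g hg v, fun h => ?_⟩
  have h1 := key g⁻¹ (inv_mem hg) _ h
  have e : g⁻¹ * (g * v * g⁻¹) * g⁻¹⁻¹ = v := by group
  rwa [e] at h1

open Classical in
/-- `SL₂(F)^{i}` is transitive on the nontrivial elements of `fac M i`. -/
theorem exists_grp {i : Fin k} {v w : G} (hv : v ∈ fac M i) (hw : w ∈ fac M i) (hv1 : v ≠ 1) (hw1 : w ≠ 1) :
    ∃ g ∈ grp M {i}, g * v * g⁻¹ = w := by
  obtain ⟨A, hA⟩ := exists_ap (mt (fac_eq_one M hv).1 hv1) (mt (fac_eq_one M hw).1 hw1)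
  obtain ⟨g, hg, h1⟩ := M.lift (Function.update 1 i A)
  have hg' : g ∈ grp M {i} := ⟨hg, _, h1, fun j hj => Function.update_of_ne hj _ _⟩
  refine ⟨g, hg', ext_fac M ((mem_normalizer_iff.1 (grp_normalizes M {i} {i} hg') v).1 hv) hw ?_⟩
  rw [h1.1 v hv.1 i, Function.update_self, hA]

/-- `fac M i` is an irreducible `SL₂(F)^{i}`-module. -/
theorem fac_irreducible {i : Fin k} {X : Subgroup G} (hX : X ≤ fac M i)
    (hn : grp M {i} ≤ normalizer (X : Set G)) : X = ⊥ ∨ X = fac M i := by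
  by_cases h : X = ⊥
  · exact Or.inl h
  · right
    obtain ⟨x, hx, hx1⟩ : ∃ x ∈ X, x ≠ 1 := by
      by_contra hcon
      push Not at hcon
      exact h ((eq_bot_iff_forall X).2 hcon)
    refine le_antisymm hX fun v hv => ?_
    by_cases hv1 : v = 1
    · rw [hv1]; exact one_mem _
    · obtain ⟨g, hg, h1⟩ := exists_grp M (hX hx) hv hx1 hv1
      rw [← h1]
      exact (mem_normalizer_iff.1 (hn hg) _).1 hx

theorem fac_inf_centralizer (i : Fin k) : fac M i ⊓ centralizer (grp M {i} : Set G) = ⊥ := by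
  rw [eq_bot_iff]
  rintro v ⟨hv, hc⟩
  rw [mem_bot]
  by_contra hv1
  -- move `v` to another vector
  obtain ⟨w, hw, hw1, hwv⟩ : ∃ w ∈ fac M i, w ≠ 1 ∧ w ≠ v := by
    obtain ⟨a, ha, hea⟩ := exists_fac M i ![1, 0]
    obtain ⟨b, hb, heb⟩ := exists_fac M i ![0, 1]
    by_cases h : a = v
    · refine ⟨b, hb, fun h1 => ?_, fun h1 => ?_⟩
      · rw [h1, e_one] at heb
        have := congrFun heb 1
        simp at this
      · rw [h1, ← h, hea] at heb
        have := congrFun heb 0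
        simp at this
    · refine ⟨a, ha, fun h1 => ?_, h⟩
      rw [h1, e_one] at hea
      have := congrFun hea 0
      simp at this
  obtain ⟨g, hg, h1⟩ := exists_grp M hv hw hv1 hw1
  have h2 := mem_centralizer_iff.1 hc g hg
  apply hwv
  rw [← h1, h2]
  group

/-! ### The permutation of the factors -/

/-- The permutation of the factors induced by `g ∈ P`. -/
noncomputable def sg {g : G} (hg : g ∈ P) : Equiv.Perm (Fin k) := (M.perm g hg).choose

theorem sg_spec {g : G} (hg : g ∈ P) {v : G} (hv : v ∈ zl S P) (i : Fin k) :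
    M.e (g * v * g⁻¹) (sg M hg i) = 0 ↔ M.e v i = 0 := (M.perm g hg).choose_spec v hv i

theorem mem_part_conj {g : G} (hg : g ∈ P) {I : Set (Fin k)} {v : G} (hv : v ∈ zl S P) :
    g * v * g⁻¹ ∈ part M (sg M hg '' I) ↔ v ∈ part M I := by
  constructor
  · rintro ⟨-, h⟩
    refine ⟨hv, fun i hi => ?_⟩
    rw [← sg_spec M hg hv i]
    exact h _ fun ⟨j, hj, hij⟩ => hi ((sg M hg).injective hij ▸ hj)
  · rintro ⟨-, h⟩
    refine ⟨cj_mem hg hv, fun i hi => ?_⟩
    obtain ⟨j, rfl⟩ := (sg M hg).surjective i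
    rw [sg_spec M hg hv j]
    exact h j fun hj => hi ⟨j, hj, rfl⟩

theorem conj_part {g : G} (hg : g ∈ P) (I : Set (Fin k)) : cj g (part M I) = part M (sg M hg '' I) := by
  ext w
  rw [mem_cj]
  constructor
  · intro h
    have h1 := (mem_part_conj M hg (I := I) h.1).2 h
    have e : g * (g⁻¹ * w * g) * g⁻¹ = w := by group
    rwa [e] at h1
  · intro h
    have hv : g⁻¹ * w * g ∈ zl S P := cj_mem' hg h.1
    have e : g * (g⁻¹ * w * g) * g⁻¹ = w := by group
    exact (mem_part_conj M hg hv).1 (by rwa [e])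

theorem conj_fac {g : G} (hg : g ∈ P) (i : Fin k) : cj g (fac M i) = fac M (sg M hg i) := by
  rw [fac, conj_part M hg, Set.image_singleton, fac]

theorem fac_inj {i j : Fin k} (h : fac M i = fac M j) : i = j := by
  by_contra hne
  have h1 := fac_inf M hne
  rw [← h, inf_idem] at h1
  exact fac_ne_bot M i h1

theorem sg_eq_iff {g : G} (hg : g ∈ P) {i j : Fin k} : sg M hg i = j ↔ cj g (fac M i) = fac M j := by
  rw [conj_fac M hg]
  exact ⟨fun h => by rw [h], fun h => fac_inj M h⟩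

theorem ker_inj {i j : Fin k} (h : ∀ v ∈ zl S P, M.e v j = 0 → M.e v i = 0) : i = j := by
  by_contra hne
  obtain ⟨v, hv, h1⟩ := exists_fac M i ![1, 0]
  have h2 := h v hv.1 (hv.2 j (Ne.symm hne))
  rw [h1] at h2
  have := congrFun h2 0
  simp at this

/-- `S` is transitive on the factors. -/
theorem exists_trans (hSP : S ≤ P) (i j : Fin k) : ∃ t ∈ S, cj t (fac M i) = fac M j := by
  obtain ⟨t, ht, h1⟩ := M.trans i j
  refine ⟨t, ht, ?_⟩
  rw [conj_fac M (hSP ht)]
  congr 1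
  refine ker_inj M fun w hw hj => ?_
  have hv : t⁻¹ * w * t ∈ zl S P := cj_mem' (hSP ht) hw
  have e : t * (t⁻¹ * w * t) * t⁻¹ = w := by group
  have h2 := h1 _ hv
  have h3 := sg_spec M (hSP ht) hv i
  rw [e] at h2 h3
  exact h3.2 (h2.1 hj)

theorem mem_normalizer_part_iff {g : G} (hg : g ∈ P) {I : Set (Fin k)} :
    g ∈ normalizer (part M I : Set G) ↔ sg M hg '' I = I := by
  rw [mem_normalizer_iff_cj, conj_part M hg]
  constructor
  · intro h
    ext i
    -- the index set is determined by the part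
    have key : ∀ J : Set (Fin k), i ∈ J ↔ fac M i ≤ part M J := by
      intro J
      constructor
      · intro hi
        exact part_mono M (Set.singleton_subset_iff.2 hi)
      · intro hle
        by_contra hi
        obtain ⟨v, hv, h1⟩ := exists_fac M i ![1, 0]
        have h2 := (hle hv).2 i hi
        rw [h1] at h2
        have := congrFun h2 0
        simp at this
    rw [key, key, h]
  · intro h
    rw [h]

theorem mem_normalizer_fac_iff {g : G} (hg : g ∈ P) {i : Fin k} :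
    g ∈ normalizer (fac M i : Set G) ↔ sg M hg i = i := by
  rw [fac, mem_normalizer_part_iff M hg, Set.image_singleton, Set.singleton_eq_singleton_iff]

theorem normalizer_part_compl {g : G} (hg : g ∈ P) {I : Set (Fin k)} (h : g ∈ normalizer (part M I : Set G)) :
    g ∈ normalizer (part M Iᶜ : Set G) := by
  rw [mem_normalizer_part_iff M hg] at h ⊢
  rw [Set.image_compl_eq (sg M hg).bijective, h]

/-- Conjugation of the groups `grp M I`. -/
theorem conj_grp {g : G} (hg : g ∈ P) (I : Set (Fin k)) : cj g (grp M I) = grp M (sg M hg '' I) := by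
  have key : ∀ {g : G} (hg : g ∈ P) (I : Set (Fin k)), cj g (grp M I) ≤ grp M (sg M hg '' I) := by
    rintro g hg I _ ⟨h, ⟨hh, A, hA, hA'⟩, rfl⟩
    change g * h * g⁻¹ ∈ _
    obtain ⟨B, hB⟩ := M.norm g hg h hh A hA.1
    refine ⟨mul_mem (mul_mem hg hh) (inv_mem hg), B, ⟨hB, fun d hd => ?_⟩, fun j hj => ?_⟩
    · rw [mem_bot] at hd
      rw [hd]
      group
    · obtain ⟨i, rfl⟩ := (sg M hg).surjective j
      have hi : i ∉ I := fun h1 => hj ⟨i, h1, rfl⟩
      refine NatPair.ap_inj fun x => ?_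
      obtain ⟨w, hw, hwx⟩ := exists_fac M (sg M hg i) x
      -- `w` is the conjugate of an element of `fac M i`, which is centralised by `h`
      have hv : g⁻¹ * w * g ∈ fac M i := by
        rw [← mem_cj, conj_fac M hg]
        exact hw
      have h1 := grp_comm M (Set.disjoint_singleton_right.2 hi) (⟨hh, A, hA, hA'⟩ : h ∈ grp M I) hv
      have h2 := hB w hw.1 (sg M hg i)
      have e : g * h * g⁻¹ * w * (g * h * g⁻¹)⁻¹ = g * (h * (g⁻¹ * w * g)) * h⁻¹ * g⁻¹ := by group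
      rw [e, h1] at h2
      have e2 : g * (g⁻¹ * w * g * h) * h⁻¹ * g⁻¹ = w := by group
      rw [e2, hwx] at h2
      rw [← h2, ap_one]
  refine le_antisymm (key hg I) fun h hh => ?_
  rw [mem_cj]
  have h1 := key (inv_mem hg) (sg M hg '' I)
  have h2 : sg M (inv_mem hg) '' (sg M hg '' I) = I := by
    have h3 : sg M (inv_mem hg) = (sg M hg).symm := by
      ext i : 1
      obtain ⟨j, rfl⟩ := (sg M hg).surjective i
      rw [Equiv.symm_apply_apply, sg_eq_iff, ← conj_fac M hg j, cj_inv_cj]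
    rw [h3]
    exact (sg M hg).symm_image_image I
  rw [h2] at h1
  have h4 := h1 ⟨h, hh, rfl⟩
  change g⁻¹ * h * g⁻¹⁻¹ ∈ _ at h4
  rwa [inv_inv] at h4

theorem normalizer_grp {g : G} (hg : g ∈ P) {I : Set (Fin k)} (h : g ∈ normalizer (part M I : Set G)) :
    g ∈ normalizer (grp M I : Set G) := by
  rw [mem_normalizer_iff_cj, conj_grp M hg, (mem_normalizer_part_iff M hg).1 h]

/-! ### The stabiliser of a factor -/

/-- The normaliser of `fac M i` in `S`. -/
def stab (i : Fin k) : Subgroup G := S ⊓ normalizer (fac M i : Set G)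

theorem stab_le (i : Fin k) : stab M i ≤ S := inf_le_left

theorem stab_normalizes (i : Fin k) : stab M i ≤ normalizer (fac M i : Set G) := inf_le_right

theorem stab_normalizes_compl (hSP : S ≤ P) (i : Fin k) : stab M i ≤ normalizer (part M {i}ᶜ : Set G) :=
  fun _ h => normalizer_part_compl M (hSP h.1) h.2

theorem stab_normalizes_grp (hSP : S ≤ P) (i : Fin k) : stab M i ≤ normalizer (grp M {i} : Set G) :=
  fun _ h => normalizer_grp M (hSP h.1) h.2

/-- The index of the stabiliser of a factor. -/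
theorem relIndex_stab {X : Subgroup G} (hXP : X ≤ P) (hSX : S ≤ X) (i : Fin k) :
    (X ⊓ normalizer (fac M i : Set G)).relIndex X = k := by
  rw [inf_relIndex_left]
  let f : X → Fin k := fun x => sg M (hXP x.2) i
  have hf : Function.Surjective f := by
    intro j
    obtain ⟨t, ht, h1⟩ := exists_trans M (hSX.trans hXP) i j
    refine ⟨⟨t, hSX ht⟩, ?_⟩
    exact (sg_eq_iff M _).2 h1
  have hff : ∀ x y : X, f x = f y ↔ (x⁻¹ * y : X) ∈ (normalizer (fac M i : Set G)).subgroupOf X := by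
    intro x y
    have h1 : f x = f y ↔ cj (x : G) (fac M i) = cj (y : G) (fac M i) := by
      rw [conj_fac M (hXP x.2), conj_fac M (hXP y.2)]
      exact ⟨fun h => by rw [show sg M (hXP x.2) i = sg M (hXP y.2) i from h], fun h => fac_inj M h⟩
    rw [h1, mem_subgroupOf, mem_normalizer_iff_cj]
    change _ ↔ cj ((x : G)⁻¹ * y) _ = _
    rw [← cj_cj]
    constructor
    · intro h
      rw [← h, cj_inv_cj]
    · intro h
      have := congrArg (cj (x : G)) h
      rw [cj_cj_inv] at this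
      exact this.symm
  let q : X ⧸ ((normalizer (fac M i : Set G)).subgroupOf X) → Fin k :=
    fun z => Quotient.liftOn' z f fun x y hxy => (hff x y).2 (QuotientGroup.leftRel_apply.1 hxy)
  have hq : Function.Bijective q := by
    constructor
    · intro z w
      induction z using QuotientGroup.induction_on with | _ x =>
      induction w using QuotientGroup.induction_on with | _ y =>
      intro h
      exact QuotientGroup.eq.2 ((hff x y).1 h)
    · intro j
      obtain ⟨x, hx⟩ := hf j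
      exact ⟨(QuotientGroup.mk x : X ⧸ ((normalizer (fac M i : Set G)).subgroupOf X)), hx⟩
  rw [relIndex, index, Nat.card_congr (Equiv.ofBijective q hq), Nat.card_fin]

theorem card_stab (hSP : S ≤ P) (i : Fin k) : Nat.card S = k * Nat.card (stab M i) := by
  have h1 := relIndex_stab M hSP le_rfl i
  have h2 := Lib.SylowNormalInf.card_mul_relIndex (S ⊓ normalizer (fac M i : Set G)) S inf_le_left
  rw [h1] at h2
  rw [← h2, mul_comm]
  rfl

/-- The stabiliser of a factor in `S` is a Sylow 2-subgroup of the stabiliser in `P`. -/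
theorem not_dvd_stab [Finite G] (hSP : S ≤ P) (hSyl : ¬ 2 ∣ S.relIndex P) (i : Fin k) {L : Subgroup G}
    (h1 : stab M i ≤ L) (h2 : L ≤ P) (h3 : L ≤ normalizer (fac M i : Set G)) : ¬ 2 ∣ (stab M i).relIndex L := by
  have e1 := card_stab M hSP i
  have e2 := Lib.SylowNormalInf.card_mul_relIndex (P ⊓ normalizer (fac M i : Set G)) P inf_le_left
  rw [relIndex_stab M le_rfl hSP i] at e2
  have e3 := Lib.SylowNormalInf.card_mul_relIndex S P hSP
  have hle : stab M i ≤ P ⊓ normalizer (fac M i : Set G) := inf_le_inf_right _ hSP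
  have e4 := Lib.SylowNormalInf.card_mul_relIndex _ _ hle
  have hk : 0 < k := Fin.pos i
  have hs : 0 < Nat.card (stab M i) := Nat.card_pos
  have e5 : (stab M i).relIndex (P ⊓ normalizer (fac M i : Set G)) = S.relIndex P := by
    have h4 : Nat.card (stab M i) * (stab M i).relIndex (P ⊓ normalizer (fac M i : Set G)) * k =
        Nat.card (stab M i) * S.relIndex P * k := by
      rw [e4, e2, ← e3, e1]
      ring
    exact Nat.eq_of_mul_eq_mul_left hs (Nat.eq_of_mul_eq_mul_right hk h4)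
  intro h5
  apply hSyl
  rw [← e5]
  exact h5.trans (Dvd.intro _ (relIndex_mul_relIndex _ _ _ h1 (le_inf h2 h3)))

/-! ### Central elements of `S` -/

/-- An element of `V` centralised by `S` with a trivial coordinate is trivial. -/
theorem eq_one_of_cent {z : G} (hz : z ∈ zl S P) (hc : ∀ s ∈ S, s * z = z * s) {i : Fin k}
    (h0 : M.e z i = 0) : z = 1 := by
  rw [← e_eq_zero M hz]
  funext j
  obtain ⟨t, ht, h1⟩ := M.trans i j
  have h2 := (h1 z hz).2 h0
  have e : t * z * t⁻¹ = z := by rw [hc t ht]; group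
  rwa [e] at h2

open Classical in
/-- The component of `v` in the factor `i`. -/
theorem exists_component {v : G} (hv : v ∈ zl S P) (i : Fin k) :
    ∃ a ∈ fac M i, M.e a i = M.e v i ∧ a⁻¹ * v ∈ part M {i}ᶜ := by
  obtain ⟨a, ha, h1⟩ := exists_fac M i (M.e v i)
  refine ⟨a, ha, h1, mul_mem (inv_mem ha.1) hv, fun j hj => ?_⟩
  have hj' : j = i := by simpa using hj
  rw [hj', M.mul _ (inv_mem ha.1) _ hv, e_inv M ha.1, Pi.add_apply, Pi.neg_apply, h1, neg_add_cancel]

/-- The component in the factor `i` of an element of `V` centralised by a subgroup of `S` normalising the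
factor is centralised too. -/
theorem component_cent (hSP : S ≤ P) {z a t : G} {i : Fin k} (hz : z ∈ zl S P) (ha : a ∈ fac M i)
    (h1 : M.e a i = M.e z i) (ht : t ∈ stab M i) (hc : t * z = z * t) : t * a = a * t := by
  have hb : a⁻¹ * z ∈ part M {i}ᶜ := by
    refine ⟨mul_mem (inv_mem ha.1) hz, fun j hj => ?_⟩
    have hj' : j = i := by simpa using hj
    rw [hj', M.mul _ (inv_mem ha.1) _ hz, e_inv M ha.1, Pi.add_apply, Pi.neg_apply, h1, neg_add_cancel]
  have h2 : t * a * t⁻¹ ∈ fac M i := (mem_normalizer_iff.1 ht.2 a).1 ha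
  have h3 : t * (a⁻¹ * z) * t⁻¹ ∈ part M {i}ᶜ :=
    (mem_normalizer_iff.1 (stab_normalizes_compl M hSP i ht) _).1 hb
  have h4 : t * a * t⁻¹ = a := by
    refine ext_fac M h2 ha ?_
    have e : t * (a⁻¹ * z) * t⁻¹ = (t * a * t⁻¹)⁻¹ * (t * z * t⁻¹) := by group
    have e2 : t * z * t⁻¹ = z := by rw [hc]; group
    rw [e, e2] at h3
    have h5 := h3.2 i (by simp)
    rw [M.mul _ (inv_mem h2.1) _ hz, e_inv M h2.1, Pi.add_apply, Pi.neg_apply, neg_add_eq_zero] at h5
    rw [h5, h1]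
  calc t * a = t * a * t⁻¹ * t := by group
    _ = a * t := by rw [h4]

end Cfsg.Agent.Omega.IId

end

section


/-!
# Lines and the commutator of a mutual pair

`M : NatK F S P (zl S P) ⊥ k`, `V = zl S P`.

* `lines M I` : the elements of `part M I` with all coordinates in the line `{x | x 1 = 0}`; `line M i`;
* `Full M A I` : `A` induces on `V` the full group of upper unitriangular elements of `SL₂(F)^I`;
* `exists_full` : an offender in `S` is of this kind (`NatK.off`);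
* `commutator_eq` : `[V, A] = lines M I`, of order `q ^ |I|`;
* `eq_line` : if `|[V, A]| = q`, then `[V, A]` is a line.
-/

set_option autoImplicit false

namespace Cfsg.Agent.Omega.IId

open Subgroup Cfsg Cfsg.Agent.ZN Cfsg.Agent.ZN.ChoiceBase
open Cfsg.Agent.Omega.MinPar Cfsg.Agent.Omega.FFThm
open Cfsg.Agent.MinSimple.VModule (le_normalizer_zl)
open Cfsg.Agent.Lib.SL2Mat
open Cfsg.Agent.Omega.NatPair (ap ap_mul ap_one ap_inv_ap ap_ap_inv exists_ap ap_add)
open scoped commutatorElement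

universe u

variable {G : Type u} [Group G] {F : Type} [Field F] {S P : Subgroup G} {k : ℕ}
  (M : NatK F S P (zl S P) ⊥ k)

/-- The elements of `part M I` with all coordinates in the line `{x | x 1 = 0}`. -/
def lines (I : Set (Fin k)) : Subgroup G where
  carrier := {v | v ∈ part M I ∧ ∀ i, M.e v i 1 = 0}
  one_mem' := ⟨one_mem _, fun i => by rw [e_one]; rfl⟩
  mul_mem' := by
    rintro a b ⟨ha, ha'⟩ ⟨hb, hb'⟩
    exact ⟨mul_mem ha hb, fun i => by
      rw [M.mul a ha.1 b hb.1, Pi.add_apply, Pi.add_apply, ha' i, hb' i, add_zero]⟩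
  inv_mem' := by
    rintro a ⟨ha, ha'⟩
    exact ⟨inv_mem ha, fun i => by rw [e_inv M ha.1, Pi.neg_apply, Pi.neg_apply, ha' i, neg_zero]⟩

theorem lines_le (I : Set (Fin k)) : lines M I ≤ part M I := fun _ h => h.1

theorem lines_mono {I J : Set (Fin k)} (h : I ⊆ J) : lines M I ≤ lines M J :=
  fun _ hv => ⟨part_mono M h hv.1, hv.2⟩

/-- The line of the factor `i`. -/
def line (i : Fin k) : Subgroup G := lines M {i}

theorem mem_line {i : Fin k} {v : G} : v ∈ line M i ↔ v ∈ fac M i ∧ M.e v i 1 = 0 := by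
  refine ⟨fun h => ⟨h.1, h.2 i⟩, fun h => ⟨h.1, fun j => ?_⟩⟩
  by_cases hj : j = i
  · rw [hj]; exact h.2
  · rw [h.1.2 j hj]; rfl

theorem line_le (i : Fin k) : line M i ≤ fac M i := lines_le M _

open Classical in
theorem exists_lines (I : Set (Fin k)) (x : Fin k → F) (hx : ∀ i, i ∉ I → x i = 0) :
    ∃ v ∈ lines M I, ∀ i, M.e v i 0 = x i := by
  obtain ⟨v, hv, h⟩ := M.surj fun i => ![x i, 0]
  refine ⟨v, ⟨⟨hv, fun i hi => ?_⟩, fun i => ?_⟩, fun i => ?_⟩
  · rw [h]
    apply NatPair.ext2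
    · exact hx i hi
    · rfl
  · rw [h]; rfl
  · rw [h]; rfl

open Classical in
/-- `|lines M I| = q ^ |I|`. -/
theorem card_lines [Finite F] (I : Set (Fin k)) : Nat.card (lines M I) = Nat.card F ^ Nat.card I := by
  have h1 : Function.Bijective fun (v : lines M I) (i : I) => M.e v i 0 := by
    constructor
    · intro v w h
      refine Subtype.ext (e_inj M v.2.1.1 w.2.1.1 (funext fun i => ?_))
      by_cases hi : i ∈ I
      · apply NatPair.ext2
        · exact congrFun h ⟨i, hi⟩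
        · rw [v.2.2 i, w.2.2 i]
      · rw [v.2.1.2 i hi, w.2.1.2 i hi]
    · intro x
      obtain ⟨v, hv, h⟩ := exists_lines M I (fun i => if hi : i ∈ I then x ⟨i, hi⟩ else 0)
        fun i hi => dif_neg hi
      refine ⟨⟨v, hv⟩, funext fun i => ?_⟩
      have h2 := h i
      rw [dif_pos i.2] at h2
      exact h2
  rw [Nat.card_congr (Equiv.ofBijective _ h1), Nat.card_fun]

theorem card_line [Finite F] (i : Fin k) : Nat.card (line M i) = Nat.card F := by
  rw [line, card_lines]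
  simp

/-- `A` induces on `V` the full group of upper unitriangular elements of `SL₂(F)^I`. -/
structure Ind (A : Subgroup G) (I : Set (Fin k)) : Prop where
  act : ∀ a ∈ A, ∃ b : Fin k → F, (∀ i, i ∉ I → b i = 0) ∧ ActsSL M.e (zl S P) ⊥ a fun i => up (b i)
  ex : ∀ b : Fin k → F, (∀ i, i ∉ I → b i = 0) → ∃ a ∈ A, ActsSL M.e (zl S P) ⊥ a fun i => up (b i)

theorem exists_ind {A : Subgroup G} (hA : A ≤ S) (hoff : Off (zl S P) A) : ∃ I : Set (Fin k), Ind M A I := by
  obtain ⟨I, h1, h2⟩ := M.off A hA hoff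
  exact ⟨I, h1, h2⟩

variable {M}

/-- The coordinates of a commutator. -/
theorem e_comm {v a : G} (hv : v ∈ zl S P) (ha : a ∈ P) {b : Fin k → F}
    (h : ActsSL M.e (zl S P) ⊥ a fun i => up (b i)) (i : Fin k) :
    ⁅v, a⁆ ∈ zl S P ∧ M.e ⁅v, a⁆ i 0 = - (b i * M.e v i 1) ∧ M.e ⁅v, a⁆ i 1 = 0 := by
  have e : ⁅v, a⁆ = v * (a * v⁻¹ * a⁻¹) := by rw [commutatorElement_def]; group
  have h1 : a * v⁻¹ * a⁻¹ ∈ zl S P := cj_mem ha (inv_mem hv)
  have h2 := h.1 _ (inv_mem hv) i
  rw [e, M.mul v hv _ h1, Pi.add_apply, Pi.add_apply, Pi.add_apply, h2, e_inv M hv, NatPair.ap_zero',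
    NatPair.ap_one']
  refine ⟨mul_mem hv h1, ?_, ?_⟩
  · simp only [up_00, up_01, Pi.neg_apply]
    ring
  · simp only [up_10, up_11, Pi.neg_apply]
    ring

open Classical in
/-- `[V, A] = lines M I`. -/
theorem Ind.commutator_eq {A : Subgroup G} {I : Set (Fin k)} (h : Ind M A I) (hA : A ≤ P) :
    ⁅zl S P, A⁆ = lines M I := by
  refine le_antisymm ?_ ?_
  · rw [commutator_le]
    intro v hv a ha
    obtain ⟨b, hb, h1⟩ := h.act a ha
    refine ⟨⟨(mul_mem hv (cj_mem (hA ha) (inv_mem hv)) : v * (a * v⁻¹ * a⁻¹) ∈ zl S P) |> fun h2 => ?_,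
      fun i hi => ?_⟩, fun i => (e_comm hv (hA ha) h1 i).2.2⟩
    · have e : ⁅v, a⁆ = v * (a * v⁻¹ * a⁻¹) := by rw [commutatorElement_def]; group
      rw [e]; exact h2
    · apply NatPair.ext2
      · rw [(e_comm hv (hA ha) h1 i).2.1, hb i hi]
        simp
      · exact (e_comm hv (hA ha) h1 i).2.2
  · intro w hw
    obtain ⟨v, hv, hev⟩ := M.surj fun i => if i ∈ I then ![0, 1] else 0
    have hev' : ∀ i, M.e v i = if i ∈ I then ![0, 1] else 0 := fun i => congrFun hev i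
    obtain ⟨a, ha, h1⟩ := h.ex (fun i => - M.e w i 0) fun i hi => by
      rw [hw.1.2 i hi]; simp
    have e : w = ⁅v, a⁆ := by
      by_cases hk : k = 0
      · subst hk
        refine e_inj M hw.1.1 ?_ (funext fun i => i.elim0)
        have e : ⁅v, a⁆ = v * (a * v⁻¹ * a⁻¹) := by rw [commutatorElement_def]; group
        rw [e]
        exact mul_mem hv (cj_mem (hA ha) (inv_mem hv))
      · have i0 : Fin k := ⟨0, Nat.pos_of_ne_zero hk⟩
        refine e_inj M hw.1.1 (e_comm hv (hA ha) h1 i0).1 (funext fun i => ?_)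
        obtain ⟨-, h2, h3⟩ := e_comm hv (hA ha) h1 i
        apply NatPair.ext2
        · rw [h2, hev']
          by_cases hi : i ∈ I
          · rw [if_pos hi]
            simp
          · rw [if_neg hi, hw.1.2 i hi]
            simp
        · rw [h3, hw.2 i]
    rw [e]
    exact commutator_mem_commutator hv ha

/-- If `|[V, A]| = q`, then `[V, A]` is a line. -/
theorem Ind.eq_line [Finite F] {A : Subgroup G} {I : Set (Fin k)} (h : Ind M A I) (hA : A ≤ P)
    (hc : Nat.card ↥⁅zl S P, A⁆ = Nat.card F) : ∃ i, I = {i} ∧ ⁅zl S P, A⁆ = line M i := by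
  have h1 := h.commutator_eq hA
  rw [h1, card_lines] at hc
  have hq : 1 < Nat.card F := Finite.one_lt_card
  have h2 : Nat.card I = 1 := by
    have : Nat.card F ^ Nat.card I = Nat.card F ^ 1 := by rw [hc, pow_one]
    exact Nat.pow_right_injective hq this
  obtain ⟨hs, hne⟩ := Nat.card_eq_one_iff_unique.1 h2
  obtain ⟨i, hi⟩ := hne
  have h3 : I = {i} := by
    ext j
    exact ⟨fun hj => congrArg Subtype.val (Subsingleton.elim (⟨j, hj⟩ : I) ⟨i, hi⟩), fun hj => by rw [hj]; exact hi⟩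
  exact ⟨i, h3, by rw [h1, h3]; rfl⟩

end Cfsg.Agent.Omega.IId

end

section


/-!
# `k = 2` natural factors: the structure `Two`

`M : NatK F S P (zl S P) ⊥ 2`, `P ∈ P*(S)`: the factors `fac M i`, `fac M j`, `i ≠ j`, the groups `grp M {i}`,
`grp M {j}` and `stab M i` form a `Two`.
-/

set_option autoImplicit false

namespace Cfsg.Agent.Omega.IId

open Subgroup Cfsg Cfsg.Agent.ZN Cfsg.Agent.ZN.ChoiceBase
open Cfsg.Agent.Omega.MinPar Cfsg.Agent.Omega.FFThm
open Cfsg.Agent.MinSimple.VModule (le_normalizer_zl)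
open Cfsg.Agent.Lib.SL2Mat

universe u

variable {G : Type u} [Group G] {F : Type} [Field F] {P : Subgroup G}

theorem compl_eq {i j : Fin 2} (h : i ≠ j) : ({i}ᶜ : Set (Fin 2)) = {j} := by
  ext x
  simp only [Set.mem_compl_iff, Set.mem_singleton_iff]
  omega

section two

variable {S : Subgroup G} (M : NatK F S P (zl S P) ⊥ 2)

theorem stab_normalizes' (hSP : S ≤ P) {i j : Fin 2} (h : i ≠ j) :
    stab M i ≤ normalizer (fac M j : Set G) := by
  have := stab_normalizes_compl M hSP i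
  rwa [compl_eq h] at this

theorem sup_fac {i j : Fin 2} (h : i ≠ j) : fac M i ⊔ fac M j = zl S P := by
  have := part_sup M {i}
  rwa [compl_eq h] at this

theorem stab_eq (hSP : S ≤ P) {i j : Fin 2} (h : i ≠ j) : stab M i = stab M j :=
  le_antisymm (le_inf (stab_le M i) (stab_normalizes' M hSP h))
    (le_inf (stab_le M j) (stab_normalizes' M hSP h.symm))

/-- An element of `S` which does not normalise `fac M i` swaps the factors. -/
theorem swap_fac (hSP : S ≤ P) {i j : Fin 2} (h : i ≠ j) {s : G} (hs : s ∈ S) (hn : s ∉ stab M i) :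
    cj s (fac M i) = fac M j := by
  have h1 : sg M (hSP hs) i ≠ i := by
    intro h1
    apply hn
    exact ⟨hs, (mem_normalizer_fac_iff M (hSP hs)).2 h1⟩
  rw [conj_fac M (hSP hs)]
  congr 1
  omega

/-- The component of an element of `V` in the factor `i`: the other component is in `fac M j`. -/
theorem exists_comp2 {i j : Fin 2} (h : i ≠ j) {v : G} (hv : v ∈ zl S P) :
    ∃ a ∈ fac M i, ∃ b ∈ fac M j, v = a * b := by
  obtain ⟨a, ha, -, h2⟩ := exists_component M hv i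
  rw [compl_eq h] at h2
  exact ⟨a, ha, a⁻¹ * v, h2, by group⟩

end two

/-- **The structure `Two`.** -/
theorem two_of [Finite G] [Finite F] [CharP F 2] (hc : IsCharacteristicTwoType G) {S : Sylow 2 G}
    (hP : IsParS (S : Subgroup G) P) (M : NatK F (S : Subgroup G) P (zl (S : Subgroup G) P) ⊥ 2)
    {i j : Fin 2} (hij : i ≠ j) :
    Two (S : Subgroup G) (stab M i) (fac M i) (fac M j) (grp M {i}) (grp M {j}) := by
  have hSP : (S : Subgroup G) ≤ P := hP.isLoc.le
  have hV : zl (S : Subgroup G) P ≤ (S : Subgroup G) := zl_le_sylow hc S hP.isLoc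
  have hVab : ∀ x ∈ zl (S : Subgroup G) P, ∀ y ∈ zl (S : Subgroup G) P, x * y = y * x :=
    fun x hx y hy => comm M hx hy
  have hn : ∀ l, zl (S : Subgroup G) P ≤ normalizer (fac M l : Set G) := by
    intro l x hx
    rw [mem_normalizer_iff]
    intro y
    constructor
    · intro hy
      rw [hVab x hx y (fac_le M l hy), mul_inv_cancel_right]
      exact hy
    · intro hy
      have h1 : y = x⁻¹ * (x * y * x⁻¹) * x := by group
      rw [h1, hVab x⁻¹ (inv_mem hx) _ (fac_le M l hy), inv_mul_cancel_right]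
      exact hy
  have hVS : zl (S : Subgroup G) P ≤ stab M i := le_inf hV (hn i)
  have hdisj : Disjoint ({i} : Set (Fin 2)) {j} := by simpa using hij
  have conjmem : ∀ {H A : Subgroup G}, H ≤ normalizer (A : Set G) →
      ∀ x ∈ H, ∀ v ∈ A, x * v * x⁻¹ ∈ A := fun h x hx v hv => (mem_normalizer_iff.1 (h hx) v).1 hv
  have hodd : ¬ 2 ∣ (S : Subgroup G).relIndex P := MinSimple.Basic.not_dvd_relIndex S hSP
  have hcard : ∀ l, 2 < Nat.card (fac M l) := by
    intro l
    rw [card_fac]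
    rcases FrameFF.two_le_card (F := F) with h | h
    · rw [h]; norm_num
    · nlinarith
  have zz : ∀ l : Fin 2, Nat.card (zc (S : Subgroup G)) ≤
      Nat.card (fac M l ⊓ centralizer (stab M l : Set G) : Subgroup G) := by
    intro l
    have hz : ∀ z : zc (S : Subgroup G), (z : G) ∈ zl (S : Subgroup G) P := fun z =>
      ChoiceSit.zc_le_zl _ _ z.2
    have hex : ∀ z : zc (S : Subgroup G), ∃ a ∈ fac M l ⊓ centralizer (stab M l : Set G),
        M.e a l = M.e z l := by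
      intro z
      obtain ⟨a, ha, h1, -⟩ := exists_component M (hz z) l
      refine ⟨a, ⟨ha, mem_centralizer_iff.2 fun t ht => ?_⟩, h1⟩
      exact component_cent M hSP (hz z) ha h1 ht
        ((MinSimple.VModule.mem_zc.1 z.2).2.1 t ht.1)
    choose f hf hfe using hex
    refine Nat.card_le_card_of_injective (fun z => ⟨f z, hf z⟩) ?_
    intro z w hzw
    have h1 : f z = f w := congrArg Subtype.val hzw
    have h2 : M.e ((z : G) * (w : G)⁻¹) l = 0 := by
      rw [M.mul _ (hz z) _ (inv_mem (hz w)), e_inv M (hz w), Pi.add_apply, Pi.neg_apply, ← hfe z, ← hfe w,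
        h1, add_neg_cancel]
    have h3 : (z : G) * (w : G)⁻¹ = 1 := by
      refine eq_one_of_cent M (mul_mem (hz z) (inv_mem (hz w))) (fun s hs => ?_) h2
      have h4 := (MinSimple.VModule.mem_zc.1 (mul_mem z.2 (inv_mem w.2))).2.1 s hs
      exact h4
    exact Subtype.ext (mul_inv_eq_one.1 h3)
  refine
    { SoS := stab_le M i
      card := card_stab M hSP i
      V1So := (fac_le M i).trans hVS
      V2So := (fac_le M j).trans hVS
      c1 := fun x hx y hy => hVab x (fac_le M i hx) y (fac_le M i hy)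
      c2 := fun x hx y hy => hVab x (fac_le M j hx) y (fac_le M j hy)
      q1 := fun x hx => by rw [pow_two]; exact sq M (fac_le M i hx)
      q2 := fun x hx => by rw [pow_two]; exact sq M (fac_le M j hx)
      c12 := fun x hx y hy => hVab x (fac_le M i hx) y (fac_le M j hy)
      inf := fun x hx hx' => by
        have h1 : x ∈ fac M i ⊓ fac M j := ⟨hx, hx'⟩
        rwa [fac_inf M hij, mem_bot] at h1
      So1 := conjmem (stab_normalizes M i)
      So2 := conjmem (stab_normalizes' M hSP hij)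
      sw1 := fun s hs hn' v hv => by
        rw [← swap_fac M hSP hij hs hn', mem_cj_iff]
        have e : s⁻¹ * (s * v * s⁻¹) * s = v := by group
        rwa [e]
      sw2 := fun s hs hn' v hv => by
        rw [← swap_fac M hSP hij.symm hs (fun h => hn' (by rwa [stab_eq M hSP hij])), mem_cj_iff]
        have e : s⁻¹ * (s * v * s⁻¹) * s = v := by group
        rwa [e]
      L1 := conjmem (grp_normalizes M {i} {i})
      L2 := conjmem (grp_normalizes M {j} {j})
      L12 := fun l hl v hv => grp_comm M hdisj hl hv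
      L21 := fun l hl v hv => grp_comm M hdisj.symm hl hv
      t1 := fun v hv hv1 w hw hw1 => exists_grp M hv hw hv1 hw1
      t2 := fun v hv hv1 w hw hw1 => exists_grp M hv hw hv1 hw1
      o1 := ?_
      o2 := ?_
      z1 := zz i
      z2 := by
        have := zz j
        rwa [← stab_eq M hSP hij] at this
      big1 := hcard i
      big2 := hcard j }
  · exact not_dvd_stab M hSP hodd i le_sup_right (sup_le (grp_le M _) ((stab_le M i).trans hSP))
      (sup_le (grp_normalizes M _ _) (stab_normalizes M i))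
  · exact not_dvd_stab M hSP hodd i le_sup_right (sup_le (grp_le M _) ((stab_le M i).trans hSP))
      (sup_le (grp_normalizes M _ _) (stab_normalizes M i))

end Cfsg.Agent.Omega.IId

end

section


/-!
# II.d: mutual pairs with a member which has `k ≥ 2` natural factors (assembler: helper36, head: helper612)

`LeafWr K` (`Omega/FrameMulti.lean`) from its sub-leaves.  In all of them the mutual pair is in normal position
(`Pair S S' P P'`: `V' ≤ S`, `V ≤ S'`), `V = zl S P`, `V' = zl S' P'`, and the hypotheses `Hyp K S` are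
`Ctx G`, `K G`, `Full S`, `AllIn S`, `AllTyped S`.

* `WrCv`   : `C_V(O²(P)) ≠ 1` or `C_{V'}(O²(P')) ≠ 1`;
* `WrSym`  : `P'` of type `S_{2^m+1}`;
* `WrTwo`  : natural factors on both sides, `|[V, V']| ≠ q` (`|I| ≥ 2`): contradiction;
* `WrBig`  : natural factors on both sides, `|[V, V']| = q`, more than two factors on one side;
* `WrTri`  : `k = 2`, `[V, V'] = R` a line of a factor, `N_S(V_i)` not Sylow in `N_G(R)`;
* `WrMain2`, `WrMain4` : `k = 2`, `N_S(V_i)` Sylow in `N_G(R)`, `q = 2` resp. `q ≥ 4`: contradiction.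
-/

set_option autoImplicit false

namespace Cfsg.Agent.Omega.IId

open Subgroup Pointwise Cfsg Cfsg.Agent.ZN Cfsg.Agent.ZN.ChoiceBase
open Cfsg.Agent.Omega.MinPar Cfsg.Agent.Omega.Frame Cfsg.Agent.Omega.FFThm Cfsg.Agent.Omega.FrameMulti
open Cfsg.Agent.Omega.FrameLE (AllIn)
open Cfsg.Agent.Omega.FrameFF (cv Free)

universe u

/-! ### The sub-leaves -/

/-- The standing hypotheses of the leaves. -/
structure Hyp (K : Cls.{u}) {G : Type u} [Group G] [Finite G] (S : Sylow 2 G) : Prop where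
  ctx : Ctx G
  cls : K G
  full : Full (S : Subgroup G)
  allIn : AllIn (S : Subgroup G)
  typed : AllTyped (S : Subgroup G)

/-- `n` is at most `|V_{Q₁}||V_{Q₂}|` for all mutual pairs `Q₁, Q₂` of which `Q₁` has `k ≥ 2` natural factors. -/
def MinWr {G : Type u} [Group G] (S : Subgroup G) (n : ℕ) : Prop :=
  ∀ (Q₁ Q₂ : Subgroup G) (x : G), Mutual S Q₁ Q₂ x → ∀ k, 2 ≤ k → IsNat S Q₁ k →
    n ≤ Nat.card (zl S Q₁) * Nat.card (zl S Q₂)

section leaves

variable (K : Cls.{u})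

/-- `C_V(O²(P)) ≠ 1` for one of the members. (helper766, helper816) -/
def WrCv : Prop :=
  ∀ (G : Type u) [Group G] [Finite G] (S S' : Sylow 2 G), Hyp K S → ∀ (P P' : Subgroup G), Pair S S' P P' →
    ∀ k, 2 ≤ k → IsNat (S : Subgroup G) P k →
      ¬ (Free (S : Subgroup G) P ∧ Free (S' : Subgroup G) P') → IsKnownSimple' G

/-- `P'` of type `S_{2^m+1}`, `m ≥ 2` (any number of factors). (helper592, helper242) -/
def WrSym : Prop :=
  ∀ (G : Type u) [Group G] [Finite G] (S S' : Sylow 2 G), Hyp K S → ∀ (P P' : Subgroup G), Pair S S' P P' →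
    ∀ k, 2 ≤ k → IsNat (S : Subgroup G) P k → Free (S : Subgroup G) P → Free (S' : Subgroup G) P' →
      ∀ k' m', 1 ≤ k' → 2 ≤ m' → IsSym (S' : Subgroup G) P' k' m' → IsKnownSimple' G

/-- `|I| ≥ 2`. (#11954, #12663: helper7, helper610; Lean: helper334, helper909) -/
def WrTwo : Prop :=
  ∀ (G : Type u) [Group G] [Finite G] (S S' : Sylow 2 G), Hyp K S → ∀ (P P' : Subgroup G), Pair S S' P P' →
    ∀ (F F' : Type) [Field F] [Finite F] [CharP F 2] [Field F'] [Finite F'] [CharP F' 2] (k k' : ℕ)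
      (_ : NatK F (S : Subgroup G) P (zl (S : Subgroup G) P) ⊥ k)
      (_ : NatK F' (S' : Subgroup G) P' (zl (S' : Subgroup G) P') ⊥ k'), 2 ≤ k → 1 ≤ k' →
      Nat.card ↥⁅zl (S : Subgroup G) P, zl (S' : Subgroup G) P'⁆ ≠ Nat.card F → False

/-- `|I| = 1`, more than two factors on one side. (helper461, helper612) -/
def WrBig : Prop :=
  ∀ (G : Type u) [Group G] [Finite G] (S S' : Sylow 2 G), Hyp K S → ∀ (P P' : Subgroup G), Pair S S' P P' →
    ∀ (F F' : Type) [Field F] [Finite F] [CharP F 2] [Field F'] [Finite F'] [CharP F' 2] (k k' : ℕ)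
      (_ : NatK F (S : Subgroup G) P (zl (S : Subgroup G) P) ⊥ k)
      (_ : NatK F' (S' : Subgroup G) P' (zl (S' : Subgroup G) P') ⊥ k'), 2 ≤ k → 1 ≤ k' →
      2 < k ∨ 2 < k' →
      Nat.card ↥⁅zl (S : Subgroup G) P, zl (S' : Subgroup G) P'⁆ = Nat.card F → IsKnownSimple' G

/-- CASE 2 (the triangle): `k = 2`, `|I| = 1`, `N_S(V_i)` is not Sylow in `N_G(R)`.
(#13363, #13524, #13793: helper113, helper612; Lean: helper774) -/
def WrTri : Prop :=
  ∀ (G : Type u) [Group G] [Finite G] (S S' : Sylow 2 G), Hyp K S → ∀ (P P' : Subgroup G), Pair S S' P P' →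
    ∀ (F F' : Type) [Field F] [Finite F] [CharP F 2] [Field F'] [Finite F'] [CharP F' 2] (k' : ℕ)
      (M : NatK F (S : Subgroup G) P (zl (S : Subgroup G) P) ⊥ 2)
      (_ : NatK F' (S' : Subgroup G) P' (zl (S' : Subgroup G) P') ⊥ k'), 1 ≤ k' → k' ≤ 2 →
      ∀ i, ⁅zl (S : Subgroup G) P, zl (S' : Subgroup G) P'⁆ = line M i →
        2 ∣ (stab M i).relIndex (normalizer (line M i : Set G)) → IsKnownSimple' G

/-- CASE 1: `k = 2`, `|I| = 1`, `N_S(V_i)` is Sylow in `N_G(R)`, `q = 2`.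
(#12430, #12999, #13722: helper478, helper766, helper895) -/
def WrMain2 : Prop :=
  ∀ (G : Type u) [Group G] [Finite G] (S S' : Sylow 2 G), Hyp K S → ∀ (P P' : Subgroup G), Pair S S' P P' →
    ∀ (F F' : Type) [Field F] [Finite F] [CharP F 2] [Field F'] [Finite F'] [CharP F' 2] (k' : ℕ)
      (M : NatK F (S : Subgroup G) P (zl (S : Subgroup G) P) ⊥ 2)
      (_ : NatK F' (S' : Subgroup G) P' (zl (S' : Subgroup G) P') ⊥ k'), 1 ≤ k' → k' ≤ 2 →
      ∀ i, ⁅zl (S : Subgroup G) P, zl (S' : Subgroup G) P'⁆ = line M i →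
        ¬ 2 ∣ (stab M i).relIndex (normalizer (line M i : Set G)) → Nat.card F = 2 → False

/-- CASE 1: `k = 2`, `|I| = 1`, `N_S(V_i)` is Sylow in `N_G(R)`, `q ≥ 4`; the pair is minimal (`MinWr`).
(head: helper441) -/
def WrMain4 : Prop :=
  ∀ (G : Type u) [Group G] [Finite G] (S S' : Sylow 2 G), Hyp K S → ∀ (P P' : Subgroup G), Pair S S' P P' →
    MinWr (S : Subgroup G) (Nat.card (zl (S : Subgroup G) P) * Nat.card (zl (S' : Subgroup G) P')) →
    ∀ (F F' : Type) [Field F] [Finite F] [CharP F 2] [Field F'] [Finite F'] [CharP F' 2] (k' : ℕ)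
      (M : NatK F (S : Subgroup G) P (zl (S : Subgroup G) P) ⊥ 2)
      (_ : NatK F' (S' : Subgroup G) P' (zl (S' : Subgroup G) P') ⊥ k'), 1 ≤ k' → k' ≤ 2 →
      ∀ i, ⁅zl (S : Subgroup G) P, zl (S' : Subgroup G) P'⁆ = line M i →
        ¬ 2 ∣ (stab M i).relIndex (normalizer (line M i : Set G)) → 4 ≤ Nat.card F → False

variable {K}

/-- **II.d, natural factors, from its sub-leaves.** -/
theorem leafWr (h1 : WrCv K) (h2 : WrSym K) (h3 : WrTwo K) (h4 : WrBig K) (h5 : WrTri K) (h6 : WrMain2 K)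
    (h7 : WrMain4 K) : LeafWr K := by
  intro G _ _ hG hcl S hF hLE hAT Q₁ Q₂ y₀ hm₀ k₀ hk₀ hN₀
  have hH : Hyp K S := ⟨hG, hcl, hF, hLE, hAT⟩
  -- a minimal pair
  let T : Type u := Subgroup G × Subgroup G × G
  obtain ⟨⟨P₁, P₂, x⟩, ⟨hm, k, hk, hN⟩, hmin⟩ := WellFounded.has_min
    (InvImage.wf (fun t : T => Nat.card (zl (S : Subgroup G) t.1) * Nat.card (zl (S : Subgroup G) t.2.1))
      Nat.lt_wfRel.wf)
    {t : T | Mutual (S : Subgroup G) t.1 t.2.1 t.2.2 ∧ ∃ k, 2 ≤ k ∧ IsNat (S : Subgroup G) t.1 k}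
    ⟨(Q₁, Q₂, y₀), hm₀, k₀, hk₀, hN₀⟩
  have hMin : ∀ y : G, MinWr (S : Subgroup G) (Nat.card (zl (S : Subgroup G) P₁) *
      Nat.card (zl ((sy y S : Sylow 2 G) : Subgroup G) (cj y P₂))) := by
    intro y R₁ R₂ z hR l hl hNR
    have h1 := hmin (R₁, R₂, z) ⟨hR, l, hl, hNR⟩
    have h2 : Nat.card (zl ((sy y S : Sylow 2 G) : Subgroup G) (cj y P₂)) =
        Nat.card (zl (S : Subgroup G) P₂) := by
      rw [sy_coe, zl_cj, card_cj]
    rw [h2]
    exact not_lt.1 h1
  obtain ⟨y, hm', hp⟩ := exists_pair hG.char2 S hm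
  have hT2 : Typed (S : Subgroup G) P₂ := (hAT P₁ P₂ x hm).2
  have hT2' : Typed ((sy y S : Sylow 2 G) : Subgroup G) (cj y P₂) := by
    rw [sy_coe]
    exact typed_cj hT2 y
  by_cases hf : Free (S : Subgroup G) P₁ ∧ Free ((sy y S : Sylow 2 G) : Subgroup G) (cj y P₂)
  · obtain ⟨f1, f2⟩ := hf
    rcases hT2'.cases with ⟨k', hk', hN'⟩ | ⟨k', m', hk', hm', hS'⟩
    · obtain ⟨F, i1, i2, i3, ⟨M⟩⟩ := hN
      obtain ⟨F', i1', i2', i3', ⟨M'⟩⟩ := hN'
      rw [show cv (S : Subgroup G) P₁ = ⊥ from f1] at M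
      rw [show cv ((sy y S : Sylow 2 G) : Subgroup G) (cj y P₂) = ⊥ from f2] at M'
      by_cases hc : Nat.card ↥⁅zl (S : Subgroup G) P₁, zl ((sy y S : Sylow 2 G) : Subgroup G) (cj y P₂)⁆ =
          Nat.card F
      · by_cases hb : 2 < k ∨ 2 < k'
        · exact h4 G S (sy y S) hH P₁ (cj y P₂) hp F F' k k' M M' hk hk' hb hc
        · push Not at hb
          obtain rfl : k = 2 := le_antisymm hb.1 hk
          obtain ⟨I, hI⟩ := exists_ind M hp.le (hp.off hG.char2 hT2'.noOver)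
          obtain ⟨i, -, hi⟩ := hI.eq_line (hp.le.trans hm.star₁.le) hc
          by_cases hd : 2 ∣ (stab M i).relIndex (normalizer (line M i : Set G))
          · exact h5 G S (sy y S) hH P₁ (cj y P₂) hp F F' k' M M' hk' hb.2 i hi hd
          · rcases FrameFF.two_le_card (F := F) with hq | hq
            · exact (h6 G S (sy y S) hH P₁ (cj y P₂) hp F F' k' M M' hk' hb.2 i hi hd hq).elim
            · exact (h7 G S (sy y S) hH P₁ (cj y P₂) hp (hMin y) F F' k' M M' hk' hb.2 i hi hd hq).elim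
      · exact (h3 G S (sy y S) hH P₁ (cj y P₂) hp F F' k k' M M' hk hk' hc).elim
    · exact h2 G S (sy y S) hH P₁ (cj y P₂) hp k hk hN f1 f2 k' m' hk' hm' hS'
  · exact h1 G S (sy y S) hH P₁ (cj y P₂) hp k hk hN hf

end leaves

end Cfsg.Agent.Omega.IId

end

section


/-!
# The factors of a sum of `k` natural `SL₂(F)`-modules `V`, `V` any normal subgroup of `P`

The same facts as in `IId/Fac.lean`, `IId/Line.lean` for `M : NatV F S P V k` (a `NatK F S P V ⊥ k` with
`P ≤ N(V)`), for example `V = [V_P, O²(P)]` if `C_{V_P}(O²(P)) ≠ 1` (`Cv/Split.lean`).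
-/

set_option autoImplicit false
set_option linter.unusedSectionVars false

namespace Cfsg.Agent.Omega.IId.NV

open Subgroup Cfsg Cfsg.Agent.ZN Cfsg.Agent.ZN.ChoiceBase
open Cfsg.Agent.Omega.MinPar Cfsg.Agent.Omega.FFThm
open Cfsg.Agent.Lib.SL2Mat
open Cfsg.Agent.Omega.NatPair (ap ap_mul ap_one ap_inv_ap ap_ap_inv exists_ap ap_add)
open scoped commutatorElement

universe u

/-- `V` is a sum of `k` natural `SL₂(F)`-modules for `P`, and `P` normalises `V`. -/
structure _root_.Cfsg.Agent.Omega.IId.NatV {G : Type u} [Group G] (F : Type) [Field F] (S P V : Subgroup G)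
    (k : ℕ) extends NatK F S P V ⊥ k where
  nV : P ≤ normalizer (V : Set G)

variable {G : Type u} [Group G] {F : Type} [Field F] {S P V : Subgroup G} {k : ℕ}
  (M : NatV F S P V k)

/-! ### Coordinates -/

include M in
theorem cj_mem {g v : G} (hg : g ∈ P) (hv : v ∈ V) : g * v * g⁻¹ ∈ V :=
  (mem_normalizer_iff.mp (M.nV hg) v).mp hv

include M in
theorem cj_mem' {g v : G} (hg : g ∈ P) (hv : v ∈ V) : g⁻¹ * v * g ∈ V := by
  have := cj_mem M (inv_mem hg) hv
  rwa [inv_inv] at this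

include M in
theorem e_one : M.e 1 = 0 := by
  have := M.mul 1 (one_mem _) 1 (one_mem _)
  rw [mul_one] at this
  exact left_eq_add.1 this

theorem e_inv {v : G} (hv : v ∈ V) : M.e v⁻¹ = - M.e v := by
  have := M.mul v⁻¹ (inv_mem hv) v hv
  rw [inv_mul_cancel, e_one] at this
  exact eq_neg_of_add_eq_zero_left this.symm

theorem e_eq_zero {v : G} (hv : v ∈ V) : M.e v = 0 ↔ v = 1 := by
  rw [M.ker v hv, mem_bot]

theorem e_inj {v w : G} (hv : v ∈ V) (hw : w ∈ V) (h : M.e v = M.e w) : v = w := by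
  have h1 : M.e (v * w⁻¹) = 0 := by
    rw [M.mul v hv _ (inv_mem hw), e_inv M hw, h, add_neg_cancel]
  exact mul_inv_eq_one.1 ((e_eq_zero M (mul_mem hv (inv_mem hw))).1 h1)

include M in
theorem comm {v w : G} (hv : v ∈ V) (hw : w ∈ V) : v * w = w * v :=
  e_inj M (mul_mem hv hw) (mul_mem hw hv) (by rw [M.mul v hv w hw, M.mul w hw v hv, add_comm])

include M in
theorem sq [CharP F 2] {v : G} (hv : v ∈ V) : v * v = 1 := by
  rw [← e_eq_zero M (mul_mem hv hv), M.mul v hv v hv]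
  funext i j
  exact CharTwo.add_self_eq_zero _

/-! ### Parts -/

/-- The sum of the factors with index in `I`. -/
def part (I : Set (Fin k)) : Subgroup G where
  carrier := {v | v ∈ V ∧ ∀ i, i ∉ I → M.e v i = 0}
  one_mem' := ⟨one_mem _, fun i _ => by rw [e_one]; rfl⟩
  mul_mem' := by
    rintro a b ⟨ha, ha'⟩ ⟨hb, hb'⟩
    exact ⟨mul_mem ha hb, fun i hi => by rw [M.mul a ha b hb, Pi.add_apply, ha' i hi, hb' i hi, add_zero]⟩
  inv_mem' := by
    rintro a ⟨ha, ha'⟩
    exact ⟨inv_mem ha, fun i hi => by rw [e_inv M ha, Pi.neg_apply, ha' i hi, neg_zero]⟩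

theorem mem_part {I : Set (Fin k)} {v : G} : v ∈ part M I ↔ v ∈ V ∧ ∀ i, i ∉ I → M.e v i = 0 := Iff.rfl

/-- The `i`-th factor. -/
def fac (i : Fin k) : Subgroup G := part M {i}

theorem mem_fac {i : Fin k} {v : G} : v ∈ fac M i ↔ v ∈ V ∧ ∀ j, j ≠ i → M.e v j = 0 := Iff.rfl

theorem part_le (I : Set (Fin k)) : part M I ≤ V := fun _ h => h.1

theorem fac_le (i : Fin k) : fac M i ≤ V := part_le M _

theorem part_mono {I J : Set (Fin k)} (h : I ⊆ J) : part M I ≤ part M J :=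
  fun _ hv => ⟨hv.1, fun i hi => hv.2 i fun h1 => hi (h h1)⟩

theorem part_inf (I J : Set (Fin k)) : part M I ⊓ part M J = part M (I ∩ J) := by
  ext v
  constructor
  · rintro ⟨h1, h2⟩
    refine ⟨h1.1, fun i hi => ?_⟩
    by_cases h3 : i ∈ I
    · exact h2.2 i fun h4 => hi ⟨h3, h4⟩
    · exact h1.2 i h3
  · rintro ⟨h1, h2⟩
    exact ⟨⟨h1, fun i hi => h2 i fun h3 => hi h3.1⟩, ⟨h1, fun i hi => h2 i fun h3 => hi h3.2⟩⟩

theorem part_empty : part M ∅ = ⊥ := by
  rw [eq_bot_iff]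
  rintro v ⟨h1, h2⟩
  rw [mem_bot, ← e_eq_zero M h1]
  funext i
  exact h2 i (Set.notMem_empty i)

theorem part_univ : part M Set.univ = V := by
  ext v
  exact ⟨fun h => h.1, fun h => ⟨h, fun i hi => (hi (Set.mem_univ i)).elim⟩⟩

open Classical in
/-- The components of `v`. -/
theorem exists_comp {v : G} (hv : v ∈ V) (I : Set (Fin k)) :
    ∃ a ∈ part M I, ∃ b ∈ part M Iᶜ, v = a * b := by
  obtain ⟨a, ha, hea⟩ := M.surj fun i => if i ∈ I then M.e v i else 0
  have he : ∀ i, M.e a i = if i ∈ I then M.e v i else 0 := fun i => congrFun hea i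
  refine ⟨a, ⟨ha, fun i hi => by rw [he, if_neg hi]⟩, a⁻¹ * v, ⟨mul_mem (inv_mem ha) hv, fun i hi => ?_⟩, by group⟩
  have hi' : i ∈ I := not_not.1 hi
  rw [M.mul _ (inv_mem ha) _ hv, e_inv M ha, Pi.add_apply, Pi.neg_apply, he, if_pos hi', neg_add_cancel]

theorem part_sup (I : Set (Fin k)) : part M I ⊔ part M Iᶜ = V := by
  refine le_antisymm (sup_le (part_le M _) (part_le M _)) fun v hv => ?_
  obtain ⟨a, ha, b, hb, rfl⟩ := exists_comp M hv I
  exact mul_mem_sup ha hb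

theorem fac_inf {i j : Fin k} (h : i ≠ j) : fac M i ⊓ fac M j = ⊥ := by
  rw [fac, fac, part_inf, ← part_empty M]
  congr 1
  ext x
  simp only [Set.mem_inter_iff, Set.mem_singleton_iff, Set.mem_empty_iff_false, iff_false, not_and]
  rintro rfl
  exact h

theorem ext_fac {i : Fin k} {v w : G} (hv : v ∈ fac M i) (hw : w ∈ fac M i) (h : M.e v i = M.e w i) : v = w := by
  refine e_inj M hv.1 hw.1 (funext fun j => ?_)
  by_cases hj : j = i
  · rw [hj, h]
  · rw [hv.2 j hj, hw.2 j hj]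

theorem fac_eq_one {i : Fin k} {v : G} (hv : v ∈ fac M i) : M.e v i = 0 ↔ v = 1 := by
  refine ⟨fun h => ext_fac M hv (one_mem _) (by rw [h, e_one]; rfl), fun h => ?_⟩
  rw [h, e_one]
  rfl

open Classical in
theorem exists_fac (i : Fin k) (x : Fin 2 → F) : ∃ v ∈ fac M i, M.e v i = x := by
  obtain ⟨v, hv, h⟩ := M.surj (Pi.single i x)
  exact ⟨v, ⟨hv, fun j hj => by rw [h, Pi.single_eq_of_ne hj]⟩, by rw [h, Pi.single_eq_same]⟩

theorem fac_ne_bot (i : Fin k) : fac M i ≠ ⊥ := by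
  obtain ⟨v, hv, h⟩ := exists_fac M i ![1, 0]
  intro h0
  rw [h0, mem_bot] at hv
  rw [hv, e_one] at h
  have := congrFun h 0
  simp at this

/-- The coordinate on a factor. -/
noncomputable def facEquiv (i : Fin k) : fac M i ≃ (Fin 2 → F) :=
  Equiv.ofBijective (fun v => M.e v i) ⟨fun v w h => Subtype.ext (ext_fac M v.2 w.2 h), fun x => by
    obtain ⟨v, hv, h⟩ := exists_fac M i x
    exact ⟨⟨v, hv⟩, h⟩⟩

theorem card_fac (i : Fin k) : Nat.card (fac M i) = Nat.card F ^ 2 := by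
  rw [Nat.card_congr (facEquiv M i), Nat.card_fun]
  simp

/-! ### The group `SL₂(F)^I` -/

theorem acts_one : ActsSL M.e (V) ⊥ 1 1 := by
  refine ⟨fun v _ i => ?_, fun d _ => ?_⟩
  · have e : (1 : G) * v * 1⁻¹ = v := by group
    rw [e, Pi.one_apply, ap_one]
  · rw [one_mul, mul_one]

variable {M}

theorem acts_mul {g h : G} (hh : h ∈ P) {A B : Fin k → Matrix.SpecialLinearGroup (Fin 2) F}
    (h1 : ActsSL M.e (V) ⊥ g A) (h2 : ActsSL M.e (V) ⊥ h B) :
    ActsSL M.e (V) ⊥ (g * h) (A * B) := by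
  refine ⟨fun v hv i => ?_, fun d hd => ?_⟩
  · have e : g * h * v * (g * h)⁻¹ = g * (h * v * h⁻¹) * g⁻¹ := by group
    rw [e, h1.1 _ (cj_mem M hh hv) i, h2.1 v hv i, Pi.mul_apply, ap_mul]
  · rw [mem_bot] at hd
    rw [hd]
    group

theorem acts_inv {g : G} (hg : g ∈ P) {A : Fin k → Matrix.SpecialLinearGroup (Fin 2) F}
    (h1 : ActsSL M.e (V) ⊥ g A) : ActsSL M.e (V) ⊥ g⁻¹ A⁻¹ := by
  refine ⟨fun v hv i => ?_, fun d hd => ?_⟩
  · have h2 := h1.1 _ (cj_mem M (inv_mem hg) hv) i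
    have e : g * (g⁻¹ * v * g⁻¹⁻¹) * g⁻¹ = v := by group
    rw [e] at h2
    rw [h2, Pi.inv_apply, ap_inv_ap]
  · rw [mem_bot] at hd
    rw [hd]
    group

variable (M)

/-- The elements of `P` which act on `V` as elements of `SL₂(F)^I`. -/
def grp (I : Set (Fin k)) : Subgroup G where
  carrier := {g | g ∈ P ∧ ∃ A : Fin k → Matrix.SpecialLinearGroup (Fin 2) F,
    ActsSL M.e (V) ⊥ g A ∧ ∀ i, i ∉ I → A i = 1}
  one_mem' := ⟨one_mem _, 1, acts_one M, fun _ _ => rfl⟩
  mul_mem' := by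
    rintro a b ⟨ha, A, hA, hA'⟩ ⟨hb, B, hB, hB'⟩
    exact ⟨mul_mem ha hb, A * B, acts_mul hb hA hB, fun i hi => by
      rw [Pi.mul_apply, hA' i hi, hB' i hi, mul_one]⟩
  inv_mem' := by
    rintro a ⟨ha, A, hA, hA'⟩
    exact ⟨inv_mem ha, A⁻¹, acts_inv ha hA, fun i hi => by rw [Pi.inv_apply, hA' i hi, inv_one]⟩

theorem mem_grp {I : Set (Fin k)} {g : G} : g ∈ grp M I ↔ g ∈ P ∧
    ∃ A : Fin k → Matrix.SpecialLinearGroup (Fin 2) F, ActsSL M.e (V) ⊥ g A ∧ ∀ i, i ∉ I → A i = 1 := Iff.rfl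

theorem grp_le (I : Set (Fin k)) : grp M I ≤ P := fun _ h => h.1

theorem grp_mono {I J : Set (Fin k)} (h : I ⊆ J) : grp M I ≤ grp M J :=
  fun _ ⟨h1, A, h2, h3⟩ => ⟨h1, A, h2, fun i hi => h3 i fun h4 => hi (h h4)⟩

/-- `SL₂(F)^I` centralises the factors outside `I`. -/
theorem grp_comm {I J : Set (Fin k)} (hIJ : Disjoint I J) {g v : G} (hg : g ∈ grp M I) (hv : v ∈ part M J) :
    g * v = v * g := by
  obtain ⟨hgP, A, hA, hA'⟩ := hg
  have h1 : g * v * g⁻¹ = v := by
    refine e_inj M (cj_mem M hgP hv.1) hv.1 (funext fun i => ?_)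
    rw [hA.1 v hv.1 i]
    by_cases hi : i ∈ I
    · have h2 : i ∉ J := fun h => Set.disjoint_left.1 hIJ hi h
      rw [hv.2 i h2]
      apply NatPair.ext2 <;> simp [NatPair.ap_zero', NatPair.ap_one']
    · rw [hA' i hi, ap_one]
  calc g * v = g * v * g⁻¹ * g := by group
    _ = v * g := by rw [h1]

theorem grp_le_centralizer {I J : Set (Fin k)} (hIJ : Disjoint I J) :
    grp M I ≤ centralizer (part M J : Set G) := by
  intro g hg
  rw [mem_centralizer_iff]
  intro v hv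
  exact (grp_comm M hIJ hg hv).symm

theorem grp_normalizes (I J : Set (Fin k)) : grp M I ≤ normalizer (part M J : Set G) := by
  have key : ∀ g ∈ grp M I, ∀ v ∈ part M J, g * v * g⁻¹ ∈ part M J := by
    rintro g ⟨hgP, A, hA, -⟩ v ⟨hv, hv'⟩
    refine ⟨cj_mem M hgP hv, fun i hi => ?_⟩
    rw [hA.1 v hv i, hv' i hi]
    apply NatPair.ext2 <;> simp [NatPair.ap_zero', NatPair.ap_one']
  intro g hg
  rw [mem_normalizer_iff]
  intro v
  refine ⟨key g hg v, fun h => ?_⟩
  have h1 := key g⁻¹ (inv_mem hg) _ h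
  have e : g⁻¹ * (g * v * g⁻¹) * g⁻¹⁻¹ = v := by group
  rwa [e] at h1

open Classical in
/-- `SL₂(F)^{i}` is transitive on the nontrivial elements of `fac M i`. -/
theorem exists_grp {i : Fin k} {v w : G} (hv : v ∈ fac M i) (hw : w ∈ fac M i) (hv1 : v ≠ 1) (hw1 : w ≠ 1) :
    ∃ g ∈ grp M {i}, g * v * g⁻¹ = w := by
  obtain ⟨A, hA⟩ := exists_ap (mt (fac_eq_one M hv).1 hv1) (mt (fac_eq_one M hw).1 hw1)
  obtain ⟨g, hg, h1⟩ := M.lift (Function.update 1 i A)
  have hg' : g ∈ grp M {i} := ⟨hg, _, h1, fun j hj => Function.update_of_ne hj _ _⟩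
  refine ⟨g, hg', ext_fac M ((mem_normalizer_iff.1 (grp_normalizes M {i} {i} hg') v).1 hv) hw ?_⟩
  rw [h1.1 v hv.1 i, Function.update_self, hA]

/-- `fac M i` is an irreducible `SL₂(F)^{i}`-module. -/
theorem fac_irreducible {i : Fin k} {X : Subgroup G} (hX : X ≤ fac M i)
    (hn : grp M {i} ≤ normalizer (X : Set G)) : X = ⊥ ∨ X = fac M i := by
  by_cases h : X = ⊥
  · exact Or.inl h
  · right
    obtain ⟨x, hx, hx1⟩ : ∃ x ∈ X, x ≠ 1 := by
      by_contra hcon
      push Not at hcon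
      exact h ((eq_bot_iff_forall X).2 hcon)
    refine le_antisymm hX fun v hv => ?_
    by_cases hv1 : v = 1
    · rw [hv1]; exact one_mem _
    · obtain ⟨g, hg, h1⟩ := exists_grp M (hX hx) hv hx1 hv1
      rw [← h1]
      exact (mem_normalizer_iff.1 (hn hg) _).1 hx

theorem fac_inf_centralizer (i : Fin k) : fac M i ⊓ centralizer (grp M {i} : Set G) = ⊥ := by
  rw [eq_bot_iff]
  rintro v ⟨hv, hc⟩
  rw [mem_bot]
  by_contra hv1
  -- move `v` to another vector
  obtain ⟨w, hw, hw1, hwv⟩ : ∃ w ∈ fac M i, w ≠ 1 ∧ w ≠ v := by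
    obtain ⟨a, ha, hea⟩ := exists_fac M i ![1, 0]
    obtain ⟨b, hb, heb⟩ := exists_fac M i ![0, 1]
    by_cases h : a = v
    · refine ⟨b, hb, fun h1 => ?_, fun h1 => ?_⟩
      · rw [h1, e_one] at heb
        have := congrFun heb 1
        simp at this
      · rw [h1, ← h, hea] at heb
        have := congrFun heb 0
        simp at this
    · refine ⟨a, ha, fun h1 => ?_, h⟩
      rw [h1, e_one] at hea
      have := congrFun hea 0
      simp at this
  obtain ⟨g, hg, h1⟩ := exists_grp M hv hw hv1 hw1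
  have h2 := mem_centralizer_iff.1 hc g hg
  apply hwv
  rw [← h1, h2]
  group

/-! ### The permutation of the factors -/

/-- The permutation of the factors induced by `g ∈ P`. -/
noncomputable def sg {g : G} (hg : g ∈ P) : Equiv.Perm (Fin k) := (M.perm g hg).choose

theorem sg_spec {g : G} (hg : g ∈ P) {v : G} (hv : v ∈ V) (i : Fin k) :
    M.e (g * v * g⁻¹) (sg M hg i) = 0 ↔ M.e v i = 0 := (M.perm g hg).choose_spec v hv i

theorem mem_part_conj {g : G} (hg : g ∈ P) {I : Set (Fin k)} {v : G} (hv : v ∈ V) :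
    g * v * g⁻¹ ∈ part M (sg M hg '' I) ↔ v ∈ part M I := by
  constructor
  · rintro ⟨-, h⟩
    refine ⟨hv, fun i hi => ?_⟩
    rw [← sg_spec M hg hv i]
    exact h _ fun ⟨j, hj, hij⟩ => hi ((sg M hg).injective hij ▸ hj)
  · rintro ⟨-, h⟩
    refine ⟨cj_mem M hg hv, fun i hi => ?_⟩
    obtain ⟨j, rfl⟩ := (sg M hg).surjective i
    rw [sg_spec M hg hv j]
    exact h j fun hj => hi ⟨j, hj, rfl⟩

theorem conj_part {g : G} (hg : g ∈ P) (I : Set (Fin k)) : cj g (part M I) = part M (sg M hg '' I) := by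
  ext w
  rw [mem_cj]
  constructor
  · intro h
    have h1 := (mem_part_conj M hg (I := I) h.1).2 h
    have e : g * (g⁻¹ * w * g) * g⁻¹ = w := by group
    rwa [e] at h1
  · intro h
    have hv : g⁻¹ * w * g ∈ V := cj_mem' M hg h.1
    have e : g * (g⁻¹ * w * g) * g⁻¹ = w := by group
    exact (mem_part_conj M hg hv).1 (by rwa [e])

theorem conj_fac {g : G} (hg : g ∈ P) (i : Fin k) : cj g (fac M i) = fac M (sg M hg i) := by
  rw [fac, conj_part M hg, Set.image_singleton, fac]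

theorem fac_inj {i j : Fin k} (h : fac M i = fac M j) : i = j := by
  by_contra hne
  have h1 := fac_inf M hne
  rw [← h, inf_idem] at h1
  exact fac_ne_bot M i h1

theorem sg_eq_iff {g : G} (hg : g ∈ P) {i j : Fin k} : sg M hg i = j ↔ cj g (fac M i) = fac M j := by
  rw [conj_fac M hg]
  exact ⟨fun h => by rw [h], fun h => fac_inj M h⟩

theorem ker_inj {i j : Fin k} (h : ∀ v ∈ V, M.e v j = 0 → M.e v i = 0) : i = j := by
  by_contra hne
  obtain ⟨v, hv, h1⟩ := exists_fac M i ![1, 0]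
  have h2 := h v hv.1 (hv.2 j (Ne.symm hne))
  rw [h1] at h2
  have := congrFun h2 0
  simp at this

/-- `S` is transitive on the factors. -/
theorem exists_trans (hSP : S ≤ P) (i j : Fin k) : ∃ t ∈ S, cj t (fac M i) = fac M j := by
  obtain ⟨t, ht, h1⟩ := M.trans i j
  refine ⟨t, ht, ?_⟩
  rw [conj_fac M (hSP ht)]
  congr 1
  refine ker_inj M fun w hw hj => ?_
  have hv : t⁻¹ * w * t ∈ V := cj_mem' M (hSP ht) hw
  have e : t * (t⁻¹ * w * t) * t⁻¹ = w := by group
  have h2 := h1 _ hv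
  have h3 := sg_spec M (hSP ht) hv i
  rw [e] at h2 h3
  exact h3.2 (h2.1 hj)

theorem mem_normalizer_part_iff {g : G} (hg : g ∈ P) {I : Set (Fin k)} :
    g ∈ normalizer (part M I : Set G) ↔ sg M hg '' I = I := by
  rw [mem_normalizer_iff_cj, conj_part M hg]
  constructor
  · intro h
    ext i
    -- the index set is determined by the part
    have key : ∀ J : Set (Fin k), i ∈ J ↔ fac M i ≤ part M J := by
      intro J
      constructor
      · intro hi
        exact part_mono M (Set.singleton_subset_iff.2 hi)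
      · intro hle
        by_contra hi
        obtain ⟨v, hv, h1⟩ := exists_fac M i ![1, 0]
        have h2 := (hle hv).2 i hi
        rw [h1] at h2
        have := congrFun h2 0
        simp at this
    rw [key, key, h]
  · intro h
    rw [h]

theorem mem_normalizer_fac_iff {g : G} (hg : g ∈ P) {i : Fin k} :
    g ∈ normalizer (fac M i : Set G) ↔ sg M hg i = i := by
  rw [fac, mem_normalizer_part_iff M hg, Set.image_singleton, Set.singleton_eq_singleton_iff]

theorem normalizer_part_compl {g : G} (hg : g ∈ P) {I : Set (Fin k)} (h : g ∈ normalizer (part M I : Set G)) :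
    g ∈ normalizer (part M Iᶜ : Set G) := by
  rw [mem_normalizer_part_iff M hg] at h ⊢
  rw [Set.image_compl_eq (sg M hg).bijective, h]

/-- Conjugation of the groups `grp M I`. -/
theorem conj_grp {g : G} (hg : g ∈ P) (I : Set (Fin k)) : cj g (grp M I) = grp M (sg M hg '' I) := by
  have key : ∀ {g : G} (hg : g ∈ P) (I : Set (Fin k)), cj g (grp M I) ≤ grp M (sg M hg '' I) := by
    rintro g hg I _ ⟨h, ⟨hh, A, hA, hA'⟩, rfl⟩
    change g * h * g⁻¹ ∈ _
    obtain ⟨B, hB⟩ := M.norm g hg h hh A hA.1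
    refine ⟨mul_mem (mul_mem hg hh) (inv_mem hg), B, ⟨hB, fun d hd => ?_⟩, fun j hj => ?_⟩
    · rw [mem_bot] at hd
      rw [hd]
      group
    · obtain ⟨i, rfl⟩ := (sg M hg).surjective j
      have hi : i ∉ I := fun h1 => hj ⟨i, h1, rfl⟩
      refine NatPair.ap_inj fun x => ?_
      obtain ⟨w, hw, hwx⟩ := exists_fac M (sg M hg i) x
      -- `w` is the conjugate of an element of `fac M i`, which is centralised by `h`
      have hv : g⁻¹ * w * g ∈ fac M i := by
        rw [← mem_cj, conj_fac M hg]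
        exact hw
      have h1 := grp_comm M (Set.disjoint_singleton_right.2 hi) (⟨hh, A, hA, hA'⟩ : h ∈ grp M I) hv
      have h2 := hB w hw.1 (sg M hg i)
      have e : g * h * g⁻¹ * w * (g * h * g⁻¹)⁻¹ = g * (h * (g⁻¹ * w * g)) * h⁻¹ * g⁻¹ := by group
      rw [e, h1] at h2
      have e2 : g * (g⁻¹ * w * g * h) * h⁻¹ * g⁻¹ = w := by group
      rw [e2, hwx] at h2
      rw [← h2, ap_one]
  refine le_antisymm (key hg I) fun h hh => ?_
  rw [mem_cj]
  have h1 := key (inv_mem hg) (sg M hg '' I)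
  have h2 : sg M (inv_mem hg) '' (sg M hg '' I) = I := by
    have h3 : sg M (inv_mem hg) = (sg M hg).symm := by
      ext i : 1
      obtain ⟨j, rfl⟩ := (sg M hg).surjective i
      rw [Equiv.symm_apply_apply, sg_eq_iff, ← conj_fac M hg j, cj_inv_cj]
    rw [h3]
    exact (sg M hg).symm_image_image I
  rw [h2] at h1
  have h4 := h1 ⟨h, hh, rfl⟩
  change g⁻¹ * h * g⁻¹⁻¹ ∈ _ at h4
  rwa [inv_inv] at h4

theorem normalizer_grp {g : G} (hg : g ∈ P) {I : Set (Fin k)} (h : g ∈ normalizer (part M I : Set G)) :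
    g ∈ normalizer (grp M I : Set G) := by
  rw [mem_normalizer_iff_cj, conj_grp M hg, (mem_normalizer_part_iff M hg).1 h]

/-! ### The stabiliser of a factor -/

/-- The normaliser of `fac M i` in `S`. -/
def stab (i : Fin k) : Subgroup G := S ⊓ normalizer (fac M i : Set G)

theorem stab_le (i : Fin k) : stab M i ≤ S := inf_le_left

theorem stab_normalizes (i : Fin k) : stab M i ≤ normalizer (fac M i : Set G) := inf_le_right

theorem stab_normalizes_compl (hSP : S ≤ P) (i : Fin k) : stab M i ≤ normalizer (part M {i}ᶜ : Set G) :=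
  fun _ h => normalizer_part_compl M (hSP h.1) h.2

theorem stab_normalizes_grp (hSP : S ≤ P) (i : Fin k) : stab M i ≤ normalizer (grp M {i} : Set G) :=
  fun _ h => normalizer_grp M (hSP h.1) h.2

/-- The index of the stabiliser of a factor. -/
theorem relIndex_stab {X : Subgroup G} (hXP : X ≤ P) (hSX : S ≤ X) (i : Fin k) :
    (X ⊓ normalizer (fac M i : Set G)).relIndex X = k := by
  rw [inf_relIndex_left]
  let f : X → Fin k := fun x => sg M (hXP x.2) i
  have hf : Function.Surjective f := by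
    intro j
    obtain ⟨t, ht, h1⟩ := exists_trans M (hSX.trans hXP) i j
    refine ⟨⟨t, hSX ht⟩, ?_⟩
    exact (sg_eq_iff M _).2 h1
  have hff : ∀ x y : X, f x = f y ↔ (x⁻¹ * y : X) ∈ (normalizer (fac M i : Set G)).subgroupOf X := by
    intro x y
    have h1 : f x = f y ↔ cj (x : G) (fac M i) = cj (y : G) (fac M i) := by
      rw [conj_fac M (hXP x.2), conj_fac M (hXP y.2)]
      exact ⟨fun h => by rw [show sg M (hXP x.2) i = sg M (hXP y.2) i from h], fun h => fac_inj M h⟩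
    rw [h1, mem_subgroupOf, mem_normalizer_iff_cj]
    change _ ↔ cj ((x : G)⁻¹ * y) _ = _
    rw [← cj_cj]
    constructor
    · intro h
      rw [← h, cj_inv_cj]
    · intro h
      have := congrArg (cj (x : G)) h
      rw [cj_cj_inv] at this
      exact this.symm
  let q : X ⧸ ((normalizer (fac M i : Set G)).subgroupOf X) → Fin k :=
    fun z => Quotient.liftOn' z f fun x y hxy => (hff x y).2 (QuotientGroup.leftRel_apply.1 hxy)
  have hq : Function.Bijective q := by
    constructor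
    · intro z w
      induction z using QuotientGroup.induction_on with | _ x =>
      induction w using QuotientGroup.induction_on with | _ y =>
      intro h
      exact QuotientGroup.eq.2 ((hff x y).1 h)
    · intro j
      obtain ⟨x, hx⟩ := hf j
      exact ⟨(QuotientGroup.mk x : X ⧸ ((normalizer (fac M i : Set G)).subgroupOf X)), hx⟩
  rw [relIndex, index, Nat.card_congr (Equiv.ofBijective q hq), Nat.card_fin]

theorem card_stab (hSP : S ≤ P) (i : Fin k) : Nat.card S = k * Nat.card (stab M i) := by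
  have h1 := relIndex_stab M hSP le_rfl i
  have h2 := Lib.SylowNormalInf.card_mul_relIndex (S ⊓ normalizer (fac M i : Set G)) S inf_le_left
  rw [h1] at h2
  rw [← h2, mul_comm]
  rfl

/-- The stabiliser of a factor in `S` is a Sylow 2-subgroup of the stabiliser in `P`. -/
theorem not_dvd_stab [Finite G] (hSP : S ≤ P) (hSyl : ¬ 2 ∣ S.relIndex P) (i : Fin k) {L : Subgroup G}
    (h1 : stab M i ≤ L) (h2 : L ≤ P) (h3 : L ≤ normalizer (fac M i : Set G)) : ¬ 2 ∣ (stab M i).relIndex L := by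
  have e1 := card_stab M hSP i
  have e2 := Lib.SylowNormalInf.card_mul_relIndex (P ⊓ normalizer (fac M i : Set G)) P inf_le_left
  rw [relIndex_stab M le_rfl hSP i] at e2
  have e3 := Lib.SylowNormalInf.card_mul_relIndex S P hSP
  have hle : stab M i ≤ P ⊓ normalizer (fac M i : Set G) := inf_le_inf_right _ hSP
  have e4 := Lib.SylowNormalInf.card_mul_relIndex _ _ hle
  have hk : 0 < k := Fin.pos i
  have hs : 0 < Nat.card (stab M i) := Nat.card_pos
  have e5 : (stab M i).relIndex (P ⊓ normalizer (fac M i : Set G)) = S.relIndex P := by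
    have h4 : Nat.card (stab M i) * (stab M i).relIndex (P ⊓ normalizer (fac M i : Set G)) * k =
        Nat.card (stab M i) * S.relIndex P * k := by
      rw [e4, e2, ← e3, e1]
      ring
    exact Nat.eq_of_mul_eq_mul_left hs (Nat.eq_of_mul_eq_mul_right hk h4)
  intro h5
  apply hSyl
  rw [← e5]
  exact h5.trans (Dvd.intro _ (relIndex_mul_relIndex _ _ _ h1 (le_inf h2 h3)))

/-! ### Central elements of `S` -/

/-- An element of `V` centralised by `S` with a trivial coordinate is trivial. -/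
theorem eq_one_of_cent {z : G} (hz : z ∈ V) (hc : ∀ s ∈ S, s * z = z * s) {i : Fin k}
    (h0 : M.e z i = 0) : z = 1 := by
  rw [← e_eq_zero M hz]
  funext j
  obtain ⟨t, ht, h1⟩ := M.trans i j
  have h2 := (h1 z hz).2 h0
  have e : t * z * t⁻¹ = z := by rw [hc t ht]; group
  rwa [e] at h2

open Classical in
/-- The component of `v` in the factor `i`. -/
theorem exists_component {v : G} (hv : v ∈ V) (i : Fin k) :
    ∃ a ∈ fac M i, M.e a i = M.e v i ∧ a⁻¹ * v ∈ part M {i}ᶜ := by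
  obtain ⟨a, ha, h1⟩ := exists_fac M i (M.e v i)
  refine ⟨a, ha, h1, mul_mem (inv_mem ha.1) hv, fun j hj => ?_⟩
  have hj' : j = i := by simpa using hj
  rw [hj', M.mul _ (inv_mem ha.1) _ hv, e_inv M ha.1, Pi.add_apply, Pi.neg_apply, h1, neg_add_cancel]

/-- The component in the factor `i` of an element of `V` centralised by a subgroup of `S` normalising the
factor is centralised too. -/
theorem component_cent (hSP : S ≤ P) {z a t : G} {i : Fin k} (hz : z ∈ V) (ha : a ∈ fac M i)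
    (h1 : M.e a i = M.e z i) (ht : t ∈ stab M i) (hc : t * z = z * t) : t * a = a * t := by
  have hb : a⁻¹ * z ∈ part M {i}ᶜ := by
    refine ⟨mul_mem (inv_mem ha.1) hz, fun j hj => ?_⟩
    have hj' : j = i := by simpa using hj
    rw [hj', M.mul _ (inv_mem ha.1) _ hz, e_inv M ha.1, Pi.add_apply, Pi.neg_apply, h1, neg_add_cancel]
  have h2 : t * a * t⁻¹ ∈ fac M i := (mem_normalizer_iff.1 ht.2 a).1 ha
  have h3 : t * (a⁻¹ * z) * t⁻¹ ∈ part M {i}ᶜ :=
    (mem_normalizer_iff.1 (stab_normalizes_compl M hSP i ht) _).1 hb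
  have h4 : t * a * t⁻¹ = a := by
    refine ext_fac M h2 ha ?_
    have e : t * (a⁻¹ * z) * t⁻¹ = (t * a * t⁻¹)⁻¹ * (t * z * t⁻¹) := by group
    have e2 : t * z * t⁻¹ = z := by rw [hc]; group
    rw [e, e2] at h3
    have h5 := h3.2 i (by simp)
    rw [M.mul _ (inv_mem h2.1) _ hz, e_inv M h2.1, Pi.add_apply, Pi.neg_apply, neg_add_eq_zero] at h5
    rw [h5, h1]
  calc t * a = t * a * t⁻¹ * t := by group
    _ = a * t := by rw [h4]

/-- The elements of `part M I` with all coordinates in the line `{x | x 1 = 0}`. -/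
def lines (I : Set (Fin k)) : Subgroup G where
  carrier := {v | v ∈ part M I ∧ ∀ i, M.e v i 1 = 0}
  one_mem' := ⟨one_mem _, fun i => by rw [e_one]; rfl⟩
  mul_mem' := by
    rintro a b ⟨ha, ha'⟩ ⟨hb, hb'⟩
    exact ⟨mul_mem ha hb, fun i => by
      rw [M.mul a ha.1 b hb.1, Pi.add_apply, Pi.add_apply, ha' i, hb' i, add_zero]⟩
  inv_mem' := by
    rintro a ⟨ha, ha'⟩
    exact ⟨inv_mem ha, fun i => by rw [e_inv M ha.1, Pi.neg_apply, Pi.neg_apply, ha' i, neg_zero]⟩

theorem lines_le (I : Set (Fin k)) : lines M I ≤ part M I := fun _ h => h.1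

theorem lines_mono {I J : Set (Fin k)} (h : I ⊆ J) : lines M I ≤ lines M J :=
  fun _ hv => ⟨part_mono M h hv.1, hv.2⟩

/-- The line of the factor `i`. -/
def line (i : Fin k) : Subgroup G := lines M {i}

theorem mem_line {i : Fin k} {v : G} : v ∈ line M i ↔ v ∈ fac M i ∧ M.e v i 1 = 0 := by
  refine ⟨fun h => ⟨h.1, h.2 i⟩, fun h => ⟨h.1, fun j => ?_⟩⟩
  by_cases hj : j = i
  · rw [hj]; exact h.2
  · rw [h.1.2 j hj]; rfl

theorem line_le (i : Fin k) : line M i ≤ fac M i := lines_le M _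

open Classical in
theorem exists_lines (I : Set (Fin k)) (x : Fin k → F) (hx : ∀ i, i ∉ I → x i = 0) :
    ∃ v ∈ lines M I, ∀ i, M.e v i 0 = x i := by
  obtain ⟨v, hv, h⟩ := M.surj fun i => ![x i, 0]
  refine ⟨v, ⟨⟨hv, fun i hi => ?_⟩, fun i => ?_⟩, fun i => ?_⟩
  · rw [h]
    apply NatPair.ext2
    · exact hx i hi
    · rfl
  · rw [h]; rfl
  · rw [h]; rfl

open Classical in
/-- `|lines M I| = q ^ |I|`. -/
theorem card_lines [Finite F] (I : Set (Fin k)) : Nat.card (lines M I) = Nat.card F ^ Nat.card I := by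
  have h1 : Function.Bijective fun (v : lines M I) (i : I) => M.e v i 0 := by
    constructor
    · intro v w h
      refine Subtype.ext (e_inj M v.2.1.1 w.2.1.1 (funext fun i => ?_))
      by_cases hi : i ∈ I
      · apply NatPair.ext2
        · exact congrFun h ⟨i, hi⟩
        · rw [v.2.2 i, w.2.2 i]
      · rw [v.2.1.2 i hi, w.2.1.2 i hi]
    · intro x
      obtain ⟨v, hv, h⟩ := exists_lines M I (fun i => if hi : i ∈ I then x ⟨i, hi⟩ else 0)
        fun i hi => dif_neg hi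
      refine ⟨⟨v, hv⟩, funext fun i => ?_⟩
      have h2 := h i
      rw [dif_pos i.2] at h2
      exact h2
  rw [Nat.card_congr (Equiv.ofBijective _ h1), Nat.card_fun]

theorem card_line [Finite F] (i : Fin k) : Nat.card (line M i) = Nat.card F := by
  rw [line, card_lines]
  simp

/-- `A` induces on `V` the full group of upper unitriangular elements of `SL₂(F)^I`. -/
structure Ind (A : Subgroup G) (I : Set (Fin k)) : Prop where
  act : ∀ a ∈ A, ∃ b : Fin k → F, (∀ i, i ∉ I → b i = 0) ∧ ActsSL M.e (V) ⊥ a fun i => up (b i)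
  ex : ∀ b : Fin k → F, (∀ i, i ∉ I → b i = 0) → ∃ a ∈ A, ActsSL M.e (V) ⊥ a fun i => up (b i)

theorem exists_ind {A : Subgroup G} (hA : A ≤ S) (hoff : Off (V) A) : ∃ I : Set (Fin k), Ind M A I := by
  obtain ⟨I, h1, h2⟩ := M.off A hA hoff
  exact ⟨I, h1, h2⟩

variable {M}

/-- The coordinates of a commutator. -/
theorem e_comm {v a : G} (hv : v ∈ V) (ha : a ∈ P) {b : Fin k → F}
    (h : ActsSL M.e (V) ⊥ a fun i => up (b i)) (i : Fin k) :
    ⁅v, a⁆ ∈ V ∧ M.e ⁅v, a⁆ i 0 = - (b i * M.e v i 1) ∧ M.e ⁅v, a⁆ i 1 = 0 := by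
  have e : ⁅v, a⁆ = v * (a * v⁻¹ * a⁻¹) := by rw [commutatorElement_def]; group
  have h1 : a * v⁻¹ * a⁻¹ ∈ V := cj_mem M ha (inv_mem hv)
  have h2 := h.1 _ (inv_mem hv) i
  rw [e, M.mul v hv _ h1, Pi.add_apply, Pi.add_apply, Pi.add_apply, h2, e_inv M hv, NatPair.ap_zero',
    NatPair.ap_one']
  refine ⟨mul_mem hv h1, ?_, ?_⟩
  · simp only [up_00, up_01, Pi.neg_apply]
    ring
  · simp only [up_10, up_11, Pi.neg_apply]
    ring

open Classical in
/-- `[V, A] = lines M I`. -/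
theorem Ind.commutator_eq {A : Subgroup G} {I : Set (Fin k)} (h : Ind M A I) (hA : A ≤ P) :
    ⁅V, A⁆ = lines M I := by
  refine le_antisymm ?_ ?_
  · rw [commutator_le]
    intro v hv a ha
    obtain ⟨b, hb, h1⟩ := h.act a ha
    refine ⟨⟨(mul_mem hv (cj_mem M (hA ha) (inv_mem hv)) : v * (a * v⁻¹ * a⁻¹) ∈ V) |> fun h2 => ?_,
      fun i hi => ?_⟩, fun i => (e_comm hv (hA ha) h1 i).2.2⟩
    · have e : ⁅v, a⁆ = v * (a * v⁻¹ * a⁻¹) := by rw [commutatorElement_def]; group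
      rw [e]; exact h2
    · apply NatPair.ext2
      · rw [(e_comm hv (hA ha) h1 i).2.1, hb i hi]
        simp
      · exact (e_comm hv (hA ha) h1 i).2.2
  · intro w hw
    obtain ⟨v, hv, hev⟩ := M.surj fun i => if i ∈ I then ![0, 1] else 0
    have hev' : ∀ i, M.e v i = if i ∈ I then ![0, 1] else 0 := fun i => congrFun hev i
    obtain ⟨a, ha, h1⟩ := h.ex (fun i => - M.e w i 0) fun i hi => by
      rw [hw.1.2 i hi]; simp
    have e : w = ⁅v, a⁆ := by
      by_cases hk : k = 0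
      · subst hk
        refine e_inj M hw.1.1 ?_ (funext fun i => i.elim0)
        have e : ⁅v, a⁆ = v * (a * v⁻¹ * a⁻¹) := by rw [commutatorElement_def]; group
        rw [e]
        exact mul_mem hv (cj_mem M (hA ha) (inv_mem hv))
      · have i0 : Fin k := ⟨0, Nat.pos_of_ne_zero hk⟩
        refine e_inj M hw.1.1 (e_comm hv (hA ha) h1 i0).1 (funext fun i => ?_)
        obtain ⟨-, h2, h3⟩ := e_comm hv (hA ha) h1 i
        apply NatPair.ext2
        · rw [h2, hev']
          by_cases hi : i ∈ I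
          · rw [if_pos hi]
            simp
          · rw [if_neg hi, hw.1.2 i hi]
            simp
        · rw [h3, hw.2 i]
    rw [e]
    exact commutator_mem_commutator hv ha

/-- If `|[V, A]| = q`, then `[V, A]` is a line. -/
theorem Ind.eq_line [Finite F] {A : Subgroup G} {I : Set (Fin k)} (h : Ind M A I) (hA : A ≤ P)
    (hc : Nat.card ↥⁅V, A⁆ = Nat.card F) : ∃ i, I = {i} ∧ ⁅V, A⁆ = line M i := by
  have h1 := h.commutator_eq hA
  rw [h1, card_lines] at hc
  have hq : 1 < Nat.card F := Finite.one_lt_card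
  have h2 : Nat.card I = 1 := by
    have : Nat.card F ^ Nat.card I = Nat.card F ^ 1 := by rw [hc, pow_one]
    exact Nat.pow_right_injective hq this
  obtain ⟨hs, hne⟩ := Nat.card_eq_one_iff_unique.1 h2
  obtain ⟨i, hi⟩ := hne
  have h3 : I = {i} := by
    ext j
    exact ⟨fun hj => congrArg Subtype.val (Subsingleton.elim (⟨j, hj⟩ : I) ⟨i, hi⟩), fun hj => by rw [hj]; exact hi⟩
  exact ⟨i, h3, by rw [h1, h3]; rfl⟩

end Cfsg.Agent.Omega.IId.NV

end

section


/-!
# `M : NatV F S P V k`: the action of `S` and of the tori on the lines; `k = 2`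

The same facts as in `IId/LineAct.lean`, `IId/TwoOf.lean` for an arbitrary `V`.
-/

set_option autoImplicit false
set_option linter.unusedSectionVars false

namespace Cfsg.Agent.Omega.IId.NV

open Subgroup Cfsg Cfsg.Agent.ZN Cfsg.Agent.ZN.ChoiceBase
open Cfsg.Agent.Omega.MinPar Cfsg.Agent.Omega.FFThm
open Cfsg.Agent.Lib.SL2Mat
open Cfsg.Agent.Omega.NatPair (ap ap_mul ap_one ap_inv_ap ap_ap_inv exists_ap ap_add)

universe u

variable {G : Type u} [Group G] {F : Type} [Field F] {S P V : Subgroup G} {k : ℕ}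

section act

variable (M : NatV F S P V k)

open Classical in
/-- An element of `S` maps the line of the factor `i` to the line of its image. -/
theorem e_conj_line (hSP : S ≤ P) {s : G} (hs : s ∈ S) {v : G} (hv : v ∈ V) (i : Fin k) :
    M.e (s * v * s⁻¹) (sg M (hSP hs) i) 1 = 0 ↔ M.e v i 1 = 0 := by
  obtain ⟨τ, hτ⟩ := M.line s hs
  have h1 : τ i = sg M (hSP hs) i := by
    by_contra hne
    obtain ⟨w, hw, hwe⟩ := exists_fac M i ![0, 1]
    have h2 : s * w * s⁻¹ ∈ fac M (sg M (hSP hs) i) := by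
      have h3 := conj_fac M (hSP hs) i
      rw [← h3, mem_cj_iff]
      have e : s⁻¹ * (s * w * s⁻¹) * s = w := by group
      rwa [e]
    have h4 : M.e (s * w * s⁻¹) (τ i) 1 = 0 := by
      rw [h2.2 (τ i) hne]; rfl
    have h5 := (hτ w hw.1 i).1 h4
    rw [hwe] at h5
    simp at h5
  rw [← h1]
  exact hτ v hv i

theorem conj_line (hSP : S ≤ P) {s : G} (hs : s ∈ S) (i : Fin k) :
    cj s (line M i) = line M (sg M (hSP hs) i) := by
  have key : ∀ {t : G} (ht : t ∈ S) (j : Fin k), ∀ v ∈ line M j, t * v * t⁻¹ ∈ line M (sg M (hSP ht) j) := by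
    intro t ht j v hv
    rw [mem_line] at hv ⊢
    refine ⟨?_, (e_conj_line M hSP ht hv.1.1 j).2 hv.2⟩
    rw [← conj_fac M (hSP ht), mem_cj_iff]
    have e : t⁻¹ * (t * v * t⁻¹) * t = v := by group
    rw [e]
    exact hv.1
  ext v
  rw [mem_cj_iff]
  constructor
  · intro h
    have h1 := key hs i _ h
    have e : s * (s⁻¹ * v * s) * s⁻¹ = v := by group
    rwa [e] at h1
  · intro h
    have h1 := key (inv_mem hs) _ _ h
    rw [inv_inv] at h1
    have h2 : sg M (hSP (inv_mem hs)) (sg M (hSP hs) i) = i := by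
      rw [sg_eq_iff, ← conj_fac M (hSP hs), cj_inv_cj]
    rwa [h2] at h1

theorem stab_normalizes_line (hSP : S ≤ P) (i : Fin k) : stab M i ≤ normalizer (line M i : Set G) := by
  intro s hs
  rw [mem_normalizer_iff_cj, conj_line M hSP hs.1]
  congr 1
  exact (mem_normalizer_fac_iff M (hSP hs.1)).1 hs.2

open Classical in
/-- The root group of the factor `i` is in the stabiliser. -/
theorem exists_root (hSP : S ≤ P) (i : Fin k) (b : F) :
    ∃ t ∈ stab M i, t ∈ grp M {i} ∧ ActsSL M.e (V) ⊥ t fun j => up ((Function.update 0 i b : Fin k → F) j) := by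
  obtain ⟨t, ht, h1⟩ := M.unip (Function.update 0 i b)
  have h2 : t ∈ grp M {i} := ⟨hSP ht, _, h1, fun j hj => by
    have hj' : j ≠ i := by simpa using hj
    rw [Function.update_of_ne hj']
    exact up_zero⟩
  exact ⟨t, ⟨ht, grp_normalizes M {i} {i} h2⟩, h2, h1⟩

/-- `C_{fac M i}(stab M i) ≤ line M i`. -/
theorem fix_le_line (hSP : S ≤ P) {i : Fin k} {v : G} (hv : v ∈ fac M i)
    (hc : ∀ t ∈ stab M i, t * v = v * t) : v ∈ line M i := by
  classical
  rw [mem_line]
  refine ⟨hv, ?_⟩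
  obtain ⟨t, ht, -, h1⟩ := exists_root M hSP i 1
  have h2 : t * v * t⁻¹ = v := by rw [hc t ht, mul_inv_cancel_right]
  have h3 := h1.1 v hv.1 i
  rw [h2] at h3
  have h4 := congrFun h3 0
  rw [NatPair.ap_zero'] at h4
  simp only [Function.update_self, up_00, up_01, one_mul] at h4
  exact (left_eq_add.1 h4)

open Classical in
/-- The torus of the factor `i` is transitive on the nontrivial elements of the line. -/
theorem exists_tor {i : Fin k} {v w : G} (hv : v ∈ line M i) (hw : w ∈ line M i) (hv1 : v ≠ 1) (hw1 : w ≠ 1) :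
    ∃ g ∈ grp M {i}, g ∈ normalizer (line M i : Set G) ∧ g * v * g⁻¹ = w := by
  rw [mem_line] at hv hw
  have a0 : M.e v i 0 ≠ 0 := by
    intro h0
    apply hv1
    rw [← fac_eq_one M hv.1]
    exact NatPair.ext2 h0 hv.2
  have b0 : M.e w i 0 ≠ 0 := by
    intro h0
    apply hw1
    rw [← fac_eq_one M hw.1]
    exact NatPair.ext2 h0 hw.2
  set c : F := M.e w i 0 / M.e v i 0 with hc
  have c0 : c ≠ 0 := div_ne_zero b0 a0
  obtain ⟨g, hg, h1⟩ := M.lift (Function.update 1 i (mk c 0 0 c⁻¹ (by rw [mul_inv_cancel₀ c0]; ring)))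
  have hg' : g ∈ grp M {i} := ⟨hg, _, h1, fun j hj => Function.update_of_ne hj _ _⟩
  have hfac : ∀ u ∈ fac M i, g * u * g⁻¹ ∈ fac M i := fun u hu =>
    (mem_normalizer_iff.1 (grp_normalizes M {i} {i} hg') u).1 hu
  have he0 : ∀ u ∈ fac M i, M.e (g * u * g⁻¹) i 0 = c * M.e u i 0 := by
    intro u hu
    rw [h1.1 u hu.1 i, Function.update_self, NatPair.ap_zero']
    simp
  have he1 : ∀ u ∈ fac M i, M.e (g * u * g⁻¹) i 1 = c⁻¹ * M.e u i 1 := by
    intro u hu
    rw [h1.1 u hu.1 i, Function.update_self, NatPair.ap_one']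
    simp
  refine ⟨g, hg', ?_, ?_⟩
  · rw [mem_normalizer_iff]
    intro u
    rw [mem_line, mem_line]
    constructor
    · rintro ⟨h2, h3⟩
      exact ⟨hfac u h2, by rw [he1 u h2, h3, mul_zero]⟩
    · rintro ⟨h2, h3⟩
      have h4 : u ∈ fac M i := (mem_normalizer_iff.1 (grp_normalizes M {i} {i} hg') u).2 h2
      refine ⟨h4, ?_⟩
      rw [he1 u h4] at h3
      exact (mul_eq_zero.1 h3).resolve_left (inv_ne_zero c0)
  · refine ext_fac M (hfac v hv.1) hw.1 (NatPair.ext2 ?_ ?_)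
    · rw [he0 v hv.1, hc, div_mul_cancel₀ _ a0]
    · rw [he1 v hv.1, hv.2, hw.2, mul_zero]

theorem mem_stab {i : Fin k} {x : G} : x ∈ stab M i ↔ x ∈ S ∧ cj x (fac M i) = fac M i := by
  rw [stab, mem_inf, mem_normalizer_iff_cj]

theorem conj_stab (hSP : S ≤ P) {s : G} (hs : s ∈ S) (i : Fin k) :
    cj s (stab M i) = stab M (sg M (hSP hs) i) := by
  ext x
  rw [mem_cj_iff, mem_stab, mem_stab, ← conj_fac M (hSP hs), cj_cj, ← cj_cj, ← cj_cj]
  have h1 : s⁻¹ * x * s ∈ S ↔ x ∈ S := by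
    rw [mul_mem_cancel_right hs, mul_mem_cancel_left (inv_mem hs)]
  have h2 : cj s⁻¹ (cj x (cj s (fac M i))) = fac M i ↔ cj (x * s) (fac M i) = cj s (fac M i) := by
    rw [← cj_cj]
    constructor
    · intro h
      have := congrArg (cj s) h
      rwa [cj_cj_inv] at this
    · intro h
      rw [h, cj_inv_cj]
  rw [h1, h2]

end act

section two

variable (M : NatV F S P V 2)

theorem stab_normalizes' (hSP : S ≤ P) {i j : Fin 2} (h : i ≠ j) :
    stab M i ≤ normalizer (fac M j : Set G) := by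
  have := stab_normalizes_compl M hSP i
  rwa [compl_eq h] at this

theorem sup_fac {i j : Fin 2} (h : i ≠ j) : fac M i ⊔ fac M j = V := by
  have := part_sup M {i}
  rwa [compl_eq h] at this

theorem stab_eq (hSP : S ≤ P) {i j : Fin 2} (h : i ≠ j) : stab M i = stab M j :=
  le_antisymm (le_inf (stab_le M i) (stab_normalizes' M hSP h))
    (le_inf (stab_le M j) (stab_normalizes' M hSP h.symm))

/-- An element of `S` which does not normalise `fac M i` swaps the factors. -/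
theorem swap_fac (hSP : S ≤ P) {i j : Fin 2} (h : i ≠ j) {s : G} (hs : s ∈ S) (hn : s ∉ stab M i) :
    cj s (fac M i) = fac M j := by
  have h1 : sg M (hSP hs) i ≠ i := by
    intro h1
    apply hn
    exact ⟨hs, (mem_normalizer_fac_iff M (hSP hs)).2 h1⟩
  rw [conj_fac M (hSP hs)]
  congr 1
  omega

/-- The component of an element of `V` in the factor `i`: the other component is in `fac M j`. -/
theorem exists_comp2 {i j : Fin 2} (h : i ≠ j) {v : G} (hv : v ∈ V) :
    ∃ a ∈ fac M i, ∃ b ∈ fac M j, v = a * b := by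
  obtain ⟨a, ha, -, h2⟩ := exists_component M hv i
  rw [compl_eq h] at h2
  exact ⟨a, ha, a⁻¹ * v, h2, by group⟩

end two

end Cfsg.Agent.Omega.IId.NV

end

private theorem dce_6b83ea31eca8 : _root_.True := by
  try have : _root_.True := by simp only [_root_.Cfsg.Agent.Omega.IId.NV.fac.eq_1]
  try have : _root_.True := by simp only [_root_.Cfsg.Agent.Omega.IId.NV.line.eq_1]
  try have : _root_.True := by simp only [_root_.Cfsg.Agent.Omega.IId.line.eq_1]
  try have : _root_.True := by simp only [_root_.Cfsg.Agent.Omega.IId.NV.stab.eq_1]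
  try have : _root_.True := by simp only [_root_.Cfsg.Agent.Omega.IId.fac.eq_1]
  exact _root_.True.intro
end

-- part: Mrg/Omega/IId/LineAct
section
prune_inst 0x100c001422000000180000e0003c42b2000000000808006040080004c02c40a0450021b02001000000045428380068135c0040422800000a000800011c0481002000009008a000200000000000000000000000000000000000000000000000200000000
set_option linter.all false
open scoped Cfsg.Agent.FastGrp

section


/-!
# The action of `S` and of the tori on the lines `line M i`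

`M : NatK F S P (zl S P) ⊥ k`.

* `conj_line` : `s (line M i) s⁻¹ = line M (σ(s) i)` for `s ∈ S`; `stab_normalizes_line`;
* `fix_le_line` : `C_{fac M i}(stab M i) ≤ line M i`;
* `exists_tor` : `N_{grp M {i}}(line M i)` is transitive on `(line M i)#`;
* `conj_stab` : `s (stab M i) s⁻¹ = stab M (σ(s) i)`.
-/

set_option autoImplicit false

namespace Cfsg.Agent.Omega.IId

open Subgroup Cfsg Cfsg.Agent.ZN Cfsg.Agent.ZN.ChoiceBase
open Cfsg.Agent.Omega.MinPar Cfsg.Agent.Omega.FFThm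
open Cfsg.Agent.MinSimple.VModule (le_normalizer_zl)
open Cfsg.Agent.Lib.SL2Mat
open Cfsg.Agent.Omega.NatPair (ap ap_mul ap_one ap_inv_ap ap_ap_inv exists_ap ap_add)

universe u

variable {G : Type u} [Group G] {F : Type} [Field F] {S P : Subgroup G} {k : ℕ}
  (M : NatK F S P (zl S P) ⊥ k)

open Classical in
/-- An element of `S` maps the line of the factor `i` to the line of its image. -/
theorem e_conj_line (hSP : S ≤ P) {s : G} (hs : s ∈ S) {v : G} (hv : v ∈ zl S P) (i : Fin k) :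
    M.e (s * v * s⁻¹) (sg M (hSP hs) i) 1 = 0 ↔ M.e v i 1 = 0 := by
  obtain ⟨τ, hτ⟩ := M.line s hs
  have h1 : τ i = sg M (hSP hs) i := by
    by_contra hne
    obtain ⟨w, hw, hwe⟩ := exists_fac M i ![0, 1]
    have h2 : s * w * s⁻¹ ∈ fac M (sg M (hSP hs) i) := by
      have h3 := conj_fac M (hSP hs) i
      rw [← h3, mem_cj_iff]
      have e : s⁻¹ * (s * w * s⁻¹) * s = w := by group
      rwa [e]
    have h4 : M.e (s * w * s⁻¹) (τ i) 1 = 0 := by
      rw [h2.2 (τ i) hne]; rfl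
    have h5 := (hτ w hw.1 i).1 h4
    rw [hwe] at h5
    simp at h5
  rw [← h1]
  exact hτ v hv i

theorem conj_line (hSP : S ≤ P) {s : G} (hs : s ∈ S) (i : Fin k) :
    cj s (line M i) = line M (sg M (hSP hs) i) := by
  have key : ∀ {t : G} (ht : t ∈ S) (j : Fin k), ∀ v ∈ line M j, t * v * t⁻¹ ∈ line M (sg M (hSP ht) j) := by
    intro t ht j v hv
    rw [mem_line] at hv ⊢
    refine ⟨?_, (e_conj_line M hSP ht hv.1.1 j).2 hv.2⟩
    rw [← conj_fac M (hSP ht), mem_cj_iff]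
    have e : t⁻¹ * (t * v * t⁻¹) * t = v := by group
    rw [e]
    exact hv.1
  ext v
  rw [mem_cj_iff]
  constructor
  · intro h
    have h1 := key hs i _ h
    have e : s * (s⁻¹ * v * s) * s⁻¹ = v := by group
    rwa [e] at h1
  · intro h
    have h1 := key (inv_mem hs) _ _ h
    rw [inv_inv] at h1
    have h2 : sg M (hSP (inv_mem hs)) (sg M (hSP hs) i) = i := by
      rw [sg_eq_iff, ← conj_fac M (hSP hs), cj_inv_cj]
    rwa [h2] at h1

theorem stab_normalizes_line (hSP : S ≤ P) (i : Fin k) : stab M i ≤ normalizer (line M i : Set G) := by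
  intro s hs
  rw [mem_normalizer_iff_cj, conj_line M hSP hs.1]
  congr 1
  exact (mem_normalizer_fac_iff M (hSP hs.1)).1 hs.2

open Classical in
/-- The root group of the factor `i` is in the stabiliser. -/
theorem exists_root (hSP : S ≤ P) (i : Fin k) (b : F) :
    ∃ t ∈ stab M i, t ∈ grp M {i} ∧ ActsSL M.e (zl S P) ⊥ t fun j => up ((Function.update 0 i b : Fin k → F) j) := by
  obtain ⟨t, ht, h1⟩ := M.unip (Function.update 0 i b)
  have h2 : t ∈ grp M {i} := ⟨hSP ht, _, h1, fun j hj => by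
    have hj' : j ≠ i := by simpa using hj
    rw [Function.update_of_ne hj']
    exact up_zero⟩
  exact ⟨t, ⟨ht, grp_normalizes M {i} {i} h2⟩, h2, h1⟩

/-- `C_{fac M i}(stab M i) ≤ line M i`. -/
theorem fix_le_line (hSP : S ≤ P) {i : Fin k} {v : G} (hv : v ∈ fac M i)
    (hc : ∀ t ∈ stab M i, t * v = v * t) : v ∈ line M i := by
  classical
  rw [mem_line]
  refine ⟨hv, ?_⟩
  obtain ⟨t, ht, -, h1⟩ := exists_root M hSP i 1
  have h2 : t * v * t⁻¹ = v := by rw [hc t ht, mul_inv_cancel_right]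
  have h3 := h1.1 v hv.1 i
  rw [h2] at h3
  have h4 := congrFun h3 0
  rw [NatPair.ap_zero'] at h4
  simp only [Function.update_self, up_00, up_01, one_mul] at h4
  exact (left_eq_add.1 h4)

open Classical in
/-- The torus of the factor `i` is transitive on the nontrivial elements of the line. -/
theorem exists_tor {i : Fin k} {v w : G} (hv : v ∈ line M i) (hw : w ∈ line M i) (hv1 : v ≠ 1) (hw1 : w ≠ 1) :
    ∃ g ∈ grp M {i}, g ∈ normalizer (line M i : Set G) ∧ g * v * g⁻¹ = w := by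
  rw [mem_line] at hv hw
  have a0 : M.e v i 0 ≠ 0 := by
    intro h0
    apply hv1
    rw [← fac_eq_one M hv.1]
    exact NatPair.ext2 h0 hv.2
  have b0 : M.e w i 0 ≠ 0 := by
    intro h0
    apply hw1
    rw [← fac_eq_one M hw.1]
    exact NatPair.ext2 h0 hw.2
  set c : F := M.e w i 0 / M.e v i 0 with hc
  have c0 : c ≠ 0 := div_ne_zero b0 a0
  obtain ⟨g, hg, h1⟩ := M.lift (Function.update 1 i (mk c 0 0 c⁻¹ (by rw [mul_inv_cancel₀ c0]; ring)))
  have hg' : g ∈ grp M {i} := ⟨hg, _, h1, fun j hj => Function.update_of_ne hj _ _⟩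
  have hfac : ∀ u ∈ fac M i, g * u * g⁻¹ ∈ fac M i := fun u hu =>
    (mem_normalizer_iff.1 (grp_normalizes M {i} {i} hg') u).1 hu
  have he0 : ∀ u ∈ fac M i, M.e (g * u * g⁻¹) i 0 = c * M.e u i 0 := by
    intro u hu
    rw [h1.1 u hu.1 i, Function.update_self, NatPair.ap_zero']
    simp
  have he1 : ∀ u ∈ fac M i, M.e (g * u * g⁻¹) i 1 = c⁻¹ * M.e u i 1 := by
    intro u hu
    rw [h1.1 u hu.1 i, Function.update_self, NatPair.ap_one']
    simp
  refine ⟨g, hg', ?_, ?_⟩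
  · rw [mem_normalizer_iff]
    intro u
    rw [mem_line, mem_line]
    constructor
    · rintro ⟨h2, h3⟩
      exact ⟨hfac u h2, by rw [he1 u h2, h3, mul_zero]⟩
    · rintro ⟨h2, h3⟩
      have h4 : u ∈ fac M i := (mem_normalizer_iff.1 (grp_normalizes M {i} {i} hg') u).2 h2
      refine ⟨h4, ?_⟩
      rw [he1 u h4] at h3
      exact (mul_eq_zero.1 h3).resolve_left (inv_ne_zero c0)
  · refine ext_fac M (hfac v hv.1) hw.1 (NatPair.ext2 ?_ ?_)
    · rw [he0 v hv.1, hc, div_mul_cancel₀ _ a0]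
    · rw [he1 v hv.1, hv.2, hw.2, mul_zero]

theorem mem_stab {i : Fin k} {x : G} : x ∈ stab M i ↔ x ∈ S ∧ cj x (fac M i) = fac M i := by
  rw [stab, mem_inf, mem_normalizer_iff_cj]

theorem conj_stab (hSP : S ≤ P) {s : G} (hs : s ∈ S) (i : Fin k) :
    cj s (stab M i) = stab M (sg M (hSP hs) i) := by
  ext x
  rw [mem_cj_iff, mem_stab, mem_stab, ← conj_fac M (hSP hs), cj_cj, ← cj_cj, ← cj_cj]
  have h1 : s⁻¹ * x * s ∈ S ↔ x ∈ S := by
    rw [mul_mem_cancel_right hs, mul_mem_cancel_left (inv_mem hs)]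
  have h2 : cj s⁻¹ (cj x (cj s (fac M i))) = fac M i ↔ cj (x * s) (fac M i) = cj s (fac M i) := by
    rw [← cj_cj]
    constructor
    · intro h
      have := congrArg (cj s) h
      rwa [cj_cj_inv] at this
    · intro h
      rw [h, cj_inv_cj]
  rw [h1, h2]

end Cfsg.Agent.Omega.IId

end

section


/-!
# The lines of a factor (helper437)

`M : NatK F S P (zl S P) ⊥ k`; `lns M i` is the set of all `F`-lines of `fac M i`, as subgroups: the conjugates of
`line M i` under `grp M {i}`.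

* `cj_lns`, `cj_stab_lns` : `S` permutes the lines;
* `exists_coef`, `exists_lns` : the lines `≠ line M i` are `{v | e v i 0 = c * e v i 1}`;
* `exists_torus`, `exists_torus'` : the torus is transitive on `line M i` and on `fac M i / line M i`;
* `exists_up` : an element which centralises `line M i` and `fac M i / line M i` acts as `up b` on `fac M i`;
* `mem_line_of_cent` : `C_{fac M i}(stab M i) ≤ line M i`.
-/

set_option autoImplicit false

namespace Cfsg.Agent.Omega.IId.Lns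

open Subgroup Cfsg Cfsg.Agent.ZN Cfsg.Agent.ZN.ChoiceBase
open Cfsg.Agent.Omega.MinPar Cfsg.Agent.Omega.FFThm
open Cfsg.Agent.MinSimple.VModule (le_normalizer_zl)
open Cfsg.Agent.Lib.SL2Mat
open Cfsg.Agent.Omega.NatPair (ap ap_mul ap_one ap_inv_ap ap_ap_inv exists_ap ap_add)

universe u

variable {G : Type u} [Group G] {F : Type} [Field F] {S P : Subgroup G} {k : ℕ}
  (M : NatK F S P (zl S P) ⊥ k)

/-! ### Lifts -/

open Classical in
/-- An element of `grp M {i}` inducing a given element of `SL₂(F)`. -/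
theorem exists_lift (i : Fin k) (A : Matrix.SpecialLinearGroup (Fin 2) F) :
    ∃ g ∈ grp M {i}, ∀ v ∈ zl S P, M.e (g * v * g⁻¹) i = ap A (M.e v i) := by
  obtain ⟨g, hg, h1⟩ := M.lift (Function.update 1 i A)
  refine ⟨g, ⟨hg, _, h1, fun j hj => Function.update_of_ne hj _ _⟩, fun v hv => ?_⟩
  rw [h1.1 v hv i, Function.update_self]

variable {M}

theorem grp_act {i : Fin k} {g : G} (hg : g ∈ grp M {i}) :
    ∃ A : Matrix.SpecialLinearGroup (Fin 2) F, ∀ v ∈ zl S P, M.e (g * v * g⁻¹) i = ap A (M.e v i) := by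
  obtain ⟨-, A, hA, -⟩ := hg
  exact ⟨A i, fun v hv => hA.1 v hv i⟩

theorem grp_conj_fac {i : Fin k} {g v : G} (hg : g ∈ grp M {i}) (hv : v ∈ fac M i) :
    g * v * g⁻¹ ∈ fac M i := (mem_normalizer_iff.1 (grp_normalizes M {i} {i} hg) v).1 hv

/-- `g ∈ grp M {i}` normalises `line M i` if it acts as an upper triangular matrix. -/
theorem normalizes_line {i : Fin k} {g : G} (hg : g ∈ grp M {i}) {A : Matrix.SpecialLinearGroup (Fin 2) F}
    (hA : ∀ v ∈ zl S P, M.e (g * v * g⁻¹) i = ap A (M.e v i)) (h : ent A 1 0 = 0) (h' : ent A 1 1 ≠ 0) :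
    g ∈ normalizer (line M i : Set G) := by
  rw [mem_normalizer_iff]
  intro v
  constructor
  · intro hv
    rw [mem_line] at hv ⊢
    refine ⟨grp_conj_fac hg hv.1, ?_⟩
    rw [hA v hv.1.1, NatPair.ap_one', h, hv.2]
    ring
  · intro hv
    rw [mem_line] at hv ⊢
    have h1 : v ∈ fac M i := (mem_normalizer_iff.1 (grp_normalizes M {i} {i} hg) v).2 hv.1
    refine ⟨h1, ?_⟩
    have h2 := hv.2
    rw [hA v h1.1, NatPair.ap_one', h, zero_mul, zero_add] at h2
    exact (mul_eq_zero.1 h2).resolve_left h'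

/-- The torus is transitive on `fac M i / line M i`. -/
theorem exists_torus' {i : Fin k} {v v' : G} (hv : v ∈ fac M i) (hv' : v' ∈ fac M i) (h1 : v ∉ line M i)
    (h1' : v' ∉ line M i) :
    ∃ g ∈ grp M {i}, g ∈ normalizer (line M i : Set G) ∧ v'⁻¹ * (g * v * g⁻¹) ∈ line M i := by
  have e1 : M.e v i 1 ≠ 0 := fun h => h1 ((mem_line M).2 ⟨hv, h⟩)
  have e2 : M.e v' i 1 ≠ 0 := fun h => h1' ((mem_line M).2 ⟨hv', h⟩)
  have hb : M.e v i 1 / M.e v' i 1 ≠ 0 := div_ne_zero e1 e2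
  obtain ⟨g, hg, hA⟩ := exists_lift M i (dg _ hb)
  refine ⟨g, hg, normalizes_line hg hA rfl (inv_ne_zero hb), ?_⟩
  have h2 := grp_conj_fac hg hv
  rw [mem_line]
  refine ⟨mul_mem (inv_mem hv') h2, ?_⟩
  rw [M.mul _ (inv_mem hv'.1) _ h2.1, e_inv M hv'.1, Pi.add_apply, Pi.add_apply, Pi.neg_apply, Pi.neg_apply,
    hA v hv.1, NatPair.ap_one', dg_10, dg_11]
  field_simp
  ring

/-! ### The lines -/

variable (M) in
/-- The `F`-lines of `fac M i`. -/
def lns (i : Fin k) : Set (Subgroup G) := {X | ∃ l ∈ grp M {i}, cj l (line M i) = X}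

theorem line_mem_lns (i : Fin k) : line M i ∈ lns M i := ⟨1, one_mem _, cj_one _⟩

theorem cj_mem_lns {i : Fin k} {X : Subgroup G} (hX : X ∈ lns M i) {l : G} (hl : l ∈ grp M {i}) :
    cj l X ∈ lns M i := by
  obtain ⟨m, hm, rfl⟩ := hX
  exact ⟨l * m, mul_mem hl hm, (cj_cj _ _ _).symm⟩

theorem lns_le {i : Fin k} {X : Subgroup G} (hX : X ∈ lns M i) : X ≤ fac M i := by
  obtain ⟨m, hm, rfl⟩ := hX
  intro v hv
  rw [mem_cj] at hv
  have := grp_conj_fac hm (line_le M i hv)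
  have e : m * (m⁻¹ * v * m) * m⁻¹ = v := by group
  rwa [e] at this

/-- The coordinates of a line. -/
theorem exists_coef {i : Fin k} {X : Subgroup G} (hX : X ∈ lns M i) (hne : X ≠ line M i) :
    ∃ c : F, ∀ v, v ∈ X ↔ v ∈ fac M i ∧ M.e v i 0 = c * M.e v i 1 := by
  obtain ⟨l, hl, rfl⟩ := hX
  obtain ⟨A, hA⟩ := grp_act (inv_mem hl)
  have hA' : ∀ v ∈ fac M i, v ∈ cj l (line M i) ↔ ent A 1 0 * M.e v i 0 + ent A 1 1 * M.e v i 1 = 0 := by
    intro v hv
    rw [mem_cj, mem_line]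
    have e : l⁻¹ * v * l = l⁻¹ * v * l⁻¹⁻¹ := by group
    rw [e, hA v hv.1, NatPair.ap_one']
    exact ⟨fun h => h.2, fun h => ⟨grp_conj_fac (inv_mem hl) hv, h⟩⟩
  have hA0 : ent A 1 0 ≠ 0 := by
    intro h0
    apply hne
    have h11 : ent A 1 1 ≠ 0 := by
      intro h11
      have := det_eq A
      rw [h0, h11] at this
      simp at this
    have h2 := normalizes_line (inv_mem hl) hA h0 h11
    exact cj_eq_of_mem_normalizer (inv_mem_iff.1 h2)
  refine ⟨- (ent A 1 1 / ent A 1 0), fun v => ?_⟩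
  constructor
  · intro hv
    have h1 : v ∈ fac M i := lns_le ⟨l, hl, rfl⟩ hv
    refine ⟨h1, ?_⟩
    have h2 := (hA' v h1).1 hv
    field_simp
    linear_combination h2
  · rintro ⟨h1, h2⟩
    rw [hA' v h1, h2]
    field_simp
    ring

/-- All lines. -/
theorem exists_lns (i : Fin k) (c : F) :
    ∃ X ∈ lns M i, ∀ v, v ∈ X ↔ v ∈ fac M i ∧ M.e v i 0 = c * M.e v i 1 := by
  obtain ⟨g, hg, hA⟩ := exists_lift M i (mk 0 (-1) 1 (-c) (by ring))
  refine ⟨cj g⁻¹ (line M i), ⟨g⁻¹, inv_mem hg, rfl⟩, fun v => ?_⟩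
  rw [mem_cj, mem_line]
  have e : g⁻¹⁻¹ * v * g⁻¹ = g * v * g⁻¹ := by group
  rw [e]
  constructor
  · rintro ⟨h1, h2⟩
    have h3 : v ∈ fac M i := (mem_normalizer_iff.1 (grp_normalizes M {i} {i} hg) v).2 h1
    refine ⟨h3, ?_⟩
    rw [hA v h3.1, NatPair.ap_one'] at h2
    change 1 * M.e v i 0 + -c * M.e v i 1 = 0 at h2
    linear_combination h2
  · rintro ⟨h1, h2⟩
    refine ⟨grp_conj_fac hg h1, ?_⟩
    rw [hA v h1.1, NatPair.ap_one']
    change 1 * M.e v i 0 + -c * M.e v i 1 = 0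
    rw [h2]
    ring

open Classical in
/-- Every vector is on a line. -/
theorem exists_mem_lns {i : Fin k} {v : G} (hv : v ∈ fac M i) : ∃ X ∈ lns M i, v ∈ X := by
  by_cases h : M.e v i 1 = 0
  · exact ⟨line M i, line_mem_lns i, (mem_line M).2 ⟨hv, h⟩⟩
  · obtain ⟨X, hX, h1⟩ := exists_lns (M := M) i (M.e v i 0 / M.e v i 1)
    refine ⟨X, hX, (h1 v).2 ⟨hv, ?_⟩⟩
    field_simp

theorem lns_inf {i : Fin k} {X Y : Subgroup G} (hX : X ∈ lns M i) (hY : Y ∈ lns M i) (hne : X ≠ Y) {v : G}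
    (hvX : v ∈ X) (hvY : v ∈ Y) : v = 1 := by
  have hv := lns_le hX hvX
  -- move `X` to `line M i`
  obtain ⟨l, hl, rfl⟩ := hX
  have hY' : cj l⁻¹ Y ∈ lns M i := cj_mem_lns hY (inv_mem hl)
  have hne' : cj l⁻¹ Y ≠ line M i := by
    intro e
    apply hne
    rw [← e, cj_cj_inv]
  obtain ⟨c, hc⟩ := exists_coef hY' hne'
  have h1 : l⁻¹ * v * l ∈ cj l⁻¹ Y := by
    rw [mem_cj]
    have e : l⁻¹⁻¹ * (l⁻¹ * v * l) * l⁻¹ = v := by group
    rwa [e]
  rw [mem_cj, mem_line] at hvX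
  obtain ⟨h2, h3⟩ := hvX
  have h4 := ((hc _).1 h1).2
  rw [h3, mul_zero] at h4
  have h5 := (fac_eq_one M h2).1 (NatPair.ext2 h4 h3)
  calc v = l * (l⁻¹ * v * l) * l⁻¹ := by group
    _ = 1 := by rw [h5]; group

open Classical in
/-- There are at least three lines. -/
theorem exists_third_lns {i : Fin k} {X Y : Subgroup G} (hX : X ∈ lns M i) (hY : Y ∈ lns M i) :
    ∃ Z ∈ lns M i, Z ≠ X ∧ Z ≠ Y := by
  -- move `X` to `line M i`
  obtain ⟨l, hl, rfl⟩ := hX
  have hY' : cj l⁻¹ Y ∈ lns M i := cj_mem_lns hY (inv_mem hl)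
  suffices h : ∃ Z ∈ lns M i, Z ≠ line M i ∧ Z ≠ cj l⁻¹ Y by
    obtain ⟨Z, hZ, h1, h2⟩ := h
    refine ⟨cj l Z, cj_mem_lns hZ hl, fun e => h1 ?_, fun e => h2 ?_⟩
    · have := congrArg (cj l⁻¹) e
      rwa [cj_inv_cj, cj_inv_cj] at this
    · rw [← e, cj_inv_cj]
  have key : ∀ {c d : F}, c ≠ d → ∀ {Z Z' : Subgroup G},
      (∀ v, v ∈ Z ↔ v ∈ fac M i ∧ M.e v i 0 = c * M.e v i 1) →
      (∀ v, v ∈ Z' ↔ v ∈ fac M i ∧ M.e v i 0 = d * M.e v i 1) → Z ≠ Z' := by
    intro c d hcd Z Z' h1 h2 e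
    obtain ⟨v, hv, hev⟩ := exists_fac M i ![c, 1]
    have h3 : v ∈ Z := (h1 v).2 ⟨hv, by rw [hev]; simp⟩
    rw [e, h2] at h3
    have h4 := h3.2
    rw [hev] at h4
    exact hcd (by simpa using h4)
  have key2 : ∀ {c : F} {Z : Subgroup G}, (∀ v, v ∈ Z ↔ v ∈ fac M i ∧ M.e v i 0 = c * M.e v i 1) →
      Z ≠ line M i := by
    intro c Z h1 e
    obtain ⟨v, hv, hev⟩ := exists_fac M i ![c, 1]
    have h3 : v ∈ Z := (h1 v).2 ⟨hv, by rw [hev]; simp⟩
    rw [e, mem_line] at h3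
    have h4 := h3.2
    rw [hev] at h4
    simp at h4
  by_cases hY1 : cj l⁻¹ Y = line M i
  · obtain ⟨Z, hZ, h1⟩ := exists_lns (M := M) i 0
    exact ⟨Z, hZ, key2 h1, by rw [hY1]; exact key2 h1⟩
  · obtain ⟨c, hc⟩ := exists_coef hY' hY1
    obtain ⟨Z, hZ, h1⟩ := exists_lns (M := M) i (c + 1)
    exact ⟨Z, hZ, key2 h1, key (by simp) h1 hc⟩

/-! ### `S` and the lines -/

/-- `S` permutes the lines. -/
theorem cj_lns (hSP : S ≤ P) {t : G} (ht : t ∈ S) {i : Fin k} {X : Subgroup G} (hX : X ∈ lns M i) :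
    cj t X ∈ lns M (sg M (hSP ht) i) := by
  obtain ⟨l, hl, rfl⟩ := hX
  refine ⟨t * l * t⁻¹, ?_, ?_⟩
  · have h1 := conj_grp M (hSP ht) {i}
    rw [Set.image_singleton] at h1
    rw [← h1]
    exact ⟨l, hl, rfl⟩
  · rw [← conj_line M hSP ht, cj_cj, cj_cj]
    congr 1
    group

/-- An element which centralises `line M i` and `fac M i / line M i` acts as `up b` on `fac M i`. -/
theorem exists_up {i : Fin k} {w : G} (hw : w ∈ P) (h1 : ∀ r ∈ line M i, w * r * w⁻¹ = r)
    (h2 : ∀ v ∈ fac M i, w * v * w⁻¹ * v⁻¹ ∈ line M i) :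
    ∃ b : F, ∀ v ∈ fac M i, M.e (w * v * w⁻¹) i = ap (up b) (M.e v i) := by
  have hwf : ∀ v ∈ fac M i, w * v * w⁻¹ ∈ fac M i := fun v hv => by
    have := mul_mem (line_le M i (h2 v hv)) hv
    rwa [inv_mul_cancel_right] at this
  obtain ⟨g, hg, hgA⟩ := exists_lift M i (wm 1 one_ne_zero)
  have hg0 := hg
  obtain ⟨hgP, A, hA, -⟩ := hg
  obtain ⟨B, hB⟩ := M.norm w hw g hgP A hA.1
  refine ⟨- ent (B i) 0 0, fun v hv => ?_⟩
  obtain ⟨r, hr, her⟩ := exists_fac M i ![- M.e v i 1, 0]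
  have hrl : r ∈ line M i := (mem_line M).2 ⟨hr, by rw [her]; rfl⟩
  have hu : g * r * g⁻¹ ∈ fac M i := grp_conj_fac hg0 hr
  have heu : M.e (g * r * g⁻¹) i = ![0, M.e v i 1] := by
    rw [hgA r hr.1, her]
    apply NatPair.ext2
    · rw [NatPair.ap_zero', wm_00, wm_01]; simp
    · rw [NatPair.ap_one', wm_10, wm_11]; simp
  -- `w (g r g⁻¹) w⁻¹`
  have hwu : M.e (w * (g * r * g⁻¹) * w⁻¹) i 0 = ent (B i) 0 0 * (- M.e v i 1) := by
    have h3 := hB r hr.1 i
    have h4 : w⁻¹ * r * w = r := by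
      calc w⁻¹ * r * w = w⁻¹ * (w * r * w⁻¹) * w := by rw [h1 r hrl]
        _ = r := by group
    have e : w * g * w⁻¹ * r * (w * g * w⁻¹)⁻¹ = w * (g * (w⁻¹ * r * w) * g⁻¹) * w⁻¹ := by group
    rw [e, h4, her] at h3
    rw [h3, NatPair.ap_zero']
    simp
  -- `v` and `g r g⁻¹` agree modulo `line M i`
  have h5 : v * (g * r * g⁻¹)⁻¹ ∈ line M i := by
    rw [mem_line]
    refine ⟨mul_mem hv (inv_mem hu), ?_⟩
    rw [M.mul _ hv.1 _ (inv_mem hu.1), e_inv M hu.1, Pi.add_apply, Pi.add_apply, Pi.neg_apply,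
      Pi.neg_apply, heu]
    simp
  have e6 : w * v * w⁻¹ = v * (g * r * g⁻¹)⁻¹ * (w * (g * r * g⁻¹) * w⁻¹) := by
    have h7 := h1 _ h5
    calc w * v * w⁻¹ = w * (v * (g * r * g⁻¹)⁻¹) * w⁻¹ * (w * (g * r * g⁻¹) * w⁻¹) := by group
      _ = _ := by rw [h7]
  apply NatPair.ext2
  · rw [e6, M.mul _ (mul_mem hv.1 (inv_mem hu.1)) _ (hwf _ hu).1, M.mul _ hv.1 _ (inv_mem hu.1),
      e_inv M hu.1, Pi.add_apply, Pi.add_apply, Pi.add_apply, Pi.add_apply, Pi.neg_apply, Pi.neg_apply,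
      heu, hwu, NatPair.ap_zero', up_00, up_01]
    simp
  · have h8 := ((mem_line M).1 (h2 v hv)).2
    rw [M.mul _ (hwf v hv).1 _ (inv_mem hv.1), e_inv M hv.1, Pi.add_apply, Pi.add_apply, Pi.neg_apply,
      Pi.neg_apply] at h8
    rw [NatPair.ap_one', up_10, up_11]
    linear_combination h8

end Cfsg.Agent.Omega.IId.Lns

end

private theorem dce_2ad3736942c0 : _root_.True := by
  try have : _root_.True := by simp only [_root_.Cfsg.Agent.Omega.IId.stab.eq_1]
  exact _root_.True.intro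
end

-- part: Mrg/Omega/IId/Match
section
set_option linter.all false
open scoped Cfsg.Agent.FastGrp

section


/-!
# Matching of the lines of a mutual pair, and `|I| = 2`, `k, k' ≤ 2` (job 168 of OMEGA; #11954 helper7, #12388 helper358)

`M : NatK F S P V ⊥ k`, `M' : NatK F' S' P' V' ⊥ k'`; `V'` induces on `V` the full root group of `SL₂(F)^I`, `V` on
`V'` the full root group of `SL₂(F')^I'`.

* `Pair.exists_mutual`, `Hyp.typed'` : from a pair in normal position back to a mutual pair;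
* `exists_match` : for `i ∈ I` there is `j ∈ I'` with `line M i = line M' j`, and the elements of `fac M i` which
  act nontrivially act on `V'` as nontrivial root elements of the factor `j`;
* `wrTwo_small` : `k = 2`, `k' ≤ 2`: `|[V, V']| = q`.
-/

set_option autoImplicit false

namespace Cfsg.Agent.Omega.IId

open Subgroup Pointwise Cfsg Cfsg.Agent.ZN Cfsg.Agent.ZN.ChoiceBase
open Cfsg.Agent.Omega.MinPar Cfsg.Agent.Omega.Frame Cfsg.Agent.Omega.FFThm Cfsg.Agent.Omega.FrameMulti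
open Cfsg.Agent.Lib.SL2Mat
open Cfsg.Agent.Omega.NatPair (ap)
open scoped commutatorElement

universe u

/-! ### From normal position to mutual pairs -/

section mutpair

variable {G : Type u} [Group G] [Finite G]

theorem Pair.exists_mutual {S S' : Sylow 2 G} {P P' : Subgroup G} (h : Pair S S' P P') :
    ∃ (y : G) (P₂ : Subgroup G), S' = sy y S ∧ P' = ChoiceBase.cj y P₂ ∧ Mutual (S : Subgroup G) P P₂ y := by
  have : Fact (Nat.Prime 2) := ⟨Nat.prime_two⟩
  obtain ⟨y, hy⟩ := MulAction.exists_smul_eq G S S'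
  have hy' : S' = sy y S := by
    rw [← hy]
    rfl
  have e1 : ChoiceBase.cj y⁻¹ (S' : Subgroup G) = (S : Subgroup G) := by
    rw [hy', sy_coe, cj_inv_cj]
  have h2 : P' = ChoiceBase.cj y (ChoiceBase.cj y⁻¹ P') := (cj_cj_inv y P').symm
  have h3 : IsParS (S : Subgroup G) (ChoiceBase.cj y⁻¹ P') := by
    have := isParS_cj h.star' y⁻¹
    rwa [e1] at this
  have h4 : ChoiceBase.cj y (zl (S : Subgroup G) (ChoiceBase.cj y⁻¹ P')) = zl (S' : Subgroup G) P' := by
    rw [← zl_cj, ← h2, ← sy_coe, ← hy']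
  refine ⟨y, ChoiceBase.cj y⁻¹ P', hy', h2, h.star, h3, ?_, ?_, ?_⟩
  · change _ ≤ normalizer ((ChoiceBase.cj y _ : Subgroup G) : Set G)
    rw [h4]
    exact h.le'.trans (h.star'.le.trans (Cfsg.Agent.MinSimple.VModule.le_normalizer_zl _ _))
  · change ChoiceBase.cj y _ ≤ _
    rw [h4]
    exact h.le.trans (h.star.le.trans (Cfsg.Agent.MinSimple.VModule.le_normalizer_zl _ _))
  · change ⁅_, ChoiceBase.cj y _⁆ ≠ ⊥
    rw [h4]
    exact h.ne

theorem Hyp.typed' {K : Cls.{u}} {S S' : Sylow 2 G} {P P' : Subgroup G} (hH : Hyp K S) (h : Pair S S' P P') :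
    Typed (S : Subgroup G) P ∧ Typed (S' : Subgroup G) P' := by
  obtain ⟨y, P₂, h1, h2, hm⟩ := h.exists_mutual
  obtain ⟨t1, t2⟩ := hH.typed P P₂ y hm
  refine ⟨t1, ?_⟩
  rw [h1, h2, sy_coe]
  exact typed_cj t2 y

end mutpair

/-! ### Matching -/

section basic

variable {G : Type u} [Group G] {F : Type} [Field F] {S P : Subgroup G} {k : ℕ}
  {M : NatK F S P (zl S P) ⊥ k} {A : Subgroup G} {I : Set (Fin k)}

theorem lines_ne_bot {I : Set (Fin k)} (h : lines M I ≠ ⊥) : I.Nonempty := by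
  by_contra h0
  rw [Set.not_nonempty_iff_eq_empty] at h0
  apply h
  rw [h0, eq_bot_iff]
  intro v hv
  have := lines_le M ∅ hv
  rwa [part_empty] at this

theorem line_ne_bot (i : Fin k) : line M i ≠ ⊥ := by
  obtain ⟨v, hv, h⟩ := exists_fac M i ![1, 0]
  intro h0
  have h1 : v ∈ line M i := (mem_line M).2 ⟨hv, by rw [h]; rfl⟩
  rw [h0, mem_bot] at h1
  rw [h1, e_one] at h
  exact one_ne_zero (congrFun h 0).symm

theorem line_inj {i j : Fin k} (h : line M i ≤ line M j) : i = j := by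
  by_contra hij
  apply line_ne_bot (M := M) i
  rw [eq_bot_iff, ← fac_inf M hij]
  exact le_inf (line_le M i) (h.trans (line_le M j))

/-- `{[v, a] | a ∈ A}` for `v` in a factor. -/
theorem Ind.mem_line_iff (h : Ind M A I) (hA : A ≤ P) {i : Fin k} (hi : i ∈ I) {v : G} (hv : v ∈ fac M i)
    (hv1 : M.e v i 1 ≠ 0) {w : G} : w ∈ line M i ↔ ∃ a ∈ A, ⁅v, a⁆ = w := by
  classical
  constructor
  · intro hw
    rw [mem_line] at hw
    obtain ⟨a, ha, hact⟩ := h.ex (fun j => if j = i then -(M.e w i 0 / M.e v i 1) else 0) fun j hj => by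
      rw [if_neg]
      rintro rfl
      exact hj hi
    refine ⟨a, ha, ?_⟩
    refine e_inj M (e_comm hv.1 (hA ha) hact i).1 hw.1.1 (funext fun j => ?_)
    obtain ⟨-, h2, h3⟩ := e_comm hv.1 (hA ha) hact j
    by_cases hj : j = i
    · subst hj
      apply NatPair.ext2
      · rw [h2, if_pos rfl]
        field_simp
      · rw [h3, hw.2]
    · apply NatPair.ext2
      · rw [h2, if_neg hj, hw.1.2 j hj]
        simp
      · rw [h3, hw.1.2 j hj]
        rfl
  · rintro ⟨a, ha, rfl⟩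
    obtain ⟨b, hb, hact⟩ := h.act a ha
    rw [mem_line]
    refine ⟨⟨(e_comm hv.1 (hA ha) hact i).1, fun j hj => ?_⟩, (e_comm hv.1 (hA ha) hact i).2.2⟩
    obtain ⟨-, h2, h3⟩ := e_comm hv.1 (hA ha) hact j
    apply NatPair.ext2
    · rw [h2, hv.2 j hj]
      simp
    · rw [h3]
      rfl

/-- `{[v, a] | a ∈ V}` for `v` acting as `up c`. -/
theorem mem_lines_iff {v : G} (hv : v ∈ P) {c : Fin k → F} (hc : ActsSL M.e (zl S P) ⊥ v fun i => up (c i))
    (hk : 0 < k) {w : G} : w ∈ lines M {j | c j ≠ 0} ↔ ∃ a ∈ zl S P, ⁅v, a⁆ = w := by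
  classical
  have key : ∀ a ∈ zl S P, ⁅v, a⁆ ∈ zl S P ∧ ∀ j, M.e ⁅v, a⁆ j 0 = c j * M.e a j 1 ∧ M.e ⁅v, a⁆ j 1 = 0 := by
    intro a ha
    have e : ⁅v, a⁆ = ⁅a, v⁆⁻¹ := (commutatorElement_inv a v).symm
    have h0 := (e_comm ha hv hc ⟨0, hk⟩).1
    rw [e]
    refine ⟨inv_mem h0, fun j => ?_⟩
    obtain ⟨-, h2, h3⟩ := e_comm ha hv hc j
    rw [e_inv M h0, Pi.neg_apply, Pi.neg_apply, Pi.neg_apply, h2, h3, neg_neg, neg_zero]
    exact ⟨rfl, rfl⟩
  constructor
  · intro hw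
    obtain ⟨a, ha, hae⟩ := M.surj fun j => ![0, M.e w j 0 / c j]
    refine ⟨a, ha, ?_⟩
    refine e_inj M (key a ha).1 hw.1.1 (funext fun j => ?_)
    obtain ⟨h2, h3⟩ := (key a ha).2 j
    apply NatPair.ext2
    · rw [h2, hae]
      by_cases hj : c j = 0
      · have : M.e w j = 0 := hw.1.2 j fun h => h hj
        rw [this, hj]
        simp
      · change c j * (M.e w j 0 / c j) = _
        field_simp
    · rw [h3, hw.2]
  · rintro ⟨a, ha, rfl⟩
    refine ⟨⟨(key a ha).1, fun j hj => ?_⟩, fun j => ((key a ha).2 j).2⟩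
    have hj' : c j = 0 := by
      by_contra h
      exact hj h
    apply NatPair.ext2
    · rw [((key a ha).2 j).1, hj', zero_mul]
      rfl
    · rw [((key a ha).2 j).2]
      rfl

end basic

section pair

variable {G : Type u} [Group G] {F F' : Type} [Field F] [Field F'] {S P S' P' : Subgroup G} {k k' : ℕ}
  {M : NatK F S P (zl S P) ⊥ k} {M' : NatK F' S' P' (zl S' P') ⊥ k'} {I : Set (Fin k)} {I' : Set (Fin k')}

theorem exists_J (hI : Ind M (zl S' P') I) (hI' : Ind M' (zl S P) I') (hVP : zl S' P' ≤ P) (hVP' : zl S P ≤ P')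
    (hk' : 0 < k') {i : Fin k} (hi : i ∈ I) {v : G} (hv : v ∈ fac M i) (hv1 : M.e v i 1 ≠ 0) :
    ∃ c : Fin k' → F', (∀ j, j ∉ I' → c j = 0) ∧ ActsSL M'.e (zl S' P') ⊥ v (fun j => up (c j)) ∧
      line M i = lines M' {j | c j ≠ 0} := by
  obtain ⟨c, hc, hact⟩ := hI'.act v hv.1
  refine ⟨c, hc, hact, ?_⟩
  ext w
  rw [hI.mem_line_iff hVP hi hv hv1, mem_lines_iff (hVP' hv.1) hact hk']

/-- **Matching of the lines.** -/
theorem exists_match (hI : Ind M (zl S' P') I) (hI' : Ind M' (zl S P) I') (hVP : zl S' P' ≤ P)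
    (hVP' : zl S P ≤ P') (hk' : 0 < k') {i : Fin k} (hi : i ∈ I) :
    ∃ j ∈ I', line M i = line M' j ∧ ∀ v ∈ fac M i, M.e v i 1 ≠ 0 →
      ∃ c : Fin k' → F', c j ≠ 0 ∧ (∀ l, l ≠ j → c l = 0) ∧ ActsSL M'.e (zl S' P') ⊥ v fun l => up (c l) := by
  have hk : 0 < k := Nat.pos_of_ne_zero fun h => by subst h; exact i.elim0
  obtain ⟨v, hv, hve⟩ := exists_fac M i ![0, 1]
  have hv1 : M.e v i 1 ≠ 0 := by rw [hve]; exact one_ne_zero
  obtain ⟨c, hc, hact, hline⟩ := exists_J hI hI' hVP hVP' hk' hi hv hv1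
  obtain ⟨j, hj⟩ := lines_ne_bot (M := M') (hline ▸ line_ne_bot (M := M) i)
  have hjI : j ∈ I' := by
    by_contra h
    exact hj (hc j h)
  -- the other way round
  have hle : line M' j ≤ line M i := by
    rw [hline]
    exact lines_mono M' (Set.singleton_subset_iff.2 hj)
  obtain ⟨v', hv', hve'⟩ := exists_fac M' j ![0, 1]
  have hv1' : M'.e v' j 1 ≠ 0 := by rw [hve']; exact one_ne_zero
  obtain ⟨c', hc', hact', hline'⟩ := exists_J hI' hI hVP' hVP hk hjI hv' hv1'
  obtain ⟨i', hi'⟩ := lines_ne_bot (M := M) (hline' ▸ line_ne_bot (M := M') j)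
  have hle' : line M i' ≤ line M' j := by
    rw [hline']
    exact lines_mono M (Set.singleton_subset_iff.2 hi')
  have hii : i' = i := line_inj (hle'.trans hle)
  rw [hii] at hle'
  have heq : line M i = line M' j := le_antisymm hle' hle
  refine ⟨j, hjI, heq, fun u hu hu1 => ?_⟩
  obtain ⟨d, hd, hdact, hdline⟩ := exists_J hI hI' hVP hVP' hk' hi hu hu1
  have h1 : ∀ l, l ≠ j → d l = 0 := by
    intro l hl
    by_contra h
    apply hl
    have h2 : line M' l ≤ line M i := by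
      rw [hdline]
      exact lines_mono M' (Set.singleton_subset_iff.2 h)
    rw [heq] at h2
    exact line_inj h2
  refine ⟨d, ?_, h1, hdact⟩
  obtain ⟨l, hl⟩ := lines_ne_bot (M := M') (hdline ▸ line_ne_bot (M := M) i)
  by_cases hlj : l = j
  · rw [← hlj]; exact hl
  · exact absurd (h1 l hlj) hl

end pair

/-! ### `k = 2`, `k' ≤ 2`, `|I| = 2` -/

section two

variable {G : Type u} [Group G] [Finite G] {F F' : Type} [Field F] [Finite F] [Field F'] {k' : ℕ}

end two

end Cfsg.Agent.Omega.IId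

end

section


/-!
# The standing hypotheses `Hyp K S` of II.d for another Sylow 2-subgroup

* `Hyp.conj : Hyp K S → Hyp K S'`.
-/

set_option autoImplicit false

namespace Cfsg.Agent.Omega.IId

open Subgroup Pointwise Cfsg Cfsg.Agent.ZN.ChoiceBase
open Cfsg.Agent.ZN (o2 zc zl)
open Cfsg.Agent.Omega.MinPar Cfsg.Agent.Omega.Frame Cfsg.Agent.Omega.FFThm Cfsg.Agent.Omega.FrameMulti
open Cfsg.Agent.Omega.FrameLE (AllIn)
open Cfsg.Agent.Omega.FrameNOFF (CZ)

universe u

variable {G : Type u} [Group G] [Finite G]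

omit [Finite G] in
/-- A mutual pair over `S'` gives one over `S`. -/
theorem mutual_cj {S S' : Subgroup G} {P₁ P₂ : Subgroup G} {x y : G} (hS : ZN.ChoiceBase.cj y S = S')
    (h : Mutual S' P₁ P₂ x) : Mutual S (ZN.ChoiceBase.cj y⁻¹ P₁) (ZN.ChoiceBase.cj y⁻¹ P₂) (y⁻¹ * x * y) := by
  have e1 : ZN.ChoiceBase.cj y⁻¹ S' = S := by rw [← hS, cj_inv_cj]
  have e2 : ∀ P, zl S (ZN.ChoiceBase.cj y⁻¹ P) = ZN.ChoiceBase.cj y⁻¹ (zl S' P) := by
    intro P
    rw [← zl_cj, e1]
  have e3 : ∀ A : Subgroup G, ZN.ChoiceBase.cj (y⁻¹ * x * y) (ZN.ChoiceBase.cj y⁻¹ A) =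
      ZN.ChoiceBase.cj y⁻¹ (ZN.ChoiceBase.cj x A) := by
    intro A
    rw [cj_cj, cj_cj]
    congr 1
    group
  have star : ∀ {P}, IsParS S' P → IsParS S (ZN.ChoiceBase.cj y⁻¹ P) := by
    intro P hP
    have := isParS_cj hP y⁻¹
    rwa [e1] at this
  refine ⟨star h.star₁, star h.star₂, ?_, ?_, ?_⟩
  · change _ ≤ normalizer ((ZN.ChoiceBase.cj _ _ : Subgroup G) : Set G)
    rw [e2, e2, e3, ← cj_normalizer]
    exact cj_mono _ h.le₁
  · change ZN.ChoiceBase.cj _ _ ≤ _
    rw [e2, e2, e3, ← cj_normalizer]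
    exact cj_mono _ h.le₂
  · change ⁅_, ZN.ChoiceBase.cj _ _⁆ ≠ ⊥
    rw [e2, e2, e3]
    intro h0
    apply h.ne
    have h1 : ZN.ChoiceBase.cj y⁻¹ ⁅zl S' P₁, ZN.ChoiceBase.cj x (zl S' P₂)⁆ = ⊥ := by
      change Subgroup.map _ _ = _
      rw [Subgroup.map_commutator]
      exact h0
    have h2 := congrArg (ZN.ChoiceBase.cj y) h1
    rw [cj_cj_inv] at h2
    change ⁅zl S' P₁, ZN.ChoiceBase.cj x (zl S' P₂)⁆ = ⊥
    rw [h2]
    exact Subgroup.map_bot _

/-- **`Hyp K S'` from `Hyp K S`.** -/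
theorem Hyp.conj {K : Cls.{u}} {S : Sylow 2 G} (h : Hyp K S) (S' : Sylow 2 G) : Hyp K S' := by
  have : Fact (Nat.Prime 2) := ⟨Nat.prime_two⟩
  obtain ⟨y, hy⟩ := MulAction.exists_smul_eq G S S'
  have hS : ZN.ChoiceBase.cj y (S : Subgroup G) = (S' : Subgroup G) := by
    rw [← hy]; rfl
  have e1 : ZN.ChoiceBase.cj y⁻¹ (S' : Subgroup G) = (S : Subgroup G) := by rw [← hS, cj_inv_cj]
  refine ⟨h.ctx, h.cls, Two.full_conj h.full, ?_, ?_⟩
  · intro P hP
    have h1 := isParS_cj hP y⁻¹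
    rw [e1] at h1
    have h2 := cj_mono y (h.allIn _ h1)
    have e2 : zc (ZN.ChoiceBase.cj y (S : Subgroup G)) = ZN.ChoiceBase.cj y (zc (S : Subgroup G)) :=
      ZN.zc_map _ (MulAut.conj y).injective _
    rw [← zl_cj, cj_cj_inv, hS, ← ZN.ChoiceSit.o2_cj] at h2
    refine h2.trans_eq ?_
    congr 1
    change ZN.ChoiceBase.cj y (centralizer (zc (S : Subgroup G) : Set G)) = centralizer (zc (S' : Subgroup G) : Set G)
    rw [cj_centralizer, ← e2, hS]
  · intro P₁ P₂ x hm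
    obtain ⟨t1, t2⟩ := h.typed _ _ _ (mutual_cj hS hm)
    have k1 := typed_cj t1 y
    have k2 := typed_cj t2 y
    rw [cj_cj_inv, hS] at k1 k2
    exact ⟨k1, k2⟩

end Cfsg.Agent.Omega.IId

end
end

-- part: Mrg/Omega/NOThreeL/AFour/Act
section
prune_inst 0x20100c001422000000180000e0001c42b2000000000800012040020007c00c40a0458021b02001000010045428300068135c0010422800000a000800011d0481002000029008a000200000800000000000000000000000000000000000000000200000000
set_option linter.all false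
open scoped Cfsg.Agent.FastGrp


/-!
# NO-3L A4: `U_H` acts on `V_P = natural^k` as upper unitriangular matrices

`M : NatK F S P (zl S P) ⊥ k`, `V = zl S P ≤ S`; `U ≤ S` is elementary abelian and normal in `S`.

* `Quad.sg_eq` : `U` normalises every factor;
* `Quad.exists_up` : every `u ∈ U` acts as `fun i => up (b i)`.
-/

set_option autoImplicit false
set_option Elab.async false

namespace Cfsg.Agent.Omega.NOThreeL.AFour

open Subgroup Cfsg Cfsg.Agent.ZN Cfsg.Agent.ZN.ChoiceBase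
open Cfsg.Agent.Omega.MinPar Cfsg.Agent.Omega.FFThm
open Cfsg.Agent.MinSimple.VModule (le_normalizer_zl)
open Cfsg.Agent.Lib.SL2Mat
open Cfsg.Agent.Omega.NatPair (ap ap_mul ap_one ap_inv_ap exists_ap ap_add)
open Cfsg.Agent.Omega.IId (cj_mem cj_mem' e_inj e_one e_inv sg sg_spec fac mem_fac exists_fac e_conj_line)

universe u

variable {G : Type u} [Group G] {F : Type} [Field F] {S P : Subgroup G} {k : ℕ}

/-- `U` is an elementary abelian normal subgroup of `S`, `V ≤ S`. -/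
structure Quad (S P U : Subgroup G) : Prop where
  SP : S ≤ P
  VS : zl S P ≤ S
  US : U ≤ S
  SU : S ≤ normalizer (U : Set G)
  ab : ∀ u ∈ U, ∀ v ∈ U, u * v = v * u
  sq : ∀ u ∈ U, u * u = 1

namespace Quad

variable {U : Subgroup G} (h : Quad S P U)
include h

theorem UP : U ≤ P := h.US.trans h.SP

/-- commutators of `U` and `S` -/
theorem cm_mem {u s : G} (hu : u ∈ U) (hs : s ∈ S) : u * s * u⁻¹ * s⁻¹ ∈ U := by
  have h1 := (mem_normalizer_iff.1 (h.SU hs) _).1 (inv_mem hu)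
  have e : u * s * u⁻¹ * s⁻¹ = u * (s * u⁻¹ * s⁻¹) := by group
  rw [e]
  exact mul_mem hu h1

theorem cm_mem' {u s : G} (hu : u ∈ U) (hs : s ∈ S) : s * u * s⁻¹ * u⁻¹ ∈ U :=
  mul_mem ((mem_normalizer_iff.1 (h.SU hs) _).1 hu) (inv_mem hu)

variable (M : NatK F S P (zl S P) ⊥ k)

/-- **`U` normalises the factors.** -/
theorem sg_eq {u : G} (hu : u ∈ U) (i : Fin k) : sg M (h.UP hu) i = i := by
  have huP := h.UP hu
  by_contra hne
  obtain ⟨t, ht, htA⟩ := M.unip (Pi.single i 1)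
  have htP := h.SP ht
  obtain ⟨n, hn, hne1⟩ := exists_fac M i ![0, 1]
  have hnV := hn.1
  set c := u * n * u⁻¹ * n⁻¹ with hc
  have hcU : c ∈ U := h.cm_mem hu (h.VS hnV)
  have hcV : c ∈ zl S P := mul_mem (cj_mem huP hnV) (inv_mem hnV)
  set w := u * t * u⁻¹ * t⁻¹ with hw
  have hwU : w ∈ U := h.cm_mem hu ht
  have hwc := h.ab w hwU c hcU
  have key : u * (t⁻¹ * (u⁻¹ * c * u) * t) * u⁻¹ = t⁻¹ * c * t := by
    have e1 : w⁻¹ * c * w = c := by
      calc w⁻¹ * c * w = w⁻¹ * (c * w) := by group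
        _ = w⁻¹ * (w * c) := by rw [hwc]
        _ = c := by group
    calc u * (t⁻¹ * (u⁻¹ * c * u) * t) * u⁻¹ = t⁻¹ * (w⁻¹ * c * w) * t := by rw [hw]; group
      _ = t⁻¹ * c * t := by rw [e1]
  -- coordinates
  have e0 : M.e (u * n * u⁻¹) i = 0 := by
    obtain ⟨j, hj⟩ := (sg M huP).surjective i
    have h1 := (sg_spec M huP hnV j).2 (by
      refine hn.2 j fun h2 => hne ?_
      rw [← h2]
      rw [← h2] at hj
      exact hj)
    rwa [hj] at h1
  have ec : M.e c i = ![0, -1] := by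
    rw [hc, M.mul _ (cj_mem huP hnV) _ (inv_mem hnV), Pi.add_apply, e0, e_inv M hnV, Pi.neg_apply, hne1]
    apply NatPair.ext2 <;> simp
  have hd : u⁻¹ * c * u ∈ zl S P := cj_mem' huP hcV
  have hx : t⁻¹ * (u⁻¹ * c * u) * t ∈ zl S P := cj_mem' htP hd
  have htA' := IId.acts_inv htP htA
  -- right side
  have er : M.e (t⁻¹ * c * t) i = ![1, -1] := by
    have h1 := htA'.1 c hcV i
    rw [inv_inv] at h1
    rw [h1, ec, Pi.inv_apply, Pi.single_eq_same, up_inv]
    apply NatPair.ext2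
    · rw [NatPair.ap_zero']
      simp
    · rw [NatPair.ap_one']
      simp
  -- left side
  have el : M.e (u * (t⁻¹ * (u⁻¹ * c * u) * t) * u⁻¹) i = ![0, -1] := by
    obtain ⟨j, hj⟩ := (sg M huP).surjective i
    have hji : j ≠ i := by
      rintro rfl
      exact hne hj
    have h1 : M.e (t⁻¹ * (u⁻¹ * c * u) * t * (u⁻¹ * c * u)⁻¹) j = 0 := by
      have h2 := htA'.1 _ hd j
      rw [inv_inv] at h2
      rw [M.mul _ hx _ (inv_mem hd), Pi.add_apply, h2, Pi.inv_apply, Pi.single_eq_of_ne hji, up_zero, inv_one,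
        ap_one, e_inv M hd, Pi.neg_apply, add_neg_cancel]
    have h2 := (sg_spec M huP (mul_mem hx (inv_mem hd)) j).2 h1
    rw [hj] at h2
    have e : u * (t⁻¹ * (u⁻¹ * c * u) * t * (u⁻¹ * c * u)⁻¹) * u⁻¹ =
      u * (t⁻¹ * (u⁻¹ * c * u) * t) * u⁻¹ * c⁻¹ := by group
    rw [e, M.mul _ (cj_mem huP hx) _ (inv_mem hcV), Pi.add_apply, e_inv M hcV, Pi.neg_apply, ec] at h2
    have h3 := eq_neg_of_add_eq_zero_left h2
    rw [h3, neg_neg]
  rw [key, er] at el
  have := congrFun el 0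
  simp at this

/-- The `i`-th coordinate of `v ^ u` depends only on the `i`-th coordinate of `v`. -/
theorem loc {u : G} (hu : u ∈ U) (i : Fin k) {v w : G} (hv : v ∈ zl S P) (hw : w ∈ zl S P)
    (he : M.e v i = M.e w i) : M.e (u * v * u⁻¹) i = M.e (u * w * u⁻¹) i := by
  have huP := h.UP hu
  have h1 : M.e (v * w⁻¹) i = 0 := by
    rw [M.mul v hv _ (inv_mem hw), Pi.add_apply, e_inv M hw, Pi.neg_apply, he, add_neg_cancel]
  have h2 := (sg_spec M huP (mul_mem hv (inv_mem hw)) i).2 h1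
  rw [h.sg_eq M hu i] at h2
  have e : u * (v * w⁻¹) * u⁻¹ = (u * v * u⁻¹) * (u * w * u⁻¹)⁻¹ := by group
  rw [e, M.mul _ (cj_mem huP hv) _ (inv_mem (cj_mem huP hw)), Pi.add_apply, e_inv M (cj_mem huP hw),
    Pi.neg_apply] at h2
  have h3 := eq_neg_of_add_eq_zero_left h2
  rw [h3, neg_neg]

theorem e_mul {u : G} (hu : u ∈ U) (i : Fin k) {v w : G} (hv : v ∈ zl S P) (hw : w ∈ zl S P) :
    M.e (u * (v * w) * u⁻¹) i = M.e (u * v * u⁻¹) i + M.e (u * w * u⁻¹) i := by
  have huP := h.UP hu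
  have e : u * (v * w) * u⁻¹ = (u * v * u⁻¹) * (u * w * u⁻¹) := by group
  rw [e, M.mul _ (cj_mem huP hv) _ (cj_mem huP hw), Pi.add_apply]

theorem invol {u : G} (hu : u ∈ U) (v : G) : u * (u * v * u⁻¹) * u⁻¹ = v := by
  have h1 := h.sq u hu
  have h2 : u⁻¹ * u⁻¹ = 1 := by rw [← mul_inv_rev, h1, inv_one]
  calc u * (u * v * u⁻¹) * u⁻¹ = (u * u) * v * (u⁻¹ * u⁻¹) := by group
    _ = v := by rw [h1, h2, one_mul, mul_one]

/-- The conjugate of `lo 1` under `u`. -/
theorem exists_B {u : G} (hu : u ∈ U) : ∃ B : Fin k → Matrix.SpecialLinearGroup (Fin 2) F, ∀ v ∈ zl S P,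
    ∀ w ∈ zl S P, ∀ i, M.e w i = ap (lo 1) (M.e v i) →
      M.e (u * w * u⁻¹) i = ap (B i) (M.e (u * v * u⁻¹) i) := by
  have huP := h.UP hu
  obtain ⟨g, hg, hgA⟩ := M.lift fun _ => lo 1
  obtain ⟨B, hB⟩ := M.norm u huP g hg _ hgA.1
  refine ⟨B, fun v hv w hw i he => ?_⟩
  have h1 := hB _ (cj_mem huP hv) i
  have e : u * g * u⁻¹ * (u * v * u⁻¹) * (u * g * u⁻¹)⁻¹ = u * (g * v * g⁻¹) * u⁻¹ := by group
  rw [e] at h1
  rw [← h1]
  refine h.loc M hu i hw (cj_mem hg hv) ?_
  rw [he, hgA.1 v hv i]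

variable [CharP F 2]

/-- `u` centralises the lines. -/
theorem line_fix {u : G} (hu : u ∈ U) (i : Fin k) {r : G} (hr : r ∈ zl S P) {x : F} (hx : M.e r i = ![x, 0]) :
    M.e (u * r * u⁻¹) i = ![x, 0] := by
  have huP := h.UP hu
  -- the second coordinate
  have hline : ∀ v ∈ zl S P, M.e v i 1 = 0 → M.e (u * v * u⁻¹) i 1 = 0 := by
    intro v hv h0
    have h1 := (e_conj_line M h.SP (h.US hu) hv i).2 h0
    rwa [h.sg_eq M hu i] at h1
  by_cases hD : ∀ v ∈ zl S P, M.e (u * v * u⁻¹) i 1 = M.e v i 1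
  · -- trivial on `V / line`
    obtain ⟨B, hB⟩ := h.exists_B M hu
    have key : ∀ y : F, ∀ v ∈ zl S P, M.e v i = ![y, 0] →
        ent (B i) 1 0 * M.e (u * v * u⁻¹) i 0 = y := by
      intro y v hv he
      obtain ⟨w, hw, hwe⟩ := exists_fac M i ![y, y]
      have h1 := hB v hv w hw.1 i (by
        rw [hwe, he]
        apply NatPair.ext2
        · rw [NatPair.ap_zero']; simp
        · rw [NatPair.ap_one']; simp)
      have h2 := congrFun h1 1
      rw [NatPair.ap_one', hD w hw.1, hwe, hline v hv (by rw [he]; rfl), mul_zero, add_zero] at h2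
      rw [← h2]
      rfl
    set b := ent (B i) 1 0 with hb
    have hb0 : b ≠ 0 := by
      obtain ⟨v, hv, he⟩ := exists_fac M i ![(1 : F), 0]
      intro h0
      have h1 := key 1 v hv.1 he
      rw [h0, zero_mul] at h1
      exact zero_ne_one h1
    have key2 : ∀ y : F, ∀ v ∈ zl S P, M.e v i = ![y, 0] → M.e (u * v * u⁻¹) i = ![b⁻¹ * y, 0] := by
      intro y v hv he
      apply NatPair.ext2
      · change _ = b⁻¹ * y
        rw [← key y v hv he]
        field_simp
      · exact hline v hv (by rw [he]; rfl)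
    have hb1 : b = 1 := by
      obtain ⟨v, hv, he⟩ := exists_fac M i ![(1 : F), 0]
      have h1 := key2 1 v hv.1 he
      have h2 := key2 _ _ (cj_mem huP hv.1) h1
      rw [h.invol hu, he] at h2
      have h3 := congrFun h2 0
      change (1 : F) = b⁻¹ * (b⁻¹ * 1) at h3
      have h4 : b * b = 1 := by
        field_simp at h3
        rw [← pow_two]
        exact h3
      have h5 : (b + 1) * (b + 1) = 0 := by
        have : (2 : F) = 0 := CharTwo.two_eq_zero
        linear_combination h4 + (b + 1) * this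
      rcases mul_self_eq_zero.1 h5 with h6
      have h7 : b = -1 := eq_neg_of_add_eq_zero_left h6
      rw [h7, CharTwo.neg_eq]
    rw [key2 x r hr hx, hb1, inv_one, one_mul]
  · push Not at hD
    obtain ⟨v, hv, hne⟩ := hD
    set c := u * v * u⁻¹ * v⁻¹ with hc
    have hcU : c ∈ U := h.cm_mem hu (h.VS hv)
    have hcV : c ∈ zl S P := mul_mem (cj_mem huP hv) (inv_mem hv)
    have hc1 : M.e c i 1 ≠ 0 := by
      rw [hc, M.mul _ (cj_mem huP hv) _ (inv_mem hv), Pi.add_apply, Pi.add_apply, e_inv M hv, Pi.neg_apply,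
        Pi.neg_apply]
      intro h0
      exact hne (eq_neg_of_add_eq_zero_left h0 |>.trans (neg_neg _))
    -- an element of `U` with the `i`-th coordinate `![x, 0]`
    obtain ⟨t, ht, htA⟩ := M.unip (Pi.single i (x / M.e c i 1))
    have htP := h.SP ht
    have hdU := h.cm_mem' hcU ht
    have hdV : t * c * t⁻¹ * c⁻¹ ∈ zl S P := mul_mem (cj_mem htP hcV) (inv_mem hcV)
    have hde : M.e (t * c * t⁻¹ * c⁻¹) i = ![x, 0] := by
      rw [M.mul _ (cj_mem htP hcV) _ (inv_mem hcV), Pi.add_apply, htA.1 c hcV i, e_inv M hcV, Pi.neg_apply]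
      change ap (up ((Pi.single i (x / M.e c i 1) : Fin k → F) i)) (M.e c i) + -M.e c i = ![x, 0]
      rw [Pi.single_eq_same]
      apply NatPair.ext2
      · rw [Pi.add_apply, NatPair.ap_zero']
        simp only [up_00, up_01, Pi.neg_apply]
        change _ = x
        field_simp
        ring
      · rw [Pi.add_apply, NatPair.ap_one']
        simp only [up_10, up_11, Pi.neg_apply]
        change _ = (0 : F)
        ring
    rw [h.loc M hu i hr hdV (by rw [hx, hde])]
    have h2 := h.ab u hu _ hdU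
    have e : u * (t * c * t⁻¹ * c⁻¹) * u⁻¹ = t * c * t⁻¹ * c⁻¹ := by rw [h2]; group
    rw [e, hde]

/-- **Every `u ∈ U` acts as `fun i => up (b i)`.** -/
theorem exists_up {u : G} (hu : u ∈ U) : ∃ b : Fin k → F, ActsSL M.e (zl S P) ⊥ u fun i => up (b i) := by
  have huP := h.UP hu
  obtain ⟨B, hB⟩ := h.exists_B M hu
  have key : ∀ i, ∀ x : F, ∀ v ∈ zl S P, M.e v i = ![0, x] →
      M.e (u * v * u⁻¹) i = ![(ent (B i) 0 0 - 1) * x, ent (B i) 1 0 * x] := by
    intro i x v hv he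
    obtain ⟨r, hr, hre⟩ := exists_fac M i ![x, 0]
    have h1 := hB r hr.1 (r * v) (mul_mem hr.1 hv) i (by
      rw [M.mul r hr.1 v hv, Pi.add_apply, hre, he]
      apply NatPair.ext2
      · rw [NatPair.ap_zero']; simp
      · rw [NatPair.ap_one']; simp)
    rw [h.e_mul M hu i hr.1 hv, h.line_fix M hu i hr.1 hre] at h1
    have h2 : M.e (u * v * u⁻¹) i = ap (B i) ![x, 0] - ![x, 0] := by rw [← h1]; abel
    rw [h2]
    apply NatPair.ext2
    · rw [Pi.sub_apply, NatPair.ap_zero']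
      change ent (B i) 0 0 * x + ent (B i) 0 1 * 0 - x = (ent (B i) 0 0 - 1) * x
      ring
    · rw [Pi.sub_apply, NatPair.ap_one']
      change ent (B i) 1 0 * x + ent (B i) 1 1 * 0 - 0 = ent (B i) 1 0 * x
      ring
  have hB1 : ∀ i, ent (B i) 1 0 = 1 := by
    intro i
    set b := ent (B i) 1 0 with hb
    set a := ent (B i) 0 0 - 1 with ha
    obtain ⟨v, hv, he⟩ := exists_fac M i ![0, (1 : F)]
    have h1 := key i 1 v hv.1 he
    rw [← ha, ← hb, mul_one, mul_one] at h1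
    obtain ⟨r, hr, hre⟩ := exists_fac M i ![a, 0]
    obtain ⟨s, hs, hse⟩ := exists_fac M i ![0, b]
    have h2 : M.e (u * (u * v * u⁻¹) * u⁻¹) i = M.e (u * (r * s) * u⁻¹) i := by
      refine h.loc M hu i (cj_mem huP hv.1) (mul_mem hr.1 hs.1) ?_
      rw [h1, M.mul r hr.1 s hs.1, Pi.add_apply, hre, hse]
      apply NatPair.ext2
      · simp
      · simp
    rw [h.invol hu, he, h.e_mul M hu i hr.1 hs.1, h.line_fix M hu i hr.1 hre, key i b s hs.1 hse] at h2
    have h3 := congrFun h2 1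
    change (1 : F) = 0 + b * b at h3
    have h5 : (b + 1) * (b + 1) = 0 := by
      have : (2 : F) = 0 := CharTwo.two_eq_zero
      linear_combination -h3 + (b + 1) * this
    have h7 : b = -1 := eq_neg_of_add_eq_zero_left (mul_self_eq_zero.1 h5)
    rw [h7, CharTwo.neg_eq]
  refine ⟨fun i => ent (B i) 0 0 - 1, fun v hv i => ?_, fun d hd => ?_⟩
  · obtain ⟨r, hr, hre⟩ := exists_fac M i ![M.e v i 0, 0]
    obtain ⟨s, hs, hse⟩ := exists_fac M i ![0, M.e v i 1]
    have h1 : M.e (u * v * u⁻¹) i = M.e (u * (r * s) * u⁻¹) i := by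
      refine h.loc M hu i hv (mul_mem hr.1 hs.1) ?_
      rw [M.mul r hr.1 s hs.1, Pi.add_apply, hre, hse]
      apply NatPair.ext2
      · simp
      · simp
    rw [h1, h.e_mul M hu i hr.1 hs.1, h.line_fix M hu i hr.1 hre, key i _ s hs.1 hse, hB1 i]
    apply NatPair.ext2
    · rw [Pi.add_apply, NatPair.ap_zero']
      simp only [up_00, up_01]
      change M.e v i 0 + (ent (B i) 0 0 - 1) * M.e v i 1 = _
      ring
    · rw [Pi.add_apply, NatPair.ap_one']
      simp only [up_10, up_11]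
      change 0 + 1 * M.e v i 1 = _
      ring
  · rw [mem_bot] at hd
    rw [hd, mul_one, one_mul]

end Quad

end Cfsg.Agent.Omega.NOThreeL.AFour
end

-- part: Mrg/Omega/NOThreeL/ATwo/Comp
section
prune_inst 0x100400142202000018000060003c42b20000000008080160400a0007c02c40a0410021b02001000010045428380068135c00504028000000000800011d0481002240029208a104260008800000000000000000000000000000000000000000200000000
set_option linter.all false
open scoped Cfsg.Agent.FastGrp

-- merged: Cfsg.Agent.Omega.NOThreeL.ATwo.Core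
section

/-!
# NO-3L A2 (text #14933 (2), helper850): the pair `U`, `U'` over `D = C_G(V')`

`U`, `U'` abelian of exponent 2, `U ∩ U' = 1`, `D` normalises `U`, `U'`, which normalise `D`, `a ∈ U`, `b ∈ U'`,
`ρ = a b`, `U^ρ = U'`. `Y = U ∩ D`, `Y' = U' ∩ D`, `pi u y = [u, y^ρ]` for `u ∈ U`, `y ∈ Y`.

* `Co.comm` : `[Y, Y'] = 1`; `pi_mem`, `pi_mul`, `mul_pi` : `pi` is a bimultiplicative map `U × Y → Y`, trivial on
  `Y × Y`;
* `Co.pi_a` : `pi a y = y`;
* `Co.key` : `pi u (pi v (pi u y)) = 1` if `[u, v^ρ] ∈ D`;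
* `Co.idem` : `pi u (pi u y) = pi u y` if moreover `u v ∈ a D` and `[v, u^ρ] ∈ D`;
* `Co.orth` : `pi u (pi v y) = 1` if `pi u`, `pi v`, `pi (u v)` are idempotent and `[u, v^ρ] ∈ D`.
-/

set_option autoImplicit false
set_option Elab.async false

namespace Cfsg.Agent.Omega.NOThreeL.ATwo

open Subgroup

universe u

variable {G : Type u} [Group G]

/-- The pair `U`, `U'` over `D`. -/
structure Co (U U' D : Subgroup G) (a b : G) : Prop where
  aU : a ∈ U
  bU : b ∈ U'
  ab : ∀ u ∈ U, ∀ v ∈ U, u * v = v * u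
  ab' : ∀ u ∈ U', ∀ v ∈ U', u * v = v * u
  sq : ∀ u ∈ U, u * u = 1
  inf : ∀ x, x ∈ U → x ∈ U' → x = 1
  DU : ∀ d ∈ D, ∀ u ∈ U, d * u * d⁻¹ ∈ U
  DU' : ∀ d ∈ D, ∀ u ∈ U', d * u * d⁻¹ ∈ U'
  UD : ∀ u ∈ U, ∀ d ∈ D, u * d * u⁻¹ ∈ D
  UD' : ∀ u ∈ U', ∀ d ∈ D, u * d * u⁻¹ ∈ D
  rho : ∀ u ∈ U, a * b * u * (a * b)⁻¹ ∈ U'

/-- `[u, y^ρ]` -/
def pi (a b u y : G) : G := u * (a * b * y * (a * b)⁻¹) * u⁻¹ * (a * b * y * (a * b)⁻¹)⁻¹

namespace Co

variable {U U' D : Subgroup G} {a b : G} (h : Co U U' D a b)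
include h

theorem sq' {u : G} (hu : u ∈ U) : u⁻¹ = u := inv_eq_of_mul_eq_one_left (h.sq u hu)

theorem rho_D {d : G} (hd : d ∈ D) : a * b * d * (a * b)⁻¹ ∈ D := by
  have e : a * b * d * (a * b)⁻¹ = a * (b * d * b⁻¹) * a⁻¹ := by group
  rw [e]
  exact h.UD a h.aU _ (h.UD' b h.bU d hd)

/-- `y^ρ ∈ Y'` -/
theorem rho_Y {y : G} (hy : y ∈ U) (hyD : y ∈ D) :
    a * b * y * (a * b)⁻¹ ∈ U' ∧ a * b * y * (a * b)⁻¹ ∈ D := ⟨h.rho y hy, h.rho_D hyD⟩

/-- `[Y, Y'] = 1` -/
theorem comm {y x : G} (hy : y ∈ U) (hyD : y ∈ D) (hx : x ∈ U') (hxD : x ∈ D) : y * x = x * y := by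
  have h1 : y * x * y⁻¹ * x⁻¹ = 1 := by
    refine h.inf _ ?_ ?_
    · have e : y * x * y⁻¹ * x⁻¹ = y * (x * y⁻¹ * x⁻¹) := by group
      rw [e]
      exact mul_mem hy (h.DU x hxD _ (inv_mem hy))
    · exact mul_mem (h.DU' y hyD x hx) (inv_mem hx)
  calc y * x = y * x * y⁻¹ * x⁻¹ * x * y := by group
    _ = x * y := by rw [h1, one_mul]

/-- `[U, Y'] ≤ Y` -/
theorem comm_mem {u x : G} (hu : u ∈ U) (hx : x ∈ D) :
    u * x * u⁻¹ * x⁻¹ ∈ U ∧ u * x * u⁻¹ * x⁻¹ ∈ D := by
  constructor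
  · have e : u * x * u⁻¹ * x⁻¹ = u * (x * u⁻¹ * x⁻¹) := by group
    rw [e]
    exact mul_mem hu (h.DU x hx _ (inv_mem hu))
  · exact mul_mem (h.UD u hu x hx) (inv_mem hx)

theorem pi_mem {u y : G} (hu : u ∈ U) (hyD : y ∈ D) :
    pi a b u y ∈ U ∧ pi a b u y ∈ D := h.comm_mem hu (h.rho_D hyD)

/-- `pi` is multiplicative in the second variable. -/
theorem pi_mul {u x y : G} (hu : u ∈ U) (hx : x ∈ U) (hxD : x ∈ D) (hy : y ∈ U) (hyD : y ∈ D) :
    pi a b u (x * y) = pi a b u x * pi a b u y := by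
  obtain ⟨h1, h2⟩ := h.rho_Y hx hxD
  have h3 := h.pi_mem hu hyD
  have h4 := h.comm h3.1 h3.2 h1 h2
  unfold pi at h4 ⊢
  set X := a * b * x * (a * b)⁻¹ with hX
  set Z := a * b * y * (a * b)⁻¹ with hZ
  have e : a * b * (x * y) * (a * b)⁻¹ = X * Z := by rw [hX, hZ]; group
  rw [e]
  calc u * (X * Z) * u⁻¹ * (X * Z)⁻¹ = u * X * u⁻¹ * (u * Z * u⁻¹ * Z⁻¹) * X⁻¹ := by group
    _ = u * X * u⁻¹ * ((u * Z * u⁻¹ * Z⁻¹ * X) * X⁻¹) * X⁻¹ := by group
    _ = u * X * u⁻¹ * ((X * (u * Z * u⁻¹ * Z⁻¹)) * X⁻¹) * X⁻¹ := by rw [h4]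
    _ = u * X * u⁻¹ * (X * (u * Z * u⁻¹ * Z⁻¹) * X⁻¹) * X⁻¹ := by group
    _ = u * X * u⁻¹ * X⁻¹ * (u * Z * u⁻¹ * Z⁻¹) := by
        have h5 : X * (u * Z * u⁻¹ * Z⁻¹) * X⁻¹ = X⁻¹ * (u * Z * u⁻¹ * Z⁻¹) * X := by
          have h6 : X * (u * Z * u⁻¹ * Z⁻¹) * X⁻¹ = u * Z * u⁻¹ * Z⁻¹ := by
            rw [← h4]; group
          have h7 : X⁻¹ * (u * Z * u⁻¹ * Z⁻¹) * X = u * Z * u⁻¹ * Z⁻¹ := by
            rw [mul_assoc, h4]; group
          rw [h6, h7]
        rw [h5]; group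

/-- `pi` is multiplicative in the first variable. -/
theorem mul_pi {u v y : G} (hu : u ∈ U) (hv : v ∈ U) (hyD : y ∈ D) :
    pi a b (u * v) y = pi a b u y * pi a b v y := by
  have h1 := (h.pi_mem hv hyD).1
  have h2 := h.ab u hu _ h1
  have h3 := h.ab _ (h.pi_mem hu hyD).1 _ h1
  rw [h3]
  unfold pi at h2 ⊢
  set Z := a * b * y * (a * b)⁻¹ with hZ
  calc u * v * Z * (u * v)⁻¹ * Z⁻¹ = u * (v * Z * v⁻¹ * Z⁻¹) * (Z * u⁻¹ * Z⁻¹) := by group
    _ = (v * Z * v⁻¹ * Z⁻¹) * u * (Z * u⁻¹ * Z⁻¹) := by rw [h2]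
    _ = v * Z * v⁻¹ * Z⁻¹ * (u * Z * u⁻¹ * Z⁻¹) := by group

/-- `pi` is trivial on `Y × Y`. -/
theorem pi_eq_one {u y : G} (hu : u ∈ U) (huD : u ∈ D) (hy : y ∈ U) (hyD : y ∈ D) : pi a b u y = 1 := by
  obtain ⟨h1, h2⟩ := h.rho_Y hy hyD
  unfold pi
  rw [h.comm hu huD h1 h2]
  group

theorem pi_one {u : G} : pi a b u 1 = 1 := by
  unfold pi
  group

theorem pi_congr {u v y : G} (hu : u ∈ U) (hv : v ∈ U) (huv : u * v⁻¹ ∈ D) (hy : y ∈ U) (hyD : y ∈ D) :
    pi a b u y = pi a b v y := by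
  have h1 : u = u * v⁻¹ * v := by group
  rw [h1, h.mul_pi (mul_mem hu (inv_mem hv)) hv hyD,
    h.pi_eq_one (mul_mem hu (inv_mem hv)) huv hy hyD, one_mul]

/-- `pi a y = y` -/
theorem pi_a {y : G} (hy : y ∈ U) (hyD : y ∈ D) : pi a b a y = y := by
  obtain ⟨h1, h2⟩ := h.rho_Y hy hyD
  -- `t = [b, y]`
  have ht : b * y * b⁻¹ * y⁻¹ ∈ U' := by
    have e : b * y * b⁻¹ * y⁻¹ = b * (y * b⁻¹ * y⁻¹) := by group
    rw [e]
    exact mul_mem h.bU (h.DU' y hyD _ (inv_mem h.bU))
  have htD : b * y * b⁻¹ * y⁻¹ ∈ D := mul_mem (h.UD' b h.bU y hyD) (inv_mem hyD)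
  set t := b * y * b⁻¹ * y⁻¹ with hte
  obtain ⟨hk, hkD⟩ := h.comm_mem h.aU htD
  set κ := a * t * a⁻¹ * t⁻¹ with hκ
  have e1 : a * b * y * (a * b)⁻¹ = κ * y * t := by
    have h3 := h.ab a h.aU y hy
    have h4 := h.comm hy hyD ht htD
    calc a * b * y * (a * b)⁻¹ = a * (b * y * b⁻¹ * y⁻¹) * y * a⁻¹ := by group
      _ = a * t * (y * a⁻¹) := by rw [← hte]; group
      _ = a * t * (a⁻¹ * y) := by
          have h5 : y * a⁻¹ = a⁻¹ * y := by
            calc y * a⁻¹ = a⁻¹ * (a * y) * a⁻¹ := by group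
              _ = a⁻¹ * (y * a) * a⁻¹ := by rw [h3]
              _ = a⁻¹ * y := by group
          rw [h5]
      _ = a * t * a⁻¹ * t⁻¹ * (t * y) := by group
      _ = κ * (y * t) := by rw [← hκ, h4]
      _ = κ * y * t := by group
  have e2 : κ * y = 1 := by
    refine h.inf _ (mul_mem hk hy) ?_
    have e3 : κ * y = a * b * y * (a * b)⁻¹ * t⁻¹ := by rw [e1]; group
    rw [e3]
    exact mul_mem h1 (inv_mem ht)
  have e4 : κ = y := by
    have h5 : κ = y⁻¹ := mul_eq_one_iff_eq_inv.1 e2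
    rw [h5, h.sq' hy]
  have e5 : a * b * y * (a * b)⁻¹ = t := by rw [e1, e2, one_mul]
  unfold pi
  rw [e5]
  exact e4

/-- `[v^ρ, y] = (pi v y)^ρ` -/
theorem rho_conj {v y : G} (hv : v ∈ U) (hy : y ∈ U) (hyD : y ∈ D) :
    (a * b * v * (a * b)⁻¹) * y * (a * b * v * (a * b)⁻¹)⁻¹ =
      a * b * pi a b v y * (a * b)⁻¹ * y := by
  obtain ⟨h1, h2⟩ := h.rho_Y hy hyD
  have h3 := h.pi_a hy hyD
  have h4 := h.rho v hv
  have h5 := h.ab' _ h4 _ h1
  have h6 := h.ab' _ h1 _ h.bU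
  have h7 := h.comm hy hyD h1 h2
  set ρ := a * b with hρ
  set Z := ρ * y * ρ⁻¹ with hZ
  set v' := ρ * v * ρ⁻¹ with hv'
  -- `Z^ρ = y Z`
  have e1 : ρ * Z * ρ⁻¹ = y * Z := by
    have e2 : ρ * Z * ρ⁻¹ = a * Z * a⁻¹ := by
      rw [hρ]
      calc a * b * Z * (a * b)⁻¹ = a * (b * Z) * b⁻¹ * a⁻¹ := by group
        _ = a * (Z * b) * b⁻¹ * a⁻¹ := by rw [h6]
        _ = a * Z * a⁻¹ := by group
    rw [e2]
    have e3 : a * Z * a⁻¹ = pi a b a y * Z := by
      unfold pi
      rw [← hρ, ← hZ]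
      group
    rw [e3, h3]
  have e4 : pi a b v y = v * Z * v⁻¹ * Z⁻¹ := rfl
  have e5 : v' * (y * Z) * v'⁻¹ = ρ * pi a b v y * ρ⁻¹ * (y * Z) := by
    rw [← e1, e4, hv']
    group
  calc v' * y * v'⁻¹ = v' * (y * Z) * v'⁻¹ * (v' * Z * v'⁻¹)⁻¹ := by group
    _ = v' * (y * Z) * v'⁻¹ * Z⁻¹ := by
        have e6 : v' * Z * v'⁻¹ = Z := by rw [h5]; group
        rw [e6]
    _ = ρ * pi a b v y * ρ⁻¹ * y := by rw [e5]; group

/-- The relation from `[u, v^ρ] ∈ D`. -/
theorem key {u v y : G} (hu : u ∈ U) (hv : v ∈ U)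
    (hd : u * (a * b * v * (a * b)⁻¹) * u⁻¹ * (a * b * v * (a * b)⁻¹)⁻¹ ∈ D)
    (hy : y ∈ U) (hyD : y ∈ D) : pi a b u (pi a b v (pi a b u y)) = 1 := by
  obtain ⟨h1, h2⟩ := h.rho_Y hy hyD
  obtain ⟨hx, hxD⟩ := h.pi_mem (u := u) hu hyD
  obtain ⟨hw, hwD⟩ := h.pi_mem (u := v) hv hxD
  have h4 := h.rho v hv
  have h5 := h.ab' _ h4 _ h1
  have h6 := h.rho_conj hv hx hxD
  obtain ⟨h7, h8⟩ := h.rho_Y hw hwD
  obtain ⟨h9, h10⟩ := h.pi_mem (u := u) hu hwD
  have hdm := h.DU' _ hd _ h1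
  set Z := a * b * y * (a * b)⁻¹ with hZ
  set v' := a * b * v * (a * b)⁻¹ with hv'
  set x := pi a b u y with hxe
  set w := pi a b v x with hwe
  set W := a * b * w * (a * b)⁻¹ with hW
  have e1 : u * Z * u⁻¹ = x * Z := by
    rw [hxe]
    unfold pi
    rw [← hZ]
    group
  have e2 : u * W * u⁻¹ = pi a b u w * W := by
    unfold pi
    rw [← hW]
    group
  have hui := h.sq' hu
  have h11 := h.comm hx hxD h7 h8
  have h12 := h.ab' _ h7 _ h1
  -- conjugate of `Z` by `[u, v']`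
  have e3 : u * v' * u⁻¹ * v'⁻¹ * Z * (u * v' * u⁻¹ * v'⁻¹)⁻¹ = pi a b u w * (W * Z) := by
    have e4 : v'⁻¹ * Z * v' = Z := by
      rw [mul_assoc, ← h5]; group
    have e5 : u⁻¹ * Z * u = x * Z := by rw [← e1, hui]
    have e6 : v' * Z * v'⁻¹ = Z := by rw [h5]; group
    calc u * v' * u⁻¹ * v'⁻¹ * Z * (u * v' * u⁻¹ * v'⁻¹)⁻¹
        = u * (v' * (u⁻¹ * (v'⁻¹ * Z * v') * u) * v'⁻¹) * u⁻¹ := by group
      _ = u * (v' * (x * Z) * v'⁻¹) * u⁻¹ := by rw [e4, e5]
      _ = u * ((v' * x * v'⁻¹) * (v' * Z * v'⁻¹)) * u⁻¹ := by group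
      _ = u * (W * x * Z) * u⁻¹ := by rw [h6, e6]
      _ = (u * W * u⁻¹) * (u * x * u⁻¹) * (u * Z * u⁻¹) := by group
      _ = pi a b u w * W * x * (x * Z) := by
          have e7 : u * x * u⁻¹ = x := by rw [h.ab u hu x hx]; group
          rw [e1, e2, e7]
      _ = pi a b u w * (W * (x * x) * Z) := by group
      _ = pi a b u w * (W * Z) := by rw [h.sq x hx, mul_one]
  rw [e3] at hdm
  refine h.inf _ h9 ?_
  have e8 : pi a b u w = pi a b u w * (W * Z) * (W * Z)⁻¹ := by group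
  rw [e8]
  exact mul_mem hdm (inv_mem (mul_mem h7 h1))

/-- `pi u` is idempotent. -/
theorem idem {u v y : G} (hu : u ∈ U) (hv : v ∈ U)
    (hd : u * (a * b * v * (a * b)⁻¹) * u⁻¹ * (a * b * v * (a * b)⁻¹)⁻¹ ∈ D)
    (hd' : v * (a * b * u * (a * b)⁻¹) * v⁻¹ * (a * b * u * (a * b)⁻¹)⁻¹ ∈ D)
    (huv : u * v * a⁻¹ ∈ D) (hy : y ∈ U) (hyD : y ∈ D) : pi a b u (pi a b u y) = pi a b u y := by
  have hg : ∀ {x : G}, x ∈ U → x ∈ D → pi a b v x = pi a b u x * x := by
    intro x hx hxD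
    have h1 := h.pi_congr (mul_mem hu hv) h.aU huv hx hxD
    rw [h.mul_pi hu hv hxD, h.pi_a hx hxD] at h1
    have h2 := h.sq _ (h.pi_mem (u := u) hu hxD).1
    calc pi a b v x = (pi a b u x * pi a b u x) * pi a b v x := by rw [h2, one_mul]
      _ = pi a b u x * (pi a b u x * pi a b v x) := by group
      _ = pi a b u x * x := by rw [h1]
  obtain ⟨m1, d1⟩ := h.pi_mem (u := u) hu hyD
  obtain ⟨m2, d2⟩ := h.pi_mem (u := u) hu d1
  obtain ⟨m3, d3⟩ := h.pi_mem (u := u) hu d2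
  have k1 := h.key hu hv hd hy hyD
  rw [hg m1 d1, h.pi_mul hu m2 d2 m1 d1] at k1
  have k2 := h.key hv hu hd' hy hyD
  rw [hg hy hyD, h.pi_mul hu m1 d1 hy hyD, hg (mul_mem m2 m1) (mul_mem d2 d1),
    h.pi_mul hu m2 d2 m1 d1] at k2
  -- `k1 : f³ f² = 1`, `k2 : f³ f² (f² f) = 1`
  rw [k1, one_mul] at k2
  have h3 : pi a b u (pi a b u y) = (pi a b u y)⁻¹ := mul_eq_one_iff_eq_inv.1 k2
  rw [h3, h.sq' m1]

/-- Orthogonality. -/
theorem orth {u v : G} (hu : u ∈ U) (hv : v ∈ U)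
    (hd : u * (a * b * v * (a * b)⁻¹) * u⁻¹ * (a * b * v * (a * b)⁻¹)⁻¹ ∈ D)
    (iu : ∀ y, y ∈ U → y ∈ D → pi a b u (pi a b u y) = pi a b u y)
    (iv : ∀ y, y ∈ U → y ∈ D → pi a b v (pi a b v y) = pi a b v y)
    (iuv : ∀ y, y ∈ U → y ∈ D → pi a b (u * v) (pi a b (u * v) y) = pi a b (u * v) y)
    {y : G} (hy : y ∈ U) (hyD : y ∈ D) : pi a b u (pi a b v y) = 1 := by
  have hc : ∀ x, x ∈ U → x ∈ D → pi a b u (pi a b v x) = pi a b v (pi a b u x) := by
    intro x hx hxD
    have h1 := iuv x hx hxD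
    obtain ⟨m1, d1⟩ := h.pi_mem (u := u) hu hxD
    obtain ⟨m2, d2⟩ := h.pi_mem (u := v) hv hxD
    obtain ⟨m3, d3⟩ := h.pi_mem (u := u) hu d2
    obtain ⟨m4, d4⟩ := h.pi_mem (u := v) hv d1
    rw [h.mul_pi hu hv hxD, h.mul_pi hu hv (mul_mem d1 d2), h.pi_mul hu m1 d1 m2 d2,
      h.pi_mul hv m1 d1 m2 d2, iu x hx hxD, iv x hx hxD] at h1
    -- `f * fg * (gf * g) = f * g`
    have h2 : pi a b u (pi a b v x) * pi a b v (pi a b u x) = 1 := by
      calc pi a b u (pi a b v x) * pi a b v (pi a b u x)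
          = (pi a b u x)⁻¹ * (pi a b u x * pi a b u (pi a b v x) *
            (pi a b v (pi a b u x) * pi a b v x)) * (pi a b v x)⁻¹ := by group
        _ = (pi a b u x)⁻¹ * (pi a b u x * pi a b v x) * (pi a b v x)⁻¹ := by rw [h1]
        _ = 1 := by group
    have h4 : pi a b u (pi a b v x) = (pi a b v (pi a b u x))⁻¹ := mul_eq_one_iff_eq_inv.1 h2
    rw [h4, h.sq' m4]
  obtain ⟨m2, d2⟩ := h.pi_mem (u := v) hv hyD
  have h1 := h.key hu hv hd hy hyD
  rw [← hc y hy hyD, iu _ m2 d2] at h1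
  exact h1

end Co

end Cfsg.Agent.Omega.NOThreeL.ATwo

end

-- merged: Cfsg.Agent.Mrg.Omega.NOThreeL.ATwo.Exact
section

/-!
# NO-3L A2, `q = 2` (text #14933 (1)–(3), helper850)

`M : NatK F S P (zl S P) ⊥ k`, `V = zl S P`, `|F| = 2`, `z` the element of `V` with coordinates `![1, 0]`; `U ≤ S`
elementary abelian, normalised by `C_G(z)`, induces all upper unitriangular elements of `SL₂(F)^k` on `V`; every
nontrivial `S`-invariant subgroup of `U` contains `z`.

* `Cfg.inf_eq` : `U ∩ U^w = 1` for `w ∈ P` with `z^w` opposite to `z`;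
* `Cfg.co` : the pair `U`, `U^w` over `C_G(V)`;
* `Cfg.val` : for `y ∈ C_U(V)` with `pi (u i) y = y` (`u i ∈ U` moves only the `i`-th factor) and every `u ∈ U`
  acting as `up b` : `pi u y = y` if `b i = 1` and `pi u y = 1` if `b i = 0`;
* `Cfg.prod` : every `y ∈ C_U(V)` is the product of its components `pi (u i) y`.
-/

set_option autoImplicit false
set_option Elab.async false

namespace Cfsg.Agent.Omega.NOThreeL.ATwo

open Subgroup Cfsg Cfsg.Agent.ZN Cfsg.Agent.ZN.ChoiceBase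
open Cfsg.Agent.Omega.MinPar Cfsg.Agent.Omega.FFThm
open Cfsg.Agent.MinSimple.VModule (le_normalizer_zl)
open Cfsg.Agent.Lib.SL2Mat
open Cfsg.Agent.Omega.NatPair (ap ap_mul ap_one ap_inv_ap ap_ap_inv exists_ap ap_add)
open Cfsg.Agent.Omega.IId (Ind cj_mem cj_mem' e_inj acts_mul acts_inv acts_one sg sg_spec e_one e_inv)

universe u

variable {G : Type u} [Group G] {F : Type} [Field F] {S P : Subgroup G} {k : ℕ}

structure Cfg (M : NatK F S P (zl S P) ⊥ k) (z : G) (U : Subgroup G) : Prop where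
  two : ∀ x : F, x = 0 ∨ x = 1
  pos : 0 < k
  SP : S ≤ P
  zV : z ∈ zl S P
  ez : ∀ i, M.e z i = ![1, 0]
  ind : Ind M U Set.univ
  UP : U ≤ P
  cent : ∀ g, g * z = z * g → g ∈ normalizer (U : Set G)
  ab : ∀ u ∈ U, ∀ v ∈ U, u * v = v * u
  sq : ∀ u ∈ U, u * u = 1
  core : ∀ T : Subgroup G, T ≤ U → S ≤ normalizer (T : Set G) → T ≠ ⊥ → z ∈ T

section mat

variable [CharP F 2]

theorem wm_up (c : F) : wm (1 : F) one_ne_zero * up c * (wm (1 : F) one_ne_zero)⁻¹ = lo c := by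
  have h2 : (-1 : F) = 1 := CharTwo.neg_eq 1
  rw [ent_inv]
  refine ext_ent ?_ ?_ ?_ ?_ <;> simp only [ent_mul, wm_00, wm_01, wm_10, wm_11, up_00, up_01, up_10, up_11,
    lo_00, lo_01, lo_10, lo_11, mk_00, mk_01, mk_10, mk_11, inv_one, h2] <;> ring_nf
  all_goals simp [h2]

theorem rho_up (c : F) : up (1 : F) * lo (1 : F) * up c * (up (1 : F) * lo (1 : F))⁻¹ = lo c := by
  have h2 : (1 : F) + 1 = 0 := CharTwo.add_self_eq_zero 1
  rw [ent_inv]
  refine ext_ent ?_ ?_ ?_ ?_ <;> simp only [ent_mul, up_00, up_01, up_10, up_11,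
    lo_00, lo_01, lo_10, lo_11, mk_00, mk_01, mk_10, mk_11]
  · linear_combination (-(c : F)) * h2
  · linear_combination (2 * c : F) * h2
  · linear_combination (-(c : F)) * h2
  · linear_combination (c : F) * h2

end mat

variable {M : NatK F S P (zl S P) ⊥ k}

theorem mem_cent_of_acts {g : G} (hg : g ∈ P) (h : ActsSL M.e (zl S P) ⊥ g 1) :
    g ∈ centralizer (zl S P : Set G) := by
  rw [mem_centralizer_iff]
  intro v hv
  have h1 : g * v * g⁻¹ = v := by
    refine e_inj M (cj_mem hg hv) hv (funext fun i => ?_)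
    rw [h.1 v hv i, Pi.one_apply, ap_one]
  calc v * g = g * v * g⁻¹ * g := by rw [h1]
    _ = g * v := by group

theorem acts_conj {g h : G} (hg : g ∈ P) (hh : h ∈ P) {A B : Fin k → Matrix.SpecialLinearGroup (Fin 2) F}
    (h1 : ActsSL M.e (zl S P) ⊥ g A) (h2 : ActsSL M.e (zl S P) ⊥ h B) :
    ActsSL M.e (zl S P) ⊥ (g * h * g⁻¹) (A * B * A⁻¹) :=
  acts_mul (inv_mem hg) (acts_mul hh h1 h2) (acts_inv hg h1)

/-- Elements acting in the same way. -/
theorem mem_cent_of_eq {g h : G} (hg : g ∈ P) (hh : h ∈ P) {A : Fin k → Matrix.SpecialLinearGroup (Fin 2) F}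
    (h1 : ActsSL M.e (zl S P) ⊥ g A) (h2 : ActsSL M.e (zl S P) ⊥ h A) :
    g * h⁻¹ ∈ centralizer (zl S P : Set G) := by
  refine mem_cent_of_acts (M := M) (mul_mem hg (inv_mem hh)) ?_
  have h3 := acts_mul (inv_mem hh) h1 (acts_inv hh h2)
  rwa [mul_inv_cancel] at h3

/-- The cyclic permutation of the three lines is transitive on the pairs. -/
theorem acts_eq (M : NatK F S P (zl S P) ⊥ k) {g h v w : G} (hg : g ∈ P) (hh : h ∈ P) (hv : v ∈ zl S P) (hw : w ∈ zl S P)
    {A B : Fin k → Matrix.SpecialLinearGroup (Fin 2) F}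
    (h1 : ActsSL M.e (zl S P) ⊥ g A) (h2 : ActsSL M.e (zl S P) ⊥ h B)
    (he : ∀ i, ap (A i) (M.e v i) = ap (B i) (M.e w i)) : g * v * g⁻¹ = h * w * h⁻¹ := by
  refine e_inj M (cj_mem hg hv) (cj_mem hh hw) (funext fun i => ?_)
  rw [h1.1 v hv i, h2.1 w hw i, he i]

namespace Cfg

variable {z : G} {U : Subgroup G} (h : Cfg M z U)
include h

/-- `C_G(V) ≤ N_G(U^g)` for `g ∈ P`. -/
theorem cent_conj {g d x : G} (hg : g ∈ P) (hd : d ∈ centralizer (zl S P : Set G)) (hx : x ∈ cj g U) :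
    d * x * d⁻¹ ∈ cj g U := by
  rw [mem_cj] at hx ⊢
  have h1 : g⁻¹ * d * g * z = z * (g⁻¹ * d * g) := by
    have h2 := mem_centralizer_iff.1 hd _ (cj_mem hg h.zV)
    calc g⁻¹ * d * g * z = g⁻¹ * (d * (g * z * g⁻¹)) * g := by group
      _ = g⁻¹ * ((g * z * g⁻¹) * d) * g := by rw [h2]
      _ = z * (g⁻¹ * d * g) := by group
  have h3 := (mem_normalizer_iff.1 (h.cent _ h1) _).1 hx
  have e : g⁻¹ * (d * x * d⁻¹) * g = g⁻¹ * d * g * (g⁻¹ * x * g) * (g⁻¹ * d * g)⁻¹ := by group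
  rwa [e]

omit h in
theorem cent_norm {g d : G} (hg : g ∈ P) (hd : d ∈ centralizer (zl S P : Set G)) :
    g * d * g⁻¹ ∈ centralizer (zl S P : Set G) := by
  rw [mem_centralizer_iff] at hd ⊢
  intro v hv
  have h1 := hd _ (cj_mem' hg hv)
  calc v * (g * d * g⁻¹) = g * ((g⁻¹ * v * g) * d) * g⁻¹ := by group
    _ = g * (d * (g⁻¹ * v * g)) * g⁻¹ := by rw [h1]
    _ = g * d * g⁻¹ * v := by group

theorem cj_congr {g x : G} (he : g * z * g⁻¹ = x * z * x⁻¹) : cj g U = cj x U := by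
  have h1 : x⁻¹ * g * z = z * (x⁻¹ * g) := by
    calc x⁻¹ * g * z = x⁻¹ * (g * z * g⁻¹) * g := by group
      _ = x⁻¹ * (x * z * x⁻¹) * g := by rw [he]
      _ = z * (x⁻¹ * g) := by group
  have h2 := cj_eq_of_mem_normalizer (h.cent _ h1)
  rw [← cj_cj] at h2
  have h3 := congrArg (cj x) h2
  rwa [cj_cj_inv] at h3

variable [CharP F 2]

theorem exists_up (b : Fin k → F) : ∃ u ∈ U, ActsSL M.e (zl S P) ⊥ u fun i => up (b i) :=
  h.ind.ex b fun _ hi => (hi (Set.mem_univ _)).elim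

theorem exists_b {u : G} (hu : u ∈ U) : ∃ b : Fin k → F, ActsSL M.e (zl S P) ⊥ u fun i => up (b i) := by
  obtain ⟨b, -, hb⟩ := h.ind.act u hu
  exact ⟨b, hb⟩

/-- Every `P`-conjugate of `z` is conjugate to `z` under `⟨U, U^w⟩`. -/
theorem exists_x {w g : G} (hw : w ∈ P)
    (hwA : ActsSL M.e (zl S P) ⊥ w fun _ => wm (1 : F) one_ne_zero) (hg : g ∈ P) :
    ∃ u ∈ U, ∃ v ∈ U, g * z * g⁻¹ = (u * (w * v * w⁻¹)) * z * (u * (w * v * w⁻¹))⁻¹ := by
  obtain ⟨v, hv, hvA⟩ := h.exists_up fun i => M.e (g * z * g⁻¹) i 1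
  obtain ⟨u, hu, huA⟩ := h.exists_up fun i => 1 + M.e (g * z * g⁻¹) i 0
  refine ⟨u, hu, v, hv, ?_⟩
  have h1 := acts_conj hw (h.UP hv) hwA hvA
  have h2 := acts_mul (mul_mem (mul_mem hw (h.UP hv)) (inv_mem hw)) huA h1
  have hx : u * (w * v * w⁻¹) ∈ P := mul_mem (h.UP hu) (mul_mem (mul_mem hw (h.UP hv)) (inv_mem hw))
  refine e_inj M (cj_mem hg h.zV) (cj_mem hx h.zV) (funext fun i => ?_)
  rw [h2.1 z h.zV i, h.ez i, Pi.mul_apply, Pi.mul_apply, Pi.mul_apply, Pi.inv_apply, wm_up]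
  have hne : M.e (g * z * g⁻¹) i ≠ 0 := by
    obtain ⟨j, rfl⟩ := (sg M hg).surjective i
    intro h0
    have h3 := (sg_spec M hg h.zV j).1 h0
    rw [h.ez j] at h3
    have := congrFun h3 0
    simp at this
  set x := M.e (g * z * g⁻¹) i with hx'
  have h22 : (1 : F) + 1 = 0 := CharTwo.add_self_eq_zero 1
  rw [ap_mul]
  apply NatPair.ext2
  · rw [NatPair.ap_zero', NatPair.ap_zero', NatPair.ap_one']
    simp only [up_00, up_01, lo_00, lo_01, lo_10, lo_11, Matrix.cons_val_zero, Matrix.cons_val_one]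
    rcases h.two (x 1) with h1 | h1 <;> rcases h.two (x 0) with h0 | h0
    · exact absurd (NatPair.ext2 h0 h1) hne
    · rw [h0, h1]; ring
    · rw [h0, h1]; linear_combination -h22
    · rw [h0, h1]; linear_combination -h22
  · rw [NatPair.ap_one', NatPair.ap_zero', NatPair.ap_one']
    simp only [up_10, up_11, lo_00, lo_01, lo_10, lo_11, Matrix.cons_val_zero, Matrix.cons_val_one]
    ring

/-- **(1)** `U ∩ U^w = 1`. -/
theorem inf_eq {w : G} (hw : w ∈ P) (hwA : ActsSL M.e (zl S P) ⊥ w fun _ => wm (1 : F) one_ne_zero) :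
    U ⊓ cj w U = ⊥ := by
  -- `T ≤ U^g` for all `g ∈ P`
  have key : ∀ g ∈ P, U ⊓ cj w U ≤ cj g U := by
    intro g hg t ht
    rw [mem_inf] at ht
    obtain ⟨u, hu, v, hv, he⟩ := h.exists_x hw hwA hg
    rw [h.cj_congr he, mem_cj]
    have ht2 := mem_cj.1 ht.2
    have e1 : (u * (w * v * w⁻¹))⁻¹ * t * (u * (w * v * w⁻¹)) = t := by
      have h1 := h.ab u hu t ht.1
      have h2 := h.ab v hv _ ht2
      calc (u * (w * v * w⁻¹))⁻¹ * t * (u * (w * v * w⁻¹))
          = w * v⁻¹ * w⁻¹ * u⁻¹ * (t * u) * (w * v * w⁻¹) := by group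
        _ = w * v⁻¹ * w⁻¹ * u⁻¹ * (u * t) * (w * v * w⁻¹) := by rw [h1]
        _ = w * v⁻¹ * ((w⁻¹ * t * w) * v) * w⁻¹ := by group
        _ = w * v⁻¹ * (v * (w⁻¹ * t * w)) * w⁻¹ := by rw [h2]
        _ = t := by group
    rw [e1]
    exact ht.1
  by_contra hne
  have hS : S ≤ normalizer ((U ⊓ cj w U : Subgroup G) : Set G) := by
    have k1 : ∀ s ∈ S, ∀ t ∈ U ⊓ cj w U, s * t * s⁻¹ ∈ U ⊓ cj w U := by
      intro s hs t ht
      rw [mem_inf]
      constructor
      · have h1 := key s⁻¹ (inv_mem (h.SP hs)) ht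
        rw [mem_cj, inv_inv] at h1
        exact h1
      · have h1 := key (s⁻¹ * w) (mul_mem (inv_mem (h.SP hs)) hw) ht
        rw [mem_cj] at h1 ⊢
        have e : w⁻¹ * (s * t * s⁻¹) * w = (s⁻¹ * w)⁻¹ * t * (s⁻¹ * w) := by group
        rwa [e]
    intro s hs
    rw [mem_normalizer_iff]
    intro t
    refine ⟨k1 s hs t, fun ht => ?_⟩
    have h1 := k1 s⁻¹ (inv_mem hs) _ ht
    have e : s⁻¹ * (s * t * s⁻¹) * s⁻¹⁻¹ = t := by group
    rwa [e] at h1
  have hz := (mem_inf.1 (h.core _ inf_le_left hS hne)).2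
  rw [mem_cj] at hz
  obtain ⟨v, hv, hvA⟩ := h.exists_up fun _ => 1
  have h1 := acts_conj hw (h.UP hv) hwA hvA
  have h2 := h.ab v hv _ hz
  have h3 : w * v * w⁻¹ * z * (w * v * w⁻¹)⁻¹ = z := by
    calc w * v * w⁻¹ * z * (w * v * w⁻¹)⁻¹ = w * (v * (w⁻¹ * z * w)) * v⁻¹ * w⁻¹ := by group
      _ = w * ((w⁻¹ * z * w) * v) * v⁻¹ * w⁻¹ := by rw [h2]
      _ = z := by group
  have i0 : Fin k := ⟨0, h.pos⟩
  have h4 := h1.1 z h.zV i0
  rw [h3, h.ez i0, Pi.mul_apply, Pi.mul_apply, Pi.inv_apply, wm_up] at h4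
  have h5 := congrFun h4 1
  rw [NatPair.ap_one'] at h5
  simp at h5

/-- The pair `U`, `U^w`. -/
theorem exists_co : ∃ (a b : G) (U' : Subgroup G), Co U U' (centralizer (zl S P : Set G)) a b ∧ a ∈ P ∧ b ∈ P ∧
    U' ≤ P ∧
    (ActsSL M.e (zl S P) ⊥ a fun _ => up 1) ∧ (ActsSL M.e (zl S P) ⊥ b fun _ => lo 1) := by
  obtain ⟨w, hw, hwA⟩ := M.lift fun _ => wm (1 : F) one_ne_zero
  obtain ⟨a, ha, haA⟩ := h.exists_up fun _ => 1
  have hb : w * a * w⁻¹ ∈ P := mul_mem (mul_mem hw (h.UP ha)) (inv_mem hw)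
  have hbA : ActsSL M.e (zl S P) ⊥ (w * a * w⁻¹) fun _ => lo 1 := by
    have h1 := acts_conj hw (h.UP ha) hwA haA
    have h2 : ((fun _ => wm (1 : F) one_ne_zero) * (fun _ => up 1) * (fun _ => wm (1 : F) one_ne_zero)⁻¹ :
        Fin k → Matrix.SpecialLinearGroup (Fin 2) F) = fun _ => lo 1 := by
      funext i
      rw [Pi.mul_apply, Pi.mul_apply, Pi.inv_apply, wm_up]
    rwa [h2] at h1
  have hU'P : cj w U ≤ P := by
    intro x hx
    rw [mem_cj] at hx
    have e : x = w * (w⁻¹ * x * w) * w⁻¹ := by group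
    rw [e]
    exact mul_mem (mul_mem hw (h.UP hx)) (inv_mem hw)
  have hρ : cj (a * (w * a * w⁻¹)) U = cj w U := by
    refine h.cj_congr (acts_eq M (mul_mem (h.UP ha) hb) hw h.zV h.zV (acts_mul hb haA hbA) hwA fun i => ?_)
    rw [Pi.mul_apply, h.ez i]
    have h22 : (1 : F) + 1 = 0 := CharTwo.add_self_eq_zero 1
    have h2 : (-1 : F) = 1 := CharTwo.neg_eq 1
    apply NatPair.ext2
    · rw [NatPair.ap_zero', NatPair.ap_zero', ent_mul, ent_mul]
      simp [h22]
    · rw [NatPair.ap_one', NatPair.ap_one', ent_mul, ent_mul]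
      simp [h2]
  refine ⟨a, w * a * w⁻¹, cj w U, ?_, h.UP ha, hb, hU'P, haA, hbA⟩
  exact
    { aU := ha
      bU := by
        rw [mem_cj]
        have e : w⁻¹ * (w * a * w⁻¹) * w = a := by group
        rwa [e]
      ab := h.ab
      ab' := by
        intro u hu v hv
        rw [mem_cj] at hu hv
        have h1 := h.ab _ hu _ hv
        calc u * v = w * ((w⁻¹ * u * w) * (w⁻¹ * v * w)) * w⁻¹ := by group
          _ = w * ((w⁻¹ * v * w) * (w⁻¹ * u * w)) * w⁻¹ := by rw [h1]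
          _ = v * u := by group
      sq := h.sq
      inf := by
        intro x hx hx'
        have h1 : x ∈ U ⊓ cj w U := ⟨hx, hx'⟩
        rwa [h.inf_eq hw hwA, mem_bot] at h1
      DU := by
        intro d hd u hu
        have h1 := h.cent_conj (one_mem P) hd (x := u) (by rwa [cj_one])
        rwa [cj_one] at h1
      DU' := fun d hd u hu => h.cent_conj hw hd hu
      UD := fun u hu d hd => cent_norm (h.UP hu) hd
      UD' := fun u hu d hd => cent_norm (hU'P hu) hd
      rho := by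
        intro u hu
        rw [← hρ, mem_cj]
        have e : (a * (w * a * w⁻¹))⁻¹ * (a * (w * a * w⁻¹) * u * (a * (w * a * w⁻¹))⁻¹) *
          (a * (w * a * w⁻¹)) = u := by group
        rwa [e] }

end Cfg

end Cfsg.Agent.Omega.NOThreeL.ATwo

end

-- merged: Cfsg.Agent.Mrg.Omega.NOThreeL.ATwo.Comp
section

/-!
# NO-3L A2, `q = 2` (text #14933 (2), (3), helper850): the components of `Y = C_U(V)`

`h : Cfg M z U`. `Up M u b` : `u` acts on `V` as `up (b i)` on the `i`-th factor.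

* `Comps` : the data `a b U'` of the pair and its consequences;
* `Comps.idem`, `Comps.orth` : `pi u` is idempotent for `u ∈ U`, `pi u (pi v y) = 1` for `u`, `v` with disjoint supports;
* `Comps.val` : for `y ∈ Y`, `pi (u i) y = y`, and `u ∈ U` acting as `up b`: `pi u y = y` if `b i = 1`, `1` if `b i = 0`;
* `Comps.gen` : a subgroup containing all components `pi (u i) y` of `y ∈ Y` contains `y`.
-/

set_option autoImplicit false
set_option Elab.async false

namespace Cfsg.Agent.Omega.NOThreeL.ATwo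

open Subgroup Cfsg Cfsg.Agent.ZN Cfsg.Agent.ZN.ChoiceBase
open Cfsg.Agent.Omega.MinPar Cfsg.Agent.Omega.FFThm
open Cfsg.Agent.MinSimple.VModule (le_normalizer_zl)
open Cfsg.Agent.Lib.SL2Mat
open Cfsg.Agent.Omega.NatPair (ap ap_mul ap_one ap_inv_ap ap_ap_inv exists_ap ap_add)
open Cfsg.Agent.Omega.IId (Ind cj_mem cj_mem' e_inj acts_mul acts_inv acts_one sg sg_spec e_one e_inv)

universe u

variable {G : Type u} [Group G] {F : Type} [Field F] {S P : Subgroup G} {k : ℕ}

/-- `u` acts on `V` as `up (b i)` on the `i`-th factor. -/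
def Up (M : NatK F S P (zl S P) ⊥ k) (u : G) (b : Fin k → F) : Prop :=
  ActsSL M.e (zl S P) ⊥ u fun i => up (b i)

/-- The pair of `U` and its opposite. -/
structure Comps (M : NatK F S P (zl S P) ⊥ k) (z : G) (U U' : Subgroup G) (a b : G) : Prop extends
    Cfg M z U where
  co : Co U U' (centralizer (zl S P : Set G)) a b
  aP : a ∈ P
  bP : b ∈ P
  UP' : U' ≤ P
  aA : ActsSL M.e (zl S P) ⊥ a fun _ => up 1
  bA : ActsSL M.e (zl S P) ⊥ b fun _ => lo 1

theorem Cfg.exists_comps [CharP F 2] {M : NatK F S P (zl S P) ⊥ k} {z : G} {U : Subgroup G} (h : Cfg M z U) :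
    ∃ (a b : G) (U' : Subgroup G), Comps M z U U' a b := by
  obtain ⟨a, b, U', h1, h2, h3, h4, h5, h6⟩ := h.exists_co
  exact ⟨a, b, U', ⟨h, h1, h2, h3, h4, h5, h6⟩⟩

variable {M : NatK F S P (zl S P) ⊥ k}

theorem Up.mul {u v : G} {b c : Fin k → F} (hv : v ∈ P) (h1 : Up M u b) (h2 : Up M v c) :
    Up M (u * v) (b + c) := by
  have h3 := acts_mul hv h1 h2
  have e : ((fun i => up (b i)) * (fun i => up (c i)) : Fin k → Matrix.SpecialLinearGroup (Fin 2) F) =
      fun i => up ((b + c) i) := by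
    funext i
    rw [Pi.mul_apply, up_mul, Pi.add_apply]
  rw [e] at h3
  exact h3

theorem Up.inv {u : G} {b : Fin k → F} (hu : u ∈ P) (h1 : Up M u b) : Up M u⁻¹ (-b) := by
  have h3 := acts_inv hu h1
  have e : ((fun i => up (b i))⁻¹ : Fin k → Matrix.SpecialLinearGroup (Fin 2) F) =
      fun i => up ((-b) i) := by
    funext i
    rw [Pi.inv_apply, up_inv, Pi.neg_apply]
  rw [e] at h3
  exact h3

theorem Up.congr {u v : G} {b : Fin k → F} (hu : u ∈ P) (hv : v ∈ P) (h1 : Up M u b) (h2 : Up M v b) :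
    u * v⁻¹ ∈ centralizer (zl S P : Set G) := mem_cent_of_eq hu hv h1 h2

theorem Up.cent {u : G} (hu : u ∈ P) (h1 : Up M u 0) : u ∈ centralizer (zl S P : Set G) := by
  refine mem_cent_of_acts (M := M) hu ?_
  have e : (fun i => up ((0 : Fin k → F) i)) = (1 : Fin k → Matrix.SpecialLinearGroup (Fin 2) F) := by
    funext i
    rw [Pi.zero_apply, up_zero, Pi.one_apply]
  have h2 : ActsSL M.e (zl S P) ⊥ u fun i => up ((0 : Fin k → F) i) := h1
  rwa [e] at h2

/-- the coordinates `b` are determined by `u` -/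
theorem Up.eq {u : G} {b c : Fin k → F} (h1 : Up M u b) (h2 : Up M u c) : b = c := by
  obtain ⟨v, hv, he⟩ := M.surj fun _ => ![0, 1]
  funext i
  have e1 := h1.1 v hv i
  rw [h2.1 v hv i, he] at e1
  have e2 := congrFun e1 0
  rw [NatPair.ap_zero', NatPair.ap_zero'] at e2
  simp at e2
  exact e2.symm

theorem up_of_cent {u : G} (hu : u ∈ centralizer (zl S P : Set G)) : Up M u 0 := by
  refine ⟨fun v hv i => ?_, fun d hd => ?_⟩
  · have h1 := mem_centralizer_iff.1 hu v hv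
    have h2 : u * v * u⁻¹ = v := by rw [← h1]; group
    rw [h2]
    change _ = ap (up 0) _
    rw [up_zero, ap_one]
  · rw [mem_bot] at hd
    rw [hd]
    group

namespace Comps

variable [CharP F 2] {z a b : G} {U U' : Subgroup G} (h : Comps M z U U' a b)
include h

theorem rhoP : a * b ∈ P := mul_mem h.aP h.bP

theorem rho_acts : ActsSL M.e (zl S P) ⊥ (a * b) fun _ => up 1 * lo 1 := by
  have := acts_mul h.bP h.aA h.bA
  exact this

/-- `v^ρ` acts as `lo c` if `v` acts as `up c`. -/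
theorem rho_lo {v : G} {c : Fin k → F} (hv : v ∈ P) (hc : Up M v c) :
    ActsSL M.e (zl S P) ⊥ (a * b * v * (a * b)⁻¹) fun i => lo (c i) := by
  have h1 := acts_conj h.rhoP hv h.rho_acts hc
  have e : ((fun _ => up 1 * lo 1) * (fun i => up (c i)) * (fun _ => up 1 * lo 1)⁻¹ :
      Fin k → Matrix.SpecialLinearGroup (Fin 2) F) = fun i => lo (c i) := by
    funext i
    rw [Pi.mul_apply, Pi.mul_apply, Pi.inv_apply, rho_up]
  rwa [e] at h1

/-- `[u, v^ρ] ∈ C_G(V)` for disjoint supports. -/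
theorem disj {u v : G} {β γ : Fin k → F} (hu : u ∈ P) (hv : v ∈ P) (h1 : Up M u β) (h2 : Up M v γ)
    (hd : ∀ i, β i = 0 ∨ γ i = 0) :
    u * (a * b * v * (a * b)⁻¹) * u⁻¹ * (a * b * v * (a * b)⁻¹)⁻¹ ∈ centralizer (zl S P : Set G) := by
  have h3 := h.rho_lo hv h2
  have hv' : a * b * v * (a * b)⁻¹ ∈ P := mul_mem (mul_mem h.rhoP hv) (inv_mem h.rhoP)
  refine mem_cent_of_acts (M := M) (mul_mem (mul_mem (mul_mem hu hv') (inv_mem hu)) (inv_mem hv')) ?_
  have h4 := acts_mul (inv_mem hv') (acts_mul (inv_mem hu) (acts_mul hv' h1 h3) (acts_inv hu h1))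
    (acts_inv hv' h3)
  have e : ((fun i => up (β i)) * (fun i => lo (γ i)) * (fun i => up (β i))⁻¹ * (fun i => lo (γ i))⁻¹ :
      Fin k → Matrix.SpecialLinearGroup (Fin 2) F) = 1 := by
    funext i
    rw [Pi.mul_apply, Pi.mul_apply, Pi.mul_apply, Pi.inv_apply, Pi.inv_apply, Pi.one_apply]
    rcases hd i with h0 | h0
    · rw [h0, up_zero]; group
    · rw [h0, lo_zero]; group
  rwa [e] at h4

theorem idem {u y : G} (hu : u ∈ U) (hy : y ∈ U) (hyD : y ∈ centralizer (zl S P : Set G)) :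
    pi a b u (pi a b u y) = pi a b u y := by
  obtain ⟨β, hβ⟩ := h.exists_b hu
  obtain ⟨v, hv, hvA⟩ := h.exists_up (1 + β)
  have h2 : (1 : F) + 1 = 0 := CharTwo.add_self_eq_zero 1
  have hd : ∀ i, β i = 0 ∨ (1 + β) i = 0 := by
    intro i
    rcases h.two (β i) with h0 | h0
    · exact Or.inl h0
    · right
      rw [Pi.add_apply, Pi.one_apply, h0, h2]
  have hd' : ∀ i, (1 + β) i = 0 ∨ β i = 0 := fun i => (hd i).symm
  refine h.co.idem hu hv (h.disj (h.UP hu) (h.UP hv) hβ hvA hd) (h.disj (h.UP hv) (h.UP hu) hvA hβ hd') ?_ hy hyD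
  refine Up.congr (M := M) (b := β + (1 + β)) (mul_mem (h.UP hu) (h.UP hv)) h.aP (Up.mul (h.UP hv) hβ hvA) ?_
  have e : β + (1 + β) = 1 := by
    funext i
    rw [Pi.add_apply, Pi.add_apply, Pi.one_apply]
    linear_combination (β i) * h2
  rw [e]
  exact h.aA

theorem orth {u v y : G} {β γ : Fin k → F} (hu : u ∈ U) (hv : v ∈ U) (h1 : Up M u β) (h2 : Up M v γ)
    (hd : ∀ i, β i = 0 ∨ γ i = 0) (hy : y ∈ U) (hyD : y ∈ centralizer (zl S P : Set G)) :
    pi a b u (pi a b v y) = 1 :=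
  h.co.orth hu hv (h.disj (h.UP hu) (h.UP hv) h1 h2 hd) (fun _ hx hxD => h.idem hu hx hxD)
    (fun _ hx hxD => h.idem hv hx hxD) (fun _ hx hxD => h.idem (mul_mem hu hv) hx hxD) hy hyD

open Classical in
/-- **(3)** the value of `pi u` on a component. -/
theorem val {u v y : G} {β : Fin k → F} {i : Fin k} (hu : u ∈ U) (hv : v ∈ U) (h1 : Up M u β)
    (h2 : Up M v (Pi.single i 1)) (hy : y ∈ U) (hyD : y ∈ centralizer (zl S P : Set G))
    (he : pi a b v y = y) : pi a b u y = if β i = 0 then 1 else y := by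
  have key : ∀ {u : G} {β : Fin k → F}, u ∈ U → Up M u β → β i = 0 → pi a b u y = 1 := by
    intro u β hu h1 h0
    have h3 := h.orth hu hv h1 h2 (fun j => ?_) hy hyD
    · rwa [he] at h3
    · by_cases hj : j = i
      · rw [hj]; exact Or.inl h0
      · right
        rw [Pi.single_eq_of_ne hj]
  split_ifs with h0
  · exact key hu h1 h0
  · have h3 : β i = 1 := (h.two _).resolve_left h0
    have h4 := key (mul_mem hu hv) (Up.mul (h.UP hv) h1 h2) (by
      rw [Pi.add_apply, Pi.single_eq_same, h3]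
      exact CharTwo.add_self_eq_zero 1)
    rw [h.co.mul_pi hu hv hyD, he] at h4
    have h5 : pi a b u y = y⁻¹ := mul_eq_one_iff_eq_inv.1 h4
    rw [h5, h.co.sq' hy]

open Classical in
/-- Every `y ∈ Y` is the product of its components. -/
theorem gen {y : G} (hy : y ∈ U) (hyD : y ∈ centralizer (zl S P : Set G)) {R : Subgroup G}
    (hR : ∀ (i : Fin k), ∀ v ∈ U, Up M v (Pi.single i 1) → pi a b v y ∈ R) : y ∈ R := by
  have key : ∀ (I : Finset (Fin k)) (u : G) (β : Fin k → F), u ∈ U → Up M u β → (∀ i, i ∉ I → β i = 0) →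
      pi a b u y ∈ R := by
    intro I
    induction I using Finset.induction_on with
    | empty =>
      intro u β hu hβ h0
      have e : β = 0 := funext fun i => h0 i (Finset.notMem_empty i)
      rw [e] at hβ
      rw [h.co.pi_eq_one hu (Up.cent (h.UP hu) hβ) hy hyD]
      exact one_mem _
    | insert i I hi ih =>
      intro u β hu hβ h0
      rcases h.two (β i) with h3 | h3
      · refine ih u β hu hβ fun j hj => ?_
        by_cases hji : j = i
        · rw [hji, h3]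
        · exact h0 j fun h4 => (Finset.mem_insert.1 h4).elim hji hj
      · obtain ⟨v, hv, hvA⟩ := h.exists_up (Pi.single i 1)
        have h4 := ih (u * v) _ (mul_mem hu hv) (Up.mul (h.UP hv) hβ hvA) fun j hj => by
          by_cases hji : j = i
          · rw [hji, Pi.add_apply, Pi.single_eq_same, h3]
            exact CharTwo.add_self_eq_zero 1
          · rw [Pi.add_apply, Pi.single_eq_of_ne hji, add_zero]
            exact h0 j fun h4 => (Finset.mem_insert.1 h4).elim hji hj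
        rw [h.co.mul_pi hu hv hyD] at h4
        have h5 := mul_mem h4 (inv_mem (hR i v hv hvA))
        rwa [mul_inv_cancel_right] at h5
  have h1 := key Finset.univ a 1 h.co.aU h.aA fun i hi => (hi (Finset.mem_univ i)).elim
  rwa [h.co.pi_a hy hyD] at h1

end Comps

end Cfsg.Agent.Omega.NOThreeL.ATwo

end
end

-- part: Mrg/Omega/NOThreeL/RStr/Act
section
prune_inst 0x100c001422000000180000e0001c42b2000000000800012040000005c00c40a0458021b02001000010045428300068135c0010422800000a000800011d0481002000029008a000200000800000000000000000000000000000000000000000200000000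
set_option linter.all false
open scoped Cfsg.Agent.FastGrp


/-!
# NO-3L, box R, (A): `U_H` acts on `V_P / D = natural^k` as upper unitriangular matrices, all `q`, all `D`

`M : NatK F S P (zl S P) D k`, `V = zl S P ≤ S`; `U ≤ S` is elementary abelian and normal in `S`
(`AFour.Quad S P U`). The arguments of `AFour.Act` (`D = 1`) are in coordinates and hold for all `D`.

* `sg_eq` : `U` normalises every factor;
* `exists_up` : every `u ∈ U` acts on the coordinates as `fun i => up (b i)`.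
-/

set_option autoImplicit false
set_option Elab.async false

namespace Cfsg.Agent.Omega.NOThreeL.RStr

open Subgroup Cfsg Cfsg.Agent.ZN Cfsg.Agent.ZN.ChoiceBase
open Cfsg.Agent.Omega.MinPar Cfsg.Agent.Omega.FFThm
open Cfsg.Agent.MinSimple.VModule (le_normalizer_zl)
open Cfsg.Agent.Lib.SL2Mat
open Cfsg.Agent.Omega.NatPair (ap ap_mul ap_one ap_inv_ap exists_ap ap_add)
open Cfsg.Agent.Omega.IId (cj_mem cj_mem')
open Cfsg.Agent.Omega.NOThreeL.AFour (Quad)

universe u

variable {G : Type u} [Group G] {F : Type} [Field F] {S P D : Subgroup G} {k : ℕ}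

section basic

variable (M : NatK F S P (zl S P) D k)

include M in
theorem e_one : M.e 1 = 0 := by
  have := M.mul 1 (one_mem _) 1 (one_mem _)
  rw [mul_one] at this
  exact left_eq_add.1 this

theorem e_inv {v : G} (hv : v ∈ zl S P) : M.e v⁻¹ = - M.e v := by
  have := M.mul v⁻¹ (inv_mem hv) v hv
  rw [inv_mul_cancel, e_one] at this
  exact eq_neg_of_add_eq_zero_left this.symm

/-- `v` lies in the `i`-th factor (times `D`) -/
def InFac (i : Fin k) (v : G) : Prop := v ∈ zl S P ∧ ∀ j, j ≠ i → M.e v j = 0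

open Classical in
theorem exists_fac (i : Fin k) (x : Fin 2 → F) : ∃ v, InFac M i v ∧ M.e v i = x := by
  obtain ⟨v, hv, h⟩ := M.surj (Pi.single i x)
  exact ⟨v, ⟨hv, fun j hj => by rw [h, Pi.single_eq_of_ne hj]⟩, by rw [h, Pi.single_eq_same]⟩

/-- The permutation of the factors induced by `g ∈ P`. -/
noncomputable def sg {g : G} (hg : g ∈ P) : Equiv.Perm (Fin k) := (M.perm g hg).choose

theorem sg_spec {g : G} (hg : g ∈ P) {v : G} (hv : v ∈ zl S P) (i : Fin k) :
    M.e (g * v * g⁻¹) (sg M hg i) = 0 ↔ M.e v i = 0 := (M.perm g hg).choose_spec v hv i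

/-- An element of `S` maps the line of the factor `i` to the line of its image. -/
theorem e_conj_line (hSP : S ≤ P) {s : G} (hs : s ∈ S) {v : G} (hv : v ∈ zl S P) (i : Fin k) :
    M.e (s * v * s⁻¹) (sg M (hSP hs) i) 1 = 0 ↔ M.e v i 1 = 0 := by
  obtain ⟨τ, hτ⟩ := M.line s hs
  have h1 : τ i = sg M (hSP hs) i := by
    by_contra hne
    obtain ⟨w, hw, hwe⟩ := exists_fac M i ![0, 1]
    obtain ⟨j, hj⟩ := (sg M (hSP hs)).surjective (τ i)
    have hji : j ≠ i := by
      rintro rfl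
      exact hne hj.symm
    have h4 : M.e (s * w * s⁻¹) (τ i) 1 = 0 := by
      have h5 := (sg_spec M (hSP hs) hw.1 j).2 (hw.2 j hji)
      rw [hj] at h5
      rw [h5]; rfl
    have h5 := (hτ w hw.1 i).1 h4
    rw [hwe] at h5
    simp at h5
  rw [← h1]
  exact hτ v hv i

theorem acts_inv {g : G} (hg : g ∈ P) {A : Fin k → Matrix.SpecialLinearGroup (Fin 2) F}
    (h1 : ∀ v ∈ zl S P, ∀ i, M.e (g * v * g⁻¹) i = ap (A i) (M.e v i)) :
    ∀ v ∈ zl S P, ∀ i, M.e (g⁻¹ * v * g⁻¹⁻¹) i = ap (A⁻¹ i) (M.e v i) := by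
  intro v hv i
  have h2 := h1 _ (cj_mem (inv_mem hg) hv) i
  have e : g * (g⁻¹ * v * g⁻¹⁻¹) * g⁻¹ = v := by group
  rw [e] at h2
  rw [h2, Pi.inv_apply, ap_inv_ap]

end basic

section main

variable {U : Subgroup G} (h : Quad S P U)
include h

variable (M : NatK F S P (zl S P) D k)

/-- **`U` normalises the factors.** -/
theorem sg_eq {u : G} (hu : u ∈ U) (i : Fin k) : sg M (h.UP hu) i = i := by
  have huP := h.UP hu
  by_contra hne
  obtain ⟨t, ht, htA⟩ := M.unip (Pi.single i 1)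
  have htP := h.SP ht
  obtain ⟨n, hn, hne1⟩ := exists_fac M i ![0, 1]
  have hnV := hn.1
  set c := u * n * u⁻¹ * n⁻¹ with hc
  have hcU : c ∈ U := h.cm_mem hu (h.VS hnV)
  have hcV : c ∈ zl S P := mul_mem (cj_mem huP hnV) (inv_mem hnV)
  set w := u * t * u⁻¹ * t⁻¹ with hw
  have hwU : w ∈ U := h.cm_mem hu ht
  have hwc := h.ab w hwU c hcU
  have key : u * (t⁻¹ * (u⁻¹ * c * u) * t) * u⁻¹ = t⁻¹ * c * t := by
    have e1 : w⁻¹ * c * w = c := by
      calc w⁻¹ * c * w = w⁻¹ * (c * w) := by group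
        _ = w⁻¹ * (w * c) := by rw [hwc]
        _ = c := by group
    calc u * (t⁻¹ * (u⁻¹ * c * u) * t) * u⁻¹ = t⁻¹ * (w⁻¹ * c * w) * t := by rw [hw]; group
      _ = t⁻¹ * c * t := by rw [e1]
  -- coordinates
  have e0 : M.e (u * n * u⁻¹) i = 0 := by
    obtain ⟨j, hj⟩ := (sg M huP).surjective i
    have h1 := (sg_spec M huP hnV j).2 (by
      refine hn.2 j fun h2 => hne ?_
      rw [← h2]
      rw [← h2] at hj
      exact hj)
    rwa [hj] at h1
  have ec : M.e c i = ![0, -1] := by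
    rw [hc, M.mul _ (cj_mem huP hnV) _ (inv_mem hnV), Pi.add_apply, e0, e_inv M hnV, Pi.neg_apply, hne1]
    apply NatPair.ext2 <;> simp
  have hd : u⁻¹ * c * u ∈ zl S P := cj_mem' huP hcV
  have hx : t⁻¹ * (u⁻¹ * c * u) * t ∈ zl S P := cj_mem' htP hd
  have htA' := acts_inv M htP htA.1
  -- right side
  have er : M.e (t⁻¹ * c * t) i = ![1, -1] := by
    have h1 := htA' c hcV i
    rw [inv_inv] at h1
    rw [h1, ec, Pi.inv_apply, Pi.single_eq_same, up_inv]
    apply NatPair.ext2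
    · rw [NatPair.ap_zero']
      simp
    · rw [NatPair.ap_one']
      simp
  -- left side
  have el : M.e (u * (t⁻¹ * (u⁻¹ * c * u) * t) * u⁻¹) i = ![0, -1] := by
    obtain ⟨j, hj⟩ := (sg M huP).surjective i
    have hji : j ≠ i := by
      rintro rfl
      exact hne hj
    have h1 : M.e (t⁻¹ * (u⁻¹ * c * u) * t * (u⁻¹ * c * u)⁻¹) j = 0 := by
      have h2 := htA' _ hd j
      rw [inv_inv] at h2
      rw [M.mul _ hx _ (inv_mem hd), Pi.add_apply, h2, Pi.inv_apply, Pi.single_eq_of_ne hji, up_zero, inv_one,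
        ap_one, e_inv M hd, Pi.neg_apply, add_neg_cancel]
    have h2 := (sg_spec M huP (mul_mem hx (inv_mem hd)) j).2 h1
    rw [hj] at h2
    have e : u * (t⁻¹ * (u⁻¹ * c * u) * t * (u⁻¹ * c * u)⁻¹) * u⁻¹ =
      u * (t⁻¹ * (u⁻¹ * c * u) * t) * u⁻¹ * c⁻¹ := by group
    rw [e, M.mul _ (cj_mem huP hx) _ (inv_mem hcV), Pi.add_apply, e_inv M hcV, Pi.neg_apply, ec] at h2
    have h3 := eq_neg_of_add_eq_zero_left h2
    rw [h3, neg_neg]
  rw [key, er] at el
  have := congrFun el 0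
  simp at this

/-- The `i`-th coordinate of `v ^ u` depends only on the `i`-th coordinate of `v`. -/
theorem loc {u : G} (hu : u ∈ U) (i : Fin k) {v w : G} (hv : v ∈ zl S P) (hw : w ∈ zl S P)
    (he : M.e v i = M.e w i) : M.e (u * v * u⁻¹) i = M.e (u * w * u⁻¹) i := by
  have huP := h.UP hu
  have h1 : M.e (v * w⁻¹) i = 0 := by
    rw [M.mul v hv _ (inv_mem hw), Pi.add_apply, e_inv M hw, Pi.neg_apply, he, add_neg_cancel]
  have h2 := (sg_spec M huP (mul_mem hv (inv_mem hw)) i).2 h1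
  rw [sg_eq h M hu i] at h2
  have e : u * (v * w⁻¹) * u⁻¹ = (u * v * u⁻¹) * (u * w * u⁻¹)⁻¹ := by group
  rw [e, M.mul _ (cj_mem huP hv) _ (inv_mem (cj_mem huP hw)), Pi.add_apply, e_inv M (cj_mem huP hw),
    Pi.neg_apply] at h2
  have h3 := eq_neg_of_add_eq_zero_left h2
  rw [h3, neg_neg]

theorem e_mul {u : G} (hu : u ∈ U) (i : Fin k) {v w : G} (hv : v ∈ zl S P) (hw : w ∈ zl S P) :
    M.e (u * (v * w) * u⁻¹) i = M.e (u * v * u⁻¹) i + M.e (u * w * u⁻¹) i := by
  have huP := h.UP hu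
  have e : u * (v * w) * u⁻¹ = (u * v * u⁻¹) * (u * w * u⁻¹) := by group
  rw [e, M.mul _ (cj_mem huP hv) _ (cj_mem huP hw), Pi.add_apply]

/-- The conjugate of `lo 1` under `u`. -/
theorem exists_B {u : G} (hu : u ∈ U) : ∃ B : Fin k → Matrix.SpecialLinearGroup (Fin 2) F, ∀ v ∈ zl S P,
    ∀ w ∈ zl S P, ∀ i, M.e w i = ap (lo 1) (M.e v i) →
      M.e (u * w * u⁻¹) i = ap (B i) (M.e (u * v * u⁻¹) i) := by
  have huP := h.UP hu
  obtain ⟨g, hg, hgA⟩ := M.lift fun _ => lo 1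
  obtain ⟨B, hB⟩ := M.norm u huP g hg _ hgA.1
  refine ⟨B, fun v hv w hw i he => ?_⟩
  have h1 := hB _ (cj_mem huP hv) i
  have e : u * g * u⁻¹ * (u * v * u⁻¹) * (u * g * u⁻¹)⁻¹ = u * (g * v * g⁻¹) * u⁻¹ := by group
  rw [e] at h1
  rw [← h1]
  refine loc h M hu i hw (cj_mem hg hv) ?_
  rw [he, hgA.1 v hv i]

variable [CharP F 2]

/-- `u` centralises the lines. -/
theorem line_fix {u : G} (hu : u ∈ U) (i : Fin k) {r : G} (hr : r ∈ zl S P) {x : F} (hx : M.e r i = ![x, 0]) :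
    M.e (u * r * u⁻¹) i = ![x, 0] := by
  have huP := h.UP hu
  -- the second coordinate
  have hline : ∀ v ∈ zl S P, M.e v i 1 = 0 → M.e (u * v * u⁻¹) i 1 = 0 := by
    intro v hv h0
    have h1 := (e_conj_line M h.SP (h.US hu) hv i).2 h0
    rwa [sg_eq h M hu i] at h1
  by_cases hD : ∀ v ∈ zl S P, M.e (u * v * u⁻¹) i 1 = M.e v i 1
  · -- trivial on `V / line`
    obtain ⟨B, hB⟩ := exists_B h M hu
    have key : ∀ y : F, ∀ v ∈ zl S P, M.e v i = ![y, 0] →
        ent (B i) 1 0 * M.e (u * v * u⁻¹) i 0 = y := by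
      intro y v hv he
      obtain ⟨w, hw, hwe⟩ := exists_fac M i ![y, y]
      have h1 := hB v hv w hw.1 i (by
        rw [hwe, he]
        apply NatPair.ext2
        · rw [NatPair.ap_zero']; simp
        · rw [NatPair.ap_one']; simp)
      have h2 := congrFun h1 1
      rw [NatPair.ap_one', hD w hw.1, hwe, hline v hv (by rw [he]; rfl), mul_zero, add_zero] at h2
      rw [← h2]
      rfl
    set b := ent (B i) 1 0 with hb
    have hb0 : b ≠ 0 := by
      obtain ⟨v, hv, he⟩ := exists_fac M i ![(1 : F), 0]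
      intro h0
      have h1 := key 1 v hv.1 he
      rw [h0, zero_mul] at h1
      exact zero_ne_one h1
    have key2 : ∀ y : F, ∀ v ∈ zl S P, M.e v i = ![y, 0] → M.e (u * v * u⁻¹) i = ![b⁻¹ * y, 0] := by
      intro y v hv he
      apply NatPair.ext2
      · change _ = b⁻¹ * y
        rw [← key y v hv he]
        field_simp
      · exact hline v hv (by rw [he]; rfl)
    have hb1 : b = 1 := by
      obtain ⟨v, hv, he⟩ := exists_fac M i ![(1 : F), 0]
      have h1 := key2 1 v hv.1 he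
      have h2 := key2 _ _ (cj_mem huP hv.1) h1
      rw [h.invol hu, he] at h2
      have h3 := congrFun h2 0
      change (1 : F) = b⁻¹ * (b⁻¹ * 1) at h3
      have h4 : b * b = 1 := by
        field_simp at h3
        rw [← pow_two]
        exact h3
      have h5 : (b + 1) * (b + 1) = 0 := by
        have : (2 : F) = 0 := CharTwo.two_eq_zero
        linear_combination h4 + (b + 1) * this
      rcases mul_self_eq_zero.1 h5 with h6
      have h7 : b = -1 := eq_neg_of_add_eq_zero_left h6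
      rw [h7, CharTwo.neg_eq]
    rw [key2 x r hr hx, hb1, inv_one, one_mul]
  · push Not at hD
    obtain ⟨v, hv, hne⟩ := hD
    set c := u * v * u⁻¹ * v⁻¹ with hc
    have hcU : c ∈ U := h.cm_mem hu (h.VS hv)
    have hcV : c ∈ zl S P := mul_mem (cj_mem huP hv) (inv_mem hv)
    have hc1 : M.e c i 1 ≠ 0 := by
      rw [hc, M.mul _ (cj_mem huP hv) _ (inv_mem hv), Pi.add_apply, Pi.add_apply, e_inv M hv, Pi.neg_apply,
        Pi.neg_apply]
      intro h0
      exact hne (eq_neg_of_add_eq_zero_left h0 |>.trans (neg_neg _))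
    -- an element of `U` with the `i`-th coordinate `![x, 0]`
    obtain ⟨t, ht, htA⟩ := M.unip (Pi.single i (x / M.e c i 1))
    have htP := h.SP ht
    have hdU := h.cm_mem' hcU ht
    have hdV : t * c * t⁻¹ * c⁻¹ ∈ zl S P := mul_mem (cj_mem htP hcV) (inv_mem hcV)
    have hde : M.e (t * c * t⁻¹ * c⁻¹) i = ![x, 0] := by
      rw [M.mul _ (cj_mem htP hcV) _ (inv_mem hcV), Pi.add_apply, htA.1 c hcV i, e_inv M hcV, Pi.neg_apply]
      change ap (up ((Pi.single i (x / M.e c i 1) : Fin k → F) i)) (M.e c i) + -M.e c i = ![x, 0]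
      rw [Pi.single_eq_same]
      apply NatPair.ext2
      · rw [Pi.add_apply, NatPair.ap_zero']
        simp only [up_00, up_01, Pi.neg_apply]
        change _ = x
        field_simp
        ring
      · rw [Pi.add_apply, NatPair.ap_one']
        simp only [up_10, up_11, Pi.neg_apply]
        change _ = (0 : F)
        ring
    rw [loc h M hu i hr hdV (by rw [hx, hde])]
    have h2 := h.ab u hu _ hdU
    have e : u * (t * c * t⁻¹ * c⁻¹) * u⁻¹ = t * c * t⁻¹ * c⁻¹ := by rw [h2]; group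
    rw [e, hde]

/-- **Every `u ∈ U` acts as `fun i => up (b i)`.** -/
theorem exists_up {u : G} (hu : u ∈ U) : ∃ b : Fin k → F, ∀ v ∈ zl S P, ∀ i,
    M.e (u * v * u⁻¹) i = ap (up (b i)) (M.e v i) := by
  have huP := h.UP hu
  obtain ⟨B, hB⟩ := exists_B h M hu
  have key : ∀ i, ∀ x : F, ∀ v ∈ zl S P, M.e v i = ![0, x] →
      M.e (u * v * u⁻¹) i = ![(ent (B i) 0 0 - 1) * x, ent (B i) 1 0 * x] := by
    intro i x v hv he
    obtain ⟨r, hr, hre⟩ := exists_fac M i ![x, 0]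
    have h1 := hB r hr.1 (r * v) (mul_mem hr.1 hv) i (by
      rw [M.mul r hr.1 v hv, Pi.add_apply, hre, he]
      apply NatPair.ext2
      · rw [NatPair.ap_zero']; simp
      · rw [NatPair.ap_one']; simp)
    rw [e_mul h M hu i hr.1 hv, line_fix h M hu i hr.1 hre] at h1
    have h2 : M.e (u * v * u⁻¹) i = ap (B i) ![x, 0] - ![x, 0] := by rw [← h1]; abel
    rw [h2]
    apply NatPair.ext2
    · rw [Pi.sub_apply, NatPair.ap_zero']
      change ent (B i) 0 0 * x + ent (B i) 0 1 * 0 - x = (ent (B i) 0 0 - 1) * x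
      ring
    · rw [Pi.sub_apply, NatPair.ap_one']
      change ent (B i) 1 0 * x + ent (B i) 1 1 * 0 - 0 = ent (B i) 1 0 * x
      ring
  have hB1 : ∀ i, ent (B i) 1 0 = 1 := by
    intro i
    set b := ent (B i) 1 0 with hb
    set a := ent (B i) 0 0 - 1 with ha
    obtain ⟨v, hv, he⟩ := exists_fac M i ![0, (1 : F)]
    have h1 := key i 1 v hv.1 he
    rw [← ha, ← hb, mul_one, mul_one] at h1
    obtain ⟨r, hr, hre⟩ := exists_fac M i ![a, 0]
    obtain ⟨s, hs, hse⟩ := exists_fac M i ![0, b]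
    have h2 : M.e (u * (u * v * u⁻¹) * u⁻¹) i = M.e (u * (r * s) * u⁻¹) i := by
      refine loc h M hu i (cj_mem huP hv.1) (mul_mem hr.1 hs.1) ?_
      rw [h1, M.mul r hr.1 s hs.1, Pi.add_apply, hre, hse]
      apply NatPair.ext2
      · simp
      · simp
    rw [h.invol hu, he, e_mul h M hu i hr.1 hs.1, line_fix h M hu i hr.1 hre, key i b s hs.1 hse] at h2
    have h3 := congrFun h2 1
    change (1 : F) = 0 + b * b at h3
    have h5 : (b + 1) * (b + 1) = 0 := by
      have : (2 : F) = 0 := CharTwo.two_eq_zero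
      linear_combination -h3 + (b + 1) * this
    have h7 : b = -1 := eq_neg_of_add_eq_zero_left (mul_self_eq_zero.1 h5)
    rw [h7, CharTwo.neg_eq]
  refine ⟨fun i => ent (B i) 0 0 - 1, fun v hv i => ?_⟩
  · obtain ⟨r, hr, hre⟩ := exists_fac M i ![M.e v i 0, 0]
    obtain ⟨s, hs, hse⟩ := exists_fac M i ![0, M.e v i 1]
    have h1 : M.e (u * v * u⁻¹) i = M.e (u * (r * s) * u⁻¹) i := by
      refine loc h M hu i hv (mul_mem hr.1 hs.1) ?_
      rw [M.mul r hr.1 s hs.1, Pi.add_apply, hre, hse]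
      apply NatPair.ext2
      · simp
      · simp
    rw [h1, e_mul h M hu i hr.1 hs.1, line_fix h M hu i hr.1 hre, key i _ s hs.1 hse, hB1 i]
    apply NatPair.ext2
    · rw [Pi.add_apply, NatPair.ap_zero']
      simp only [up_00, up_01]
      change M.e v i 0 + (ent (B i) 0 0 - 1) * M.e v i 1 = _
      ring
    · rw [Pi.add_apply, NatPair.ap_one']
      simp only [up_10, up_11]
      change 0 + 1 * M.e v i 1 = _
      ring

end main

end Cfsg.Agent.Omega.NOThreeL.RStr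
end

-- part: Mrg/Omega/NO3b/K0/Main
section
set_option linter.all false
open scoped Cfsg.Agent.FastGrp


/-!
# THEOREM K0, part 6: the theorem

`Base.absurd` : `Base V F T X L Q0`, `NoOv X`, `FullOff T X` and `C_U(T) ≤ C(O²(X))` are contradictory.
-/

set_option autoImplicit false

namespace Cfsg.Agent.Omega.NO3b.K0

open Subgroup Cfsg Cfsg.Agent.ZN Cfsg.Agent.ZN.ChoiceBase Cfsg.Agent.ZN.ChoiceSit
open Cfsg.Agent.MinSimple.MinParabolic (IsMinPar)
open Cfsg.Agent.MinSimple.VModule (oddGen oddGen_le mem_oddGen le_normalizer_oddGen oddGen_le_of_sup)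
open Cfsg.Agent.Omega.NO3b.EZero
open scoped commutatorElement

universe u

variable {G : Type u} [Group G] {V F T X L Q0 : Subgroup G}

/-- `[U, E'] ≤ F` passes from `E'` to `⟨E'^X⟩` -/
theorem Base.comm_cl (h : Base V F T X L Q0) {E' : Subgroup G} (hX : E' ≤ X)
    (hE' : ∀ u ∈ cl V X, ∀ e ∈ E', ⁅u, e⁆ ∈ F) : ∀ u ∈ cl V X, ∀ k ∈ cl E' X, ⁅u, k⁆ ∈ F := by
  let K : Subgroup G :=
    { carrier := {k | k ∈ X ∧ ∀ u ∈ cl V X, ⁅u, k⁆ ∈ F}
      one_mem' := ⟨one_mem _, fun u _ => by rw [commutatorElement_one_right]; exact one_mem _⟩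
      mul_mem' := by
        rintro a b ⟨ha, ha'⟩ ⟨hb, hb'⟩
        refine ⟨mul_mem ha hb, fun u hu => ?_⟩
        have e1 : ⁅u, a * b⁆ = ⁅u, a⁆ * (a * ⁅u, b⁆ * a⁻¹) := by
          simp only [commutatorElement_def]; group
        have h1 := mem_centralizer_iff.1 (h.X_le ha) _ (hb' u hu)
        rw [e1, ← h1, mul_inv_cancel_right]
        exact mul_mem (ha' u hu) (hb' u hu)
      inv_mem' := by
        rintro a ⟨ha, ha'⟩
        refine ⟨inv_mem ha, fun u hu => ?_⟩
        have e1 : ⁅u, a⁻¹⁆ = a⁻¹ * ⁅u, a⁆⁻¹ * a := by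
          simp only [commutatorElement_def]; group
        have h1 := mem_centralizer_iff.1 (h.X_le (inv_mem ha)) _ (inv_mem (ha' u hu))
        rw [e1, ← h1, mul_assoc, inv_mul_cancel, mul_one]
        exact inv_mem (ha' u hu) }
  have key : cl E' X ≤ K := by
    refine cl_le fun x hx e he => ⟨?_, fun u hu => ?_⟩
    · have h1 := cj_mono x hX he
      rwa [cj_self hx] at h1
    · have h1 := hE' (x⁻¹ * u * x) (by
        have := conj_mem' (le_normalizer_cl V X) (inv_mem hx) hu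
        rwa [inv_inv] at this) _ (mem_cj.1 he)
      have h2 := mem_centralizer_iff.1 (h.X_le hx) _ h1
      have e1 : ⁅u, e⁆ = x * ⁅x⁻¹ * u * x, x⁻¹ * e * x⁆ * x⁻¹ := by
        simp only [commutatorElement_def]; group
      rw [e1, ← h2, mul_inv_cancel_right]
      exact h1
  exact fun u hu k hk => (key hk).2 u hu

namespace Crit

variable {g : G} (c : Crit V X Q0 g) (h : Base V F T X L Q0)
include c h

variable [Finite G]

/-- `[U₀, U^g ∩ Q] = 1` -/
theorem comm_U0 (hX : NoOv X) {u e : G} (hu : u ∈ (⁅cl V X, oddGen X⁆ : Subgroup G))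
    (he : e ∈ cj g (cl V X)) (heQ : e ∈ o2 X) : u * e = e * u := by
  have h1 : cl (cj g (cl V X) ⊓ o2 X) X ≤ o2 X := by
    refine cl_le fun x hx => ?_
    have h2 := cj_mono x (inf_le_right : cj g (cl V X) ⊓ o2 X ≤ o2 X)
    rwa [cj_of_le (ChoiceSit.le_normalizer_o2 X) hx] at h2
  have h2 := h.dual hX h1 (le_normalizer_cl _ _) (h.comm_cl (inf_le_right.trans (ChoiceSit.o2_le X))
    fun u hu e he => c.comm_mem h hu he.1 he.2)
  rw [commutator_eq_bot_iff_le_centralizer] at h2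
  exact (mem_centralizer_iff.1 (h2 hu) e (le_cl _ _ ⟨he, heQ⟩)).symm

/-- **Step 5**: `[U ∩ Q^g, U^g] = 1` -/
theorem comm_E_U (hX : NoOv X) : cl V X ⊓ cj g (o2 X) ≤ centralizer ((cj g (cl V X) : Subgroup G) : Set G) := by
  have h1 : cj g (cl V X) ≤ cj g V ⊔ cj g ⁅cl V X, oddGen X⁆ := by
    have h2 := cj_mono g (h.sit hX).le_sup
    rwa [show cj g (V ⊔ ⁅cl V X, oddGen X⁆) = cj g V ⊔ cj g ⁅cl V X, oddGen X⁆ from
      Subgroup.map_sup _ _ _] at h2
  refine cent_symm (h1.trans (sup_le ?_ ?_))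
  · refine cent_symm ((inf_le_left.trans c.le1).trans (cj_cent h.Q0_cent))
  · intro w hw
    rw [mem_centralizer_iff]
    rintro u ⟨hu1, hu2⟩
    have h3 := c.inv.comm_U0 h hX (mem_cj.1 hw) (e := g⁻¹ * u * g) (by
      rw [mem_cj, inv_inv]
      have e1 : g * (g⁻¹ * u * g) * g⁻¹ = u := by group
      rwa [e1]) (mem_cj.1 hu2)
    calc u * w = g * ((g⁻¹ * u * g) * (g⁻¹ * w * g)) * g⁻¹ := by group
      _ = g * ((g⁻¹ * w * g) * (g⁻¹ * u * g)) * g⁻¹ := by rw [h3]
      _ = w * u := by group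

/-- `|U : C_U(U^g)| = |U : U ∩ Q^g|` -/
theorem index_U (hX : NoOv X) : (centralizer ((cj g (cl V X) : Subgroup G) : Set G)).relIndex (cl V X) =
    (cj g (o2 X)).relIndex (cl V X) := by
  rw [← c.index_eq h, relIndex_eq_one.2 (c.comm_E_U h hX), one_mul]

omit [Finite G] in
theorem sq_U' : ∀ a ∈ cj g (cl V X), a ^ 2 = 1 := by
  intro v hv
  have h1 := h.U_sq _ (mem_cj.1 hv)
  have e : v ^ 2 = g * (g⁻¹ * v * g) ^ 2 * g⁻¹ := by rw [pow_two, pow_two]; group
  rw [e, h1]; group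

omit [Finite G] in
theorem comm_U' : ∀ a ∈ cj g (cl V X), ∀ b ∈ cj g (cl V X), a * b * a⁻¹ * b⁻¹ = 1 := by
  intro a ha b hb
  have e : a * b = b * a := (mem_centralizer_iff.1 (cj_cent (g := g) h.U_comm ha) b hb).symm
  rw [e, mul_inv_cancel_right, mul_inv_cancel]

/-- `|U^g : U^g ∩ Q| ≤ |U₀ : D|` for `[D, U^g] ≤ C(O²(X))` -/
theorem index_le (hX : NoOv X) {D : Subgroup G} (hD : D ≤ ⁅cl V X, oddGen X⁆)
    (hDU : ⁅D, cj g (cl V X)⁆ ≤ ⁅cl V X, oddGen X⁆ ⊓ centralizer (oddGen X : Set G)) :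
    (o2 X).relIndex (cj g (cl V X)) ≤ D.relIndex ⁅cl V X, oddGen X⁆ := by
  have hU0 := Base.U0_le (V := V) (X := X)
  refine hX.gen inf_le_left (hU0.trans h.U_le_X) (fun y hy => h.U_sq y (hU0 hy))
    (hU0.trans (h.U_comm.trans (centralizer_le hU0))) ?_ Base.X_norm_U0 ?_ (c.le_X h)
    (fun a ha => by rw [c.sq_U' h a ha]; exact one_mem _)
    (fun a ha b hb => by rw [c.comm_U' h a ha b hb]; exact one_mem _) hD hDU
  · exact CTwo.Sit.norm_inf_cent Base.X_norm_U0 (le_normalizer_oddGen X)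
  · rw [h.U0_comm]
    intro h0
    apply h.U_not_cent
    refine NO3S.NotFF.le_centralizer_of_commutator (oddGen_oddGen X) h.isPGroup_U
      ((oddGen_le X).trans (le_normalizer_cl V X)) (h0.trans inf_le_right)

theorem index_le' (hX : NoOv X) : (o2 X).relIndex (cj g (cl V X)) ≤
    (centralizer ((cj g (cl V X) : Subgroup G) : Set G)).relIndex ⁅cl V X, oddGen X⁆ := by
  have h1 := c.index_le h hX (D := centralizer ((cj g (cl V X) : Subgroup G) : Set G) ⊓ ⁅cl V X, oddGen X⁆)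
    inf_le_right (by
      have h2 : (⁅centralizer ((cj g (cl V X) : Subgroup G) : Set G) ⊓ ⁅cl V X, oddGen X⁆,
          cj g (cl V X)⁆ : Subgroup G) = ⊥ :=
        commutator_eq_bot_iff_le_centralizer.2 inf_le_left
      rw [h2]; exact bot_le)
  rwa [inf_relIndex_right] at h1

/-- `|U^g : U^g ∩ Q| = |U₀ : C_{U₀}(U^g)|` -/
theorem index (hX : NoOv X) : (o2 X).relIndex (cj g (cl V X)) =
    (centralizer ((cj g (cl V X) : Subgroup G) : Set G)).relIndex ⁅cl V X, oddGen X⁆ := by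
  have key : ∀ g, Crit V X Q0 g → (centralizer ((cj g (cl V X) : Subgroup G) : Set G)).relIndex
      ⁅cl V X, oddGen X⁆ ≤ (cj g (o2 X)).relIndex (cl V X) := by
    intro g c
    rw [← c.index_U h hX]
    exact relIndex_le_of_le_right (Base.U0_le (V := V) (X := X)) index_ne_zero_of_finite
  have h1 := c.index_le' h hX
  have h2 := key g c
  have h3 := c.inv.index_le' h hX
  have h4 := key g⁻¹ c.inv
  have e1 : (o2 X).relIndex (cj g⁻¹ (cl V X)) = (cj g (o2 X)).relIndex (cl V X) := by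
    rw [← relIndex_cj g, cj_cj_inv]
  have e2 : (cj g⁻¹ (o2 X)).relIndex (cl V X) = (o2 X).relIndex (cj g (cl V X)) := by
    rw [← relIndex_cj g, cj_cj_inv]
  rw [e1] at h3
  rw [e2] at h4
  omega

/-- `C_{U₀}(U^g)` is the full preimage of `C_{U₀ / C}(U^g)`, `C = C_{U₀}(O²(X))` -/
theorem full (hX : NoOv X) {y : G} (hy : y ∈ (⁅cl V X, oddGen X⁆ : Subgroup G))
    (hya : ∀ a ∈ cj g (cl V X), ⁅y, a⁆ ∈ centralizer (oddGen X : Set G)) :
    y ∈ centralizer ((cj g (cl V X) : Subgroup G) : Set G) := by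
  have hU0 := Base.U0_le (V := V) (X := X)
  have hab : ∀ a ∈ (⁅cl V X, oddGen X⁆ : Subgroup G), ∀ b ∈ (⁅cl V X, oddGen X⁆ : Subgroup G),
      a * b = b * a := fun a ha b hb => (mem_centralizer_iff.1 (h.U_comm (hU0 ha)) b (hU0 hb)).symm
  have hcm : ∀ y ∈ (⁅cl V X, oddGen X⁆ : Subgroup G), ∀ a ∈ cj g (cl V X),
      ⁅y, a⁆ ∈ (⁅cl V X, oddGen X⁆ : Subgroup G) := by
    intro y hy a ha
    have e1 : ⁅y, a⁆ = y * (a * y⁻¹ * a⁻¹) := by simp only [commutatorElement_def]; group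
    rw [e1]
    exact mul_mem hy (conj_mem' Base.X_norm_U0 (c.le_X h ha) (inv_mem hy))
  let D : Subgroup G :=
    { carrier := {y | y ∈ (⁅cl V X, oddGen X⁆ : Subgroup G) ∧
        ∀ a ∈ cj g (cl V X), ⁅y, a⁆ ∈ centralizer (oddGen X : Set G)}
      one_mem' := ⟨one_mem _, fun a _ => by rw [commutatorElement_one_left]; exact one_mem _⟩
      mul_mem' := by
        rintro x y ⟨hx, hx'⟩ ⟨hy, hy'⟩
        refine ⟨mul_mem hx hy, fun a ha => ?_⟩
        have e1 : ⁅x * y, a⁆ = (x * ⁅y, a⁆ * x⁻¹) * ⁅x, a⁆ := by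
          simp only [commutatorElement_def]; group
        rw [e1, hab x hx _ (hcm y hy a ha), mul_inv_cancel_right]
        exact mul_mem (hy' a ha) (hx' a ha)
      inv_mem' := by
        rintro x ⟨hx, hx'⟩
        have e1 : x⁻¹ = x := inv_eq_of_mul_eq_one_left (by
          have := h.U_sq x (hU0 hx)
          rwa [pow_two] at this)
        rw [e1]
        exact ⟨hx, hx'⟩ }
  have hD : D ≤ ⁅cl V X, oddGen X⁆ := fun y hy => hy.1
  have h1 := c.index_le h hX hD (by
    rw [commutator_le]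
    exact fun y hy a ha => ⟨hcm y hy.1 a ha, hy.2 a ha⟩)
  rw [c.index h hX] at h1
  -- `C_{U₀}(U^g) ≤ D` of the same index
  have h2 : centralizer ((cj g (cl V X) : Subgroup G) : Set G) ⊓ ⁅cl V X, oddGen X⁆ ≤ D := by
    rintro y ⟨hy1, hy2⟩
    refine ⟨hy2, fun a ha => ?_⟩
    have h3 : ⁅y, a⁆ = 1 := by
      rw [commutatorElement_eq_one_iff_mul_comm]
      exact (mem_centralizer_iff.1 hy1 a ha).symm
    rw [h3]; exact one_mem _
  have h3 := relIndex_mul_relIndex _ D _ h2 hD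
  rw [inf_relIndex_right] at h3
  have h4 : 0 < D.relIndex ⁅cl V X, oddGen X⁆ := Nat.pos_of_ne_zero index_ne_zero_of_finite
  have h5 : (centralizer ((cj g (cl V X) : Subgroup G) : Set G) ⊓ ⁅cl V X, oddGen X⁆).relIndex D = 1 := by
    have h6 : (centralizer ((cj g (cl V X) : Subgroup G) : Set G) ⊓ ⁅cl V X, oddGen X⁆).relIndex D ≠ 0 :=
      index_ne_zero_of_finite
    nlinarith [Nat.pos_of_ne_zero h6]
  exact ((relIndex_eq_one.1 h5) ⟨hy, hya⟩ : _ ∈ _ ⊓ _).1

end Crit

/-- **THEOREM K0**, abstract form. -/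
theorem Base.absurd [Finite G] (h : Base V F T X L Q0) (hX : NoOv X) (hF : FullOff T X)
    (hT : cl V X ⊓ centralizer (T : Set G) ≤ centralizer (oddGen X : Set G)) : False := by
  obtain ⟨g, c⟩ := h.exists_crit
  have hU0 := Base.U0_le (V := V) (X := X)
  have hQ : o2 X ≤ centralizer ((⁅cl V X, oddGen X⁆ : Subgroup G) : Set G) := by
    have h1 := h.dual hX le_rfl (ChoiceSit.le_normalizer_o2 X) fun u hu k hk => h.comm_Q hX hu hk
    rw [commutator_eq_bot_iff_le_centralizer] at h1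
    exact cent_symm h1
  obtain ⟨y, hy, hyT, hyE⟩ := hF ⁅cl V X, oddGen X⁆ (cj g (cl V X)) (hU0.trans h.U_le_X)
    (fun y hy => h.U_sq y (hU0 hy)) (hU0.trans (h.U_comm.trans (centralizer_le hU0))) Base.X_norm_U0 hQ
    h.U0_comm (fun h0 => h.U_not_cent (commutator_eq_bot_iff_le_centralizer.1 h0))
    (fun K hK hXK hne => h.one hX hK hXK hne) (c.le_T h)
    (fun a ha => by rw [c.sq_U' h a ha]; exact one_mem _)
    (fun a ha b hb => by rw [c.comm_U' h a ha b hb]; exact one_mem _)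
    (fun h0 => c.inv.nle h (by
      have h1 := cj_mono g⁻¹ h0
      rwa [cj_inv_cj] at h1))
    (fun y hy hya => c.full h hX hy hya) (c.index h hX)
  exact hyE (hT ⟨hU0 hy, hyT⟩)

end Cfsg.Agent.Omega.NO3b.K0
end

-- part: Mrg/Omega/NO3b/K0/FullOff
section
prune_inst 0x800000002000000000080002040400000000000080151000a00020630000000800040a008000000000000000048105c00500010000000000000000100208022400012000104060009803003180c00000000000000000000000000041000200000000
set_option linter.all false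
open scoped Cfsg.Agent.FastGrp

section


/-!
# THEOREM K0: `FullOff T X` from the abstract FF theorem

`fullOff` : `FFBr.AStmt` implies `K0.FullOff T X` for every minimal parabolic `X` over its Sylow 2-subgroup `T`.
-/

set_option autoImplicit false

namespace Cfsg.Agent.Omega.NO3b.K0

open Subgroup Cfsg Cfsg.Agent.ZN Cfsg.Agent.ZN.ChoiceBase Cfsg.Agent.ZN.ChoiceSit Cfsg.Agent.Omega.FFBr
open Cfsg.Agent.MinSimple.MinParabolic
open Cfsg.Agent.MinSimple.VModule (oddGen oddGen_le mem_oddGen le_normalizer_oddGen oddGen_le_of_sup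
  le_normalizer_map_of_normal)
open Cfsg.Agent.Omega.NO3b.EZero
open scoped commutatorElement

universe u

variable {G : Type u} [Group G] [Finite G]

theorem min_or {T X K : Subgroup G} (hT : Syl T X) (hmin : IsMinPar T X) (hK : K ≤ X)
    (hKn : X ≤ normalizer (K : Set G)) : oddGen X ≤ K ∨ T ⊓ K ≤ o2 X := by
  have : Fact (Nat.Prime 2) := ⟨Nat.prime_two⟩
  rcases hmin.sup_eq_or_inf_le hT.2.1 (syl_not_dvd hT) hK hKn with h1 | h1
  · exact Or.inl (oddGen_le_of_sup hKn h1.ge hT.1 hK hT.2.1)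
  · exact Or.inr h1

theorem fullOff (hA : AStmt.{u}) {T X : Subgroup G} (hT : Syl T X) (hmin : IsMinPar T X) : FullOff T X := by
  intro Y A hYX hsq hcom hN hQ hYO hYne hirr hAT hA2 hAc hAne hfull hidx
  have hfact : Fact (Nat.Prime 2) := ⟨Nat.prime_two⟩
  have hcm : ∀ a b : Y, a * b = b * a := fun a b => Subtype.ext (mem_centralizer_iff.1 (hcom b.2) a a.2)
  have hYc : ¬ Y ≤ centralizer (oddGen X : Set G) := by
    intro h0
    apply hYne
    rw [← hYO]
    exact commutator_eq_bot_iff_le_centralizer.2 h0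
  set D : Subgroup Y := (centralizer (oddGen X : Set G)).subgroupOf Y with hDdef
  have hmemD : ∀ d : Y, d ∈ D ↔ (d : G) ∈ centralizer (oddGen X : Set G) := fun d => mem_subgroupOf
  have hXc : X ≤ normalizer ((centralizer (oddGen X : Set G) : Subgroup G) : Set G) := by
    intro x hx
    rw [mem_normalizer_iff_cj, cj_centralizer, mem_normalizer_iff_cj.1 (le_normalizer_oddGen X hx)]
  -- the Sylow 2-subgroup and the maximal subgroup
  obtain ⟨P, hP⟩ := syl_iff.1 hT
  have hTP : T.subgroupOf X = (P : Subgroup X) := by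
    rw [← hP, Subgroup.subgroupOf, comap_map_eq_self_of_injective X.subtype_injective]
  have hm' := hmin.exists_isMin
  rw [hTP] at hm'
  obtain ⟨M₁, hm⟩ := hm'
  set C : Subgroup X := (centralizer (Y : Set G)).subgroupOf X with hC
  have hker : (pr hN).ker = C := ker_pr hN
  have hCn : C.Normal := by rw [← hker]; infer_instance
  have hXY : X ≤ normalizer ((X ⊓ centralizer (Y : Set G) : Subgroup G) : Set G) := le_normalizer_inf_cent hN
  have hTC : T ⊓ centralizer (Y : Set G) ≤ o2 X := by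
    rcases min_or hT hmin (K := X ⊓ centralizer (Y : Set G)) inf_le_left hXY with h1 | h1
    · exact absurd (cent_symm (h1.trans inf_le_right)) hYc
    · exact (le_inf inf_le_left (le_inf (inf_le_left.trans hT.1) inf_le_right)).trans h1
  have hCP : C ⊔ (P : Subgroup X) ≠ ⊤ := by
    intro h0
    have h1 : (X ⊓ centralizer (Y : Set G)) ⊔ T = X := by
      have h2 := congrArg (Subgroup.map X.subtype) h0
      rw [Subgroup.map_sup, hP, hC, subgroupOf_map_subtype, map_top_subtype, inf_comm] at h2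
      exact h2
    have h3 := oddGen_le_of_sup hXY h1.ge hT.1 inf_le_left hT.2.1
    exact hYc (cent_symm (h3.trans inf_le_right))
  have hCM : C ≤ M₁ := le_sup_left.trans (hm.le_of _ le_sup_right hCP)
  have hPM : (P : Subgroup X) ≤ M₁ := le_sup_right.trans (hm.le_of _ le_sup_right hCP)
  have hMc : (M₁.map (pr hN)).comap (pr hN) = M₁ := by
    rw [comap_map_eq, hker, sup_eq_left]
    exact hCM
  have hmemT : ∀ x : XX hN, x ∈ P.mapSurjective (pr_surjective hN) ↔ ∃ t : X, (t : G) ∈ T ∧ pr hN t = x := by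
    intro x
    constructor
    · rintro ⟨t, ht, rfl⟩
      have ht' : t ∈ T.subgroupOf X := by rw [hTP]; exact ht
      exact ⟨t, mem_subgroupOf.1 ht', rfl⟩
    · rintro ⟨t, ht, rfl⟩
      refine ⟨t, ?_, rfl⟩
      have ht' : t ∈ T.subgroupOf X := mem_subgroupOf.2 ht
      rw [hTP] at ht'
      exact ht'
  -- elements of odd order centralise `D`
  have hDo : ∀ d ∈ D, ∀ x : XX hN, Odd (orderOf x) → x • d = d := fun d hd x hx =>
    (mem_odd_iff hN d).2 ((hmemD d).1 hd) x hx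
  have hDinv : ∀ x : XX hN, ∀ d ∈ D, x • d ∈ D := by
    intro x d hd
    obtain ⟨g, rfl⟩ := pr_surjective hN x
    rw [hmemD, coe_pr_smul]
    exact (mem_normalizer_iff.1 (hXc g.2) _).1 ((hmemD d).1 hd)
  -- the kernel on `Y / D`
  have hfaith : ∀ x : XX hN, (∀ u : Y, (x • u) * u⁻¹ ∈ D) → x = 1 := by
    -- `N̄` is a normal 2-subgroup
    let N : Subgroup (XX hN) :=
      { carrier := {x | ∀ u : Y, (x • u) * u⁻¹ ∈ D}
        one_mem' := fun u => by rw [one_smul, mul_inv_cancel]; exact D.one_mem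
        mul_mem' := by
          intro x y hx hy u
          have e : ((x * y) • u) * u⁻¹ = ((x • y • u) * (y • u)⁻¹) * ((y • u) * u⁻¹) := by
            rw [mul_smul]; group
          rw [e]
          exact D.mul_mem (hx _) (hy _)
        inv_mem' := by
          intro x hx u
          have h1 := D.inv_mem (hx (x⁻¹ • u))
          rw [smul_inv_smul, mul_inv_rev, inv_inv] at h1
          exact h1 }
    have hNn : N.Normal := by
      refine ⟨fun x hx g u => ?_⟩
      have h1 := hDinv g _ (hx (g⁻¹ • u))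
      rw [smul_mul', smul_inv', smul_inv_smul, ← mul_smul, ← mul_smul] at h1
      exact h1
    have hN2 : IsPGroup 2 N := by
      intro x
      obtain ⟨a, m, hm, ha⟩ := Nat.exists_eq_pow_mul_and_not_dvd (orderOf_pos (x : XX hN)).ne' 2 (by norm_num)
      refine ⟨a, Subtype.ext ?_⟩
      have hm0 : 0 < m := Nat.pos_of_ne_zero (by rintro rfl; simp at hm)
      have hmo : Odd m := Nat.not_even_iff_odd.1 fun h => hm h.two_dvd
      have ho : orderOf ((x : XX hN) ^ 2 ^ a) = m := by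
        rw [orderOf_pow_of_dvd (by positivity) (ha ▸ Dvd.intro _ rfl), ha,
          Nat.mul_div_cancel_left _ (by positivity)]
      set y : XX hN := (x : XX hN) ^ 2 ^ a with hy
      have hyN : y ∈ N := N.pow_mem x.2 _
      change y = 1
      refine faith hN y fun u => ?_
      have hd := hyN u
      have hyd := hDo _ hd y (by rw [ho]; exact hmo)
      have key : ∀ n : ℕ, y ^ n • u = ((y • u) * u⁻¹) ^ n * u := by
        intro n
        induction n with
        | zero => simp only [_root_.pow_zero, _root_.one_smul, _root_.one_mul]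
        | succ n ih =>
          rw [pow_succ', mul_smul, ih, smul_mul', smul_pow', hyd, pow_succ, mul_assoc _ _ u, inv_mul_cancel_right]
      have h1 := key m
      rw [← ho, pow_orderOf_eq_one, one_smul, ho] at h1
      have h2 : ((y • u) * u⁻¹) ^ m = 1 := by
        have := congrArg (fun z => z * u⁻¹) h1
        simpa only [_root_.mul_inv_cancel_right, _root_.mul_inv_cancel] using this.symm
      have hs : ((y • u) * u⁻¹) ^ 2 = 1 := Subtype.ext (hsq _ ((y • u) * u⁻¹).2)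
      obtain ⟨j, hj⟩ := hmo
      rw [hj, pow_succ, pow_mul, hs, one_pow, one_mul] at h2
      exact mul_inv_eq_one.1 h2
    -- the preimage
    have hN₁ : (N.comap (pr hN)).Normal := hNn.comap _
    have h1 : X ≤ normalizer (((N.comap (pr hN)).map X.subtype : Subgroup G) : Set G) :=
      le_normalizer_map_of_normal hN₁
    have h2 : T ⊓ (N.comap (pr hN)).map X.subtype ≤ o2 X := by
      rcases min_or hT hmin (map_subtype_le _) h1 with h3 | h3
      · exfalso
        apply hYc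
        rw [← hYO, commutator_le]
        intro y hy g hg
        obtain ⟨g', hg', rfl⟩ := h3 hg
        have h4 := hg' ⟨y, hy⟩
        rw [hmemD] at h4
        have h5 := (centralizer (oddGen X : Set G)).inv_mem h4
        rw [commutatorElement_def]
        have e : ((pr hN g' • (⟨y, hy⟩ : Y) * (⟨y, hy⟩ : Y)⁻¹ : Y) : G)⁻¹ =
            y * X.subtype g' * y⁻¹ * (X.subtype g')⁻¹ := by
          rw [Subgroup.coe_mul, coe_pr_smul, Subgroup.coe_inv]
          simp only [coe_subtype]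
          group
        rw [← e]
        exact h5
      · exact h3
    intro x hx
    have hxN : x ∈ N := hx
    have h3 : N ≤ (P.mapSurjective (pr_surjective hN) : Sylow 2 (XX hN)) := by
      have h9 : IsPGroup 2 ((P.mapSurjective (pr_surjective hN) : Subgroup (XX hN)) ⊔ N : Subgroup (XX hN)) :=
        (P.mapSurjective (pr_surjective hN)).isPGroup'.to_sup_of_normal_right hN2
      exact le_sup_right.trans_eq ((P.mapSurjective (pr_surjective hN)).is_maximal' h9 le_sup_left)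
    obtain ⟨t, ht, rfl⟩ := (hmemT x).1 (h3 hxN)
    exact (pr_eq_one hN).2 (hQ (h2 ⟨ht, t, hxN, rfl⟩))
  -- the offender
  have hAX : A ≤ X := hAT.trans hT.1
  have hAo : A ⊓ centralizer (Y : Set G) = A ⊓ o2 X :=
    le_antisymm (le_inf inf_le_left ((inf_le_inf_right _ hAT).trans hTC)) (inf_le_inf_left _ hQ)
  have hAY : ¬ A ≤ centralizer (Y : Set G) := fun h0 => hAne ((le_inf hAT h0).trans hTC)
  have hle : (ClassTwoFusion.Quad.cv Y (im hN A : Set (XX hN))).index ≤ Nat.card (im hN A) := by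
    have h1 := card_im hN hAX
    have h2 := card_cv_im hN hAX
    have h3 : (centralizer (A : Set G)).relIndex Y * Nat.card ↥(Y ⊓ centralizer (A : Set G)) = Nat.card Y := by
      have e := relIndex_inf_mul_relIndex (⊥ : Subgroup G) (centralizer (A : Set G)) Y
      rw [relIndex_bot_left, bot_inf_eq, relIndex_bot_left, mul_comm, inf_comm] at e
      exact e
    have h4 : (o2 X).relIndex A * Nat.card ↥(A ⊓ o2 X) = Nat.card A := by
      have e := relIndex_inf_mul_relIndex (⊥ : Subgroup G) (o2 X) A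
      rw [relIndex_bot_left, bot_inf_eq, relIndex_bot_left, mul_comm, inf_comm] at e
      exact e
    have h5 : 0 < Nat.card ↥(Y ⊓ centralizer (A : Set G)) := Nat.card_pos
    have h6 : 0 < Nat.card ↥(A ⊓ o2 X) := Nat.card_pos
    rw [hAo] at h1
    have h7 : Nat.card (im hN A) = (o2 X).relIndex A := Nat.eq_of_mul_eq_mul_right h6 (h1.trans h4.symm)
    have h8 : (ClassTwoFusion.Quad.cv Y (im hN A : Set (XX hN))).index = (centralizer (A : Set G)).relIndex Y := by
      rw [mul_comm] at h2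
      exact Nat.eq_of_mul_eq_mul_right h5 (h2.trans h3.symm)
    rw [h7, h8, hidx]
  obtain ⟨u, hu, huD⟩ := EndFix.exists_fix_of hA (X := XX hN) (U := Y) hcm
    (fun u => Subtype.ext (by
      have := hsq u u.2
      rw [pow_two] at this
      exact this)) hDinv hDo (fun h0 => hYc (subgroupOf_eq_top.1 h0)) (by
      intro K hK hKne
      have h1 : K.map Y.subtype ≤ centralizer (oddGen X : Set G) := by
        refine hirr _ (map_subtype_le _) ?_ ?_
        · intro g hg
          refine mem_normalizer_of_cj_le ?_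
          rintro _ ⟨_, ⟨w, hw, rfl⟩, rfl⟩
          exact ⟨pr hN ⟨g, hg⟩ • w, hK _ w hw, rfl⟩
        · intro h0
          apply hKne
          rw [eq_top_iff]
          intro w _
          have h2 : (w : G) ∈ K.map Y.subtype := by rw [h0]; exact w.2
          obtain ⟨w', hw', h3⟩ := h2
          rwa [← Subtype.ext h3]
      intro w hw
      rw [hmemD]
      exact h1 ⟨w, hw, rfl⟩) hfaith (T := P.mapSurjective (pr_surjective hN)) (M := M₁.map (pr hN)) (by
      rw [Sylow.coe_mapSurjective]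
      exact map_mono hPM) (by
      intro h5
      apply hm.ne_top
      rw [← hMc, h5, comap_top]) (by
      intro K hK
      rw [Sylow.coe_mapSurjective, map_le_iff_le_comap] at hK
      by_cases hK1 : K.comap (pr hN) = ⊤
      · right
        rw [← map_comap_eq_self_of_surjective (pr_surjective hN) K, hK1,
          map_top_of_surjective _ (pr_surjective hN)]
      · left
        have h5 := hm.le_of _ hK hK1
        rw [← map_comap_eq_self_of_surjective (pr_surjective hN) K]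
        exact map_mono h5) (A := im hN A) (by
      rintro _ ⟨a, ha, rfl⟩
      exact (hmemT _).2 ⟨a, hAT (mem_subgroupOf.1 ha), rfl⟩) (by
      rintro _ ⟨a, ha, rfl⟩ _ ⟨b, hb, rfl⟩
      have h1 : pr hN (a * b * a⁻¹ * b⁻¹) = 1 := (pr_eq_one hN).2 (hQ (hAc a ha b hb))
      rw [map_mul, map_mul, map_mul, map_inv, map_inv, mul_inv_eq_one, mul_inv_eq_iff_eq_mul] at h1
      exact h1) (by
      rintro _ ⟨a, ha, rfl⟩
      have h1 : pr hN (a ^ 2) = 1 := (pr_eq_one hN).2 (hQ (hA2 a ha))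
      rw [map_pow, pow_two] at h1
      exact h1) (by
      intro h0
      apply hAY
      intro a ha
      have h1 : pr hN ⟨a, hAX ha⟩ ∈ im hN A := ⟨⟨a, hAX ha⟩, ha, rfl⟩
      rw [h0, mem_bot] at h1
      exact (pr_eq_one hN).1 h1) hle (by
      rintro u hu _ ⟨a, ha, rfl⟩
      rw [pr_smul_eq_iff]
      have h1 := hfull u u.2 (fun b hb => by
        have h2 := hu (pr hN ⟨b, hAX hb⟩) ⟨⟨b, hAX hb⟩, hb, rfl⟩
        rw [hmemD] at h2
        have h5 := (centralizer (oddGen X : Set G)).inv_mem h2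
        rw [commutatorElement_def]
        have e : ((pr hN ⟨b, hAX hb⟩ • u * u⁻¹ : Y) : G)⁻¹ = u * b * (u : G)⁻¹ * b⁻¹ := by
          rw [Subgroup.coe_mul, coe_pr_smul, Subgroup.coe_inv]
          group
        rw [← e]
        exact h5)
      exact mem_centralizer_iff.1 h1 a ha)
  refine ⟨u, u.2, ?_, fun h0 => huD ((hmemD u).2 h0)⟩
  rw [mem_centralizer_iff]
  intro t ht
  exact (pr_smul_eq_iff hN).1 (hu (pr hN ⟨t, hT.1 ht⟩) ((hmemT _).2 ⟨⟨t, hT.1 ht⟩, ht, rfl⟩))

end Cfsg.Agent.Omega.NO3b.K0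

end

section


/-!
# Fld, THEOREM RED (#15355), parts (2) and (3): the counting argument

`S` acts on the line `V`; `R ≤ V` is the point, `Rs ≤ R` the fixed points on `R` of the involution of `S / C_S(R)`,
`|V : R| = q = r²`.  `X` is a minimal parabolic over `S` which moves `R`, `U = ⟨V^X⟩` is elementary abelian,
`X' = ⟨R^X⟩`, `Q = O₂(X)`.

* `Line S V R Rs q r` : the facts about the action of `S` on `V` which are used (semilinear groups);
* `Cnt S X V R Rs q r` : the situation;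
* `Cnt.chain1`, `Cnt.chainU`, `Cnt.last` : the chains of lines;
* `Cnt.end3`, `Cnt.end2`, `Cnt.end4` : the contradictions: `c₁ ≥ 3`, `r ≥ 4`; `c₁ ≥ 2`, `r ≥ 8`; `c₁ ≥ 2`, `r ≥ 4` and
  `Rs` normal in `X`.
-/

set_option autoImplicit false
set_option linter.unusedSectionVars false

namespace Cfsg.Agent.Omega.NO3S.Fld.Red

open Subgroup Cfsg Cfsg.Agent.ZN Cfsg.Agent.ZN.ChoiceBase Cfsg.Agent.ZN.ChoiceSit
open Cfsg.Agent.MinSimple.MinParabolic (IsMinPar)
open Cfsg.Agent.MinSimple.VModule (oddGen oddGen_le mem_oddGen le_normalizer_oddGen oddGen_le_of_sup)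
open Cfsg.Agent.Omega.NO3b.EZero (cl cj_le_cl le_cl cl_le cj_cl le_normalizer_cl le_normalizer_inf_cent
  oddGen_sup_syl)
open Cfsg.Agent.Omega.NO3b.K0 (min_or NoOv)
open scoped commutatorElement

universe u

variable {G : Type u} [Group G]

/-- An elementary abelian 2-group, in elementary terms. -/
structure El (D : Subgroup G) : Prop where
  sq : ∀ a ∈ D, a ^ 2 = 1
  comm : ∀ a ∈ D, ∀ b ∈ D, a * b = b * a

theorem El.mono {D E : Subgroup G} (h : El D) (hE : E ≤ D) : El E :=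
  ⟨fun a ha => h.sq a (hE ha), fun a ha b hb => h.comm a (hE ha) b (hE hb)⟩

/-- `D` induces an elementary abelian 2-group on `V`, in elementary terms. -/
structure Elem (V D : Subgroup G) : Prop where
  sq : ∀ a ∈ D, a ^ 2 ∈ centralizer (V : Set G)
  comm : ∀ a ∈ D, ∀ b ∈ D, a * b * a⁻¹ * b⁻¹ ∈ centralizer (V : Set G)

/-- The facts about the action of `S` on the line `V` with the point `R`. -/
structure Line (S V R Rs : Subgroup G) (q r : ℕ) : Prop where
  RV : R ≤ V
  RsR : Rs ≤ R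
  /-- an elementary abelian subgroup moving `R` induces one involution -/
  two : ∀ D ≤ S, Elem V D → ¬ D ≤ centralizer (R : Set G) → (centralizer (R : Set G)).relIndex D = 2
  ge : ∀ D ≤ S, Elem V D → ¬ D ≤ centralizer (R : Set G) → r ≤ (centralizer (D : Set G)).relIndex R
  com : ∀ D ≤ S, Elem V D → ∀ x ∈ R, ∀ d ∈ D, x * d * x⁻¹ * d⁻¹ ∈ Rs
  /-- the root group -/
  gain : ∀ D ≤ S, D ≤ centralizer (R : Set G) → ¬ D ≤ centralizer (V : Set G) →
    q ≤ (centralizer (D : Set G)).relIndex V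
  loss : ∀ D ≤ S, D ≤ centralizer (R : Set G) → (centralizer (V : Set G)).relIndex D ≤ q
  /-- fixed points of a field involution on the root group and on `V / R` -/
  small : ∀ D ≤ S, D ≤ centralizer (R : Set G) → ∀ φ ∈ S, φ ^ 2 ∈ centralizer (V : Set G) →
    φ ∉ centralizer (R : Set G) → (∀ d ∈ D, d * φ * d⁻¹ * φ⁻¹ ∈ centralizer (V : Set G)) →
    (centralizer (V : Set G)).relIndex D ≤ r
  quot : ∀ K ≤ V, ∀ φ ∈ S, φ ^ 2 ∈ centralizer (V : Set G) → φ ∉ centralizer (R : Set G) →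
    (∀ v ∈ K, v * φ * v⁻¹ * φ⁻¹ ∈ R) → r ≤ K.relIndex V

theorem Elem.cj {V D : Subgroup G} (h : Elem V D) (g : G) : Elem (cj g V) (cj g D) where
  sq := by
    intro a ha
    rw [mem_cj] at ha
    rw [← cj_centralizer, mem_cj]
    have h1 := h.sq _ ha
    have e : (g⁻¹ * a * g) ^ 2 = g⁻¹ * a ^ 2 * g := by rw [pow_two, pow_two]; group
    rwa [e] at h1
  comm := by
    intro a ha b hb
    rw [mem_cj] at ha hb
    rw [← cj_centralizer, mem_cj]
    have h1 := h.comm _ ha _ hb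
    have e : g⁻¹ * a * g * (g⁻¹ * b * g) * (g⁻¹ * a * g)⁻¹ * (g⁻¹ * b * g)⁻¹ =
        g⁻¹ * (a * b * a⁻¹ * b⁻¹) * g := by group
    rwa [e] at h1

theorem Elem.mono {V W D E : Subgroup G} (h : Elem V D) (hW : W ≤ V) (hE : E ≤ D) : Elem W E :=
  ⟨fun a ha => centralizer_le hW (h.sq a (hE ha)), fun a ha b hb => centralizer_le hW (h.comm a (hE ha) b (hE hb))⟩

/-- An elementary abelian group induces an elementary abelian group. -/
theorem El.elem {V D : Subgroup G} (h : El D) : Elem V D :=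
  ⟨fun a ha => by rw [h.sq a ha]; exact one_mem _, fun a ha b hb => by
    rw [h.comm a ha b hb, mul_inv_cancel_right, mul_inv_cancel]; exact one_mem _⟩

theorem le_cj {g : G} {A B : Subgroup G} : A ≤ cj g B ↔ cj g⁻¹ A ≤ B := by
  rw [cj_le_iff, inv_inv]

theorem cj_relIndex (g : G) (A B : Subgroup G) : (cj g A).relIndex (cj g B) = A.relIndex B :=
  relIndex_map_map_of_injective A B (MulAut.conj g).injective

theorem cj_cent_relIndex (g : G) (A B : Subgroup G) :
    (centralizer ((cj g A : Subgroup G) : Set G)).relIndex B = (centralizer (A : Set G)).relIndex (cj g⁻¹ B) := by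
  rw [← cj_centralizer]
  nth_rewrite 1 [← cj_cj_inv g B]
  exact cj_relIndex g _ _

theorem cj_relIndex' (g : G) (A B : Subgroup G) : A.relIndex (cj g B) = (cj g⁻¹ A).relIndex B := by
  nth_rewrite 1 [← cj_cj_inv g A]
  exact cj_relIndex g _ _

theorem le_cj_cent {g : G} {A B : Subgroup G} :
    A ≤ centralizer ((cj g B : Subgroup G) : Set G) ↔ cj g⁻¹ A ≤ centralizer (B : Set G) := by
  rw [← cj_centralizer, le_cj]

/-- The facts are invariant under conjugation. -/
theorem Line.cj {S V R Rs : Subgroup G} {q r : ℕ} (h : Line S V R Rs q r) (g : G) :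
    Line (cj g S) (cj g V) (cj g R) (cj g Rs) q r where
  RV := cj_mono g h.RV
  RsR := cj_mono g h.RsR
  two D hD hE hn := by
    rw [cj_cent_relIndex]
    have hE' := hE.cj g⁻¹
    rw [cj_inv_cj] at hE'
    exact h.two _ (le_cj.1 hD) hE' fun h0 => hn (le_cj_cent.2 h0)
  ge D hD hE hn := by
    have hE' := hE.cj g⁻¹
    rw [cj_inv_cj] at hE'
    have h1 := h.ge _ (le_cj.1 hD) hE' fun h0 => hn (le_cj_cent.2 h0)
    rw [← cj_centralizer] at h1
    rw [cj_relIndex']
    exact h1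
  com D hD hE x hx d hd := by
    rw [mem_cj] at hx ⊢
    have hE' := hE.cj g⁻¹
    rw [cj_inv_cj] at hE'
    have h1 := h.com _ (le_cj.1 hD) hE' _ hx (g⁻¹ * d * g) (by
      rw [mem_cj]
      have : g⁻¹⁻¹ * (g⁻¹ * d * g) * g⁻¹ = d := by group
      rwa [this])
    have e : g⁻¹ * x * g * (g⁻¹ * d * g) * (g⁻¹ * x * g)⁻¹ * (g⁻¹ * d * g)⁻¹ =
        g⁻¹ * (x * d * x⁻¹ * d⁻¹) * g := by group
    rwa [e] at h1
  gain D hD hR hn := by
    have h1 := h.gain _ (le_cj.1 hD) (le_cj_cent.1 hR) fun h0 => hn (le_cj_cent.2 h0)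
    rw [← cj_centralizer] at h1
    rw [cj_relIndex']
    exact h1
  loss D hD hR := by
    rw [cj_cent_relIndex]
    exact h.loss _ (le_cj.1 hD) (le_cj_cent.1 hR)
  small D hD hR φ hφ h2 hn hc := by
    rw [cj_cent_relIndex]
    refine h.small _ (le_cj.1 hD) (le_cj_cent.1 hR) (g⁻¹ * φ * g) (mem_cj.1 hφ) ?_ ?_ ?_
    · have e : (g⁻¹ * φ * g) ^ 2 = g⁻¹ * φ ^ 2 * g := by rw [pow_two, pow_two]; group
      rw [← cj_centralizer, mem_cj] at h2
      rwa [e]
    · rw [← cj_centralizer, mem_cj] at hn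
      exact hn
    · rintro _ ⟨d, hd, rfl⟩
      have h3 := hc d hd
      rw [← cj_centralizer, mem_cj] at h3
      show g⁻¹ * d * g⁻¹⁻¹ * (g⁻¹ * φ * g) * (g⁻¹ * d * g⁻¹⁻¹)⁻¹ * (g⁻¹ * φ * g)⁻¹ ∈ centralizer (V : Set G)
      have e1 : g⁻¹ * d * g⁻¹⁻¹ * (g⁻¹ * φ * g) * (g⁻¹ * d * g⁻¹⁻¹)⁻¹ * (g⁻¹ * φ * g)⁻¹ =
        g⁻¹ * (d * φ * d⁻¹ * φ⁻¹) * g := by group
      rwa [e1]
  quot K hK φ hφ h2 hn hc := by
    rw [cj_relIndex']
    refine h.quot _ (le_cj.1 hK) (g⁻¹ * φ * g) (mem_cj.1 hφ) ?_ ?_ ?_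
    · have e : (g⁻¹ * φ * g) ^ 2 = g⁻¹ * φ ^ 2 * g := by rw [pow_two, pow_two]; group
      rw [← cj_centralizer, mem_cj] at h2
      rwa [e]
    · rw [← cj_centralizer, mem_cj] at hn
      exact hn
    · rintro _ ⟨d, hd, rfl⟩
      have h3 := mem_cj.1 (hc d hd)
      show g⁻¹ * d * g⁻¹⁻¹ * (g⁻¹ * φ * g) * (g⁻¹ * d * g⁻¹⁻¹)⁻¹ * (g⁻¹ * φ * g)⁻¹ ∈ R
      have e1 : g⁻¹ * d * g⁻¹⁻¹ * (g⁻¹ * φ * g) * (g⁻¹ * d * g⁻¹⁻¹)⁻¹ * (g⁻¹ * φ * g)⁻¹ =
        g⁻¹ * (d * φ * d⁻¹ * φ⁻¹) * g := by group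
      rwa [e1]

/-! ### Indices -/

section idx

variable [Finite G]

/-- One step of a chain: `L ≤ C_W(D₁)`. -/
theorem step {D1 D W L : Subgroup G} (h1 : D1 ≤ D) (hL : L ≤ W) (hLD : L ≤ centralizer (D1 : Set G)) :
    (centralizer (D1 : Set G)).relIndex W * (centralizer (D : Set G)).relIndex L ≤
      (centralizer (D : Set G)).relIndex W := by
  have hK : centralizer (D : Set G) ⊓ W ≤ centralizer (D1 : Set G) ⊓ W :=
    inf_le_inf_right _ (centralizer_le h1)
  have h2 := relIndex_mul_relIndex (centralizer (D : Set G) ⊓ W) (centralizer (D1 : Set G) ⊓ W) W hK inf_le_right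
  rw [inf_relIndex_right, inf_relIndex_right] at h2
  rw [← h2, mul_comm]
  refine Nat.mul_le_mul_right _ ?_
  have h3 : (centralizer (D : Set G) ⊓ W).relIndex (centralizer (D1 : Set G) ⊓ W) =
      (centralizer (D : Set G)).relIndex (centralizer (D1 : Set G) ⊓ W) := by
    rw [← inf_relIndex_right (centralizer (D : Set G) ⊓ W), ← inf_relIndex_right (centralizer (D : Set G))]
    congr 1
    apply le_antisymm
    · exact le_inf (inf_le_left.trans inf_le_left) inf_le_right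
    · exact le_inf (le_inf inf_le_left (inf_le_right.trans inf_le_right)) inf_le_right
  rw [h3]
  exact relIndex_le_of_le_right (le_inf hLD hL) index_ne_zero_of_finite

/-- `|D : C_D(W)| = |D₁ : C_{D₁}(W)| |D : D₁|`, `D₁ = C_D(L)`, `L ≤ W`. -/
theorem split {D W L : Subgroup G} (hL : L ≤ W) :
    (centralizer (W : Set G)).relIndex (D ⊓ centralizer (L : Set G)) * (centralizer (L : Set G)).relIndex D =
      (centralizer (W : Set G)).relIndex D := by
  have hcc : centralizer (W : Set G) ≤ centralizer (L : Set G) := centralizer_le hL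
  have h2 := relIndex_mul_relIndex (centralizer (W : Set G) ⊓ D) (D ⊓ centralizer (L : Set G)) D
    (le_inf inf_le_right (inf_le_left.trans hcc)) inf_le_left
  rw [inf_relIndex_right] at h2
  have h3 : (D ⊓ centralizer (L : Set G)).relIndex D = (centralizer (L : Set G)).relIndex D := by
    rw [inf_comm, inf_relIndex_right]
  have h4 : (centralizer (W : Set G) ⊓ D).relIndex (D ⊓ centralizer (L : Set G)) =
      (centralizer (W : Set G)).relIndex (D ⊓ centralizer (L : Set G)) := by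
    rw [← inf_relIndex_right (centralizer (W : Set G) ⊓ D), ← inf_relIndex_right (centralizer (W : Set G))]
    congr 1
    apply le_antisymm
    · exact le_inf (inf_le_left.trans inf_le_left) inf_le_right
    · exact le_inf (le_inf inf_le_left (inf_le_right.trans inf_le_left)) inf_le_right
  rw [h3, h4] at h2
  exact h2

theorem relIndex_pos (A B : Subgroup G) : 0 < A.relIndex B := Nat.pos_of_ne_zero index_ne_zero_of_finite

end idx

/-! ### The situation -/

/-- The situation of (2), (3) of THEOREM RED. -/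
structure Cnt (S X V R Rs : Subgroup G) (q r : ℕ) : Prop where
  syl : Syl S X
  mp : IsMinPar S X
  line : Line S V R Rs q r
  qr : q = r * r
  r4 : 4 ≤ r
  sq : ∀ u ∈ cl V X, u ^ 2 = 1
  comm : cl V X ≤ centralizer (cl V X : Set G)
  SR : S ≤ normalizer (R : Set G)
  nR : ¬ X ≤ normalizer (R : Set G)

namespace Cnt

variable [Finite G] {S X V R Rs : Subgroup G} {q r : ℕ} (h : Cnt S X V R Rs q r)
include h

theorem Q_le : o2 X ≤ S := o2_le_syl h.syl

theorem isPGroup_U : IsPGroup 2 (cl V X) := fun x => ⟨1, Subtype.ext (by simpa only [_root_.pow_one, _root_.SubmonoidClass.coe_pow, _root_.OneMemClass.coe_one] using h.sq x x.2)⟩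

theorem XU : cl R X ≤ cl V X := cl_le fun _ hp => (cj_mono _ h.line.RV).trans (cj_le_cl hp)

omit h in
theorem cj_o2 {y : G} (hy : y ∈ X) : cj y (o2 X) = o2 X :=
  mem_normalizer_iff_cj.1 (MinSimple.VModule.le_normalizer_o2 X hy)

/-- `Q ≤ S^y` -/
theorem Q_le_cj {y : G} (hy : y ∈ X) : o2 X ≤ Cfsg.Agent.ZN.ChoiceBase.cj y S := by
  have h1 := cj_mono y h.Q_le
  rwa [cj_o2 hy] at h1

theorem XU2 : cl R X ≤ centralizer (cl V X : Set G) := h.XU.trans h.comm

omit h in
/-- a subgroup not centralising `⟨L^X⟩` does not centralise some `L^y` -/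
theorem exists_of_not {L D : Subgroup G} (hD : ¬ D ≤ centralizer (cl L X : Set G)) :
    ∃ y ∈ X, ¬ D ≤ centralizer ((Cfsg.Agent.ZN.ChoiceBase.cj y L : Subgroup G) : Set G) := by
  by_contra hcon
  push Not at hcon
  apply hD
  rw [le_centralizer_iff]
  exact cl_le fun y hy => le_centralizer_iff.1 (hcon y hy)

/-- **Chain for `X'`.** -/
theorem chain1 : ∀ (n : ℕ) (D : Subgroup G), Nat.card D = n → D ≤ o2 X → Elem (cl V X) D →
    ∃ a, (centralizer (cl R X : Set G)).relIndex D = 2 ^ a ∧ r ^ a ≤ (centralizer (D : Set G)).relIndex (cl R X) := by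
  intro n
  induction n using Nat.strong_induction_on with
  | _ n ih =>
    intro D hn hDQ hD
    by_cases hc : D ≤ centralizer (cl R X : Set G)
    · exact ⟨0, by rw [pow_zero]; exact relIndex_eq_one.2 hc, by rw [pow_zero]; exact relIndex_pos _ _⟩
    · obtain ⟨y, hy, hyD⟩ := exists_of_not hc
      have hl := h.line.cj y
      have hDS := hDQ.trans (h.Q_le_cj hy)
      have hD' : Elem (Cfsg.Agent.ZN.ChoiceBase.cj y V) D := hD.mono (cj_le_cl hy) le_rfl
      have h2 := hl.two D hDS hD' hyD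
      have h3 := hl.ge D hDS hD' hyD
      set L := Cfsg.Agent.ZN.ChoiceBase.cj y R with hL
      set D1 := D ⊓ centralizer (L : Set G) with hD1
      have hlt : Nat.card D1 < n := by
        rw [← hn]
        refine lt_of_le_of_ne (card_le_of_le inf_le_left) fun h0 => hyD ?_
        have h4 := eq_of_le_of_card_ge (inf_le_left : D1 ≤ D) h0.ge
        rw [← h4]
        exact inf_le_right
      obtain ⟨a, ha1, ha2⟩ := ih _ hlt D1 rfl (inf_le_left.trans hDQ) (hD.mono le_rfl inf_le_left)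
      have hLX : L ≤ cl R X := cj_le_cl hy
      refine ⟨a + 1, ?_, ?_⟩
      · rw [← split (D := D) hLX, ← hD1, ha1, h2, pow_succ]
      · have h5 := step (D1 := D1) (D := D) inf_le_left hLX (le_centralizer_iff.1 inf_le_right)
        rw [pow_succ]
        exact (Nat.mul_le_mul ha2 h3).trans h5

/-- **Chain for `U`.** -/
theorem chainU : ∀ (n : ℕ) (D : Subgroup G), Nat.card D = n → D ≤ o2 X → D ≤ centralizer (cl R X : Set G) →
    (centralizer (cl V X : Set G)).relIndex D ≤ (centralizer (D : Set G)).relIndex (cl V X) := by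
  intro n
  induction n using Nat.strong_induction_on with
  | _ n ih =>
    intro D hn hDQ hDX
    by_cases hc : D ≤ centralizer (cl V X : Set G)
    · rw [relIndex_eq_one.2 hc]
      exact relIndex_pos _ _
    · obtain ⟨y, hy, hyD⟩ := exists_of_not hc
      have hl := h.line.cj y
      have hDS := hDQ.trans (h.Q_le_cj hy)
      have hDR : D ≤ centralizer ((Cfsg.Agent.ZN.ChoiceBase.cj y R : Subgroup G) : Set G) :=
        hDX.trans (centralizer_le (cj_le_cl hy))
      have h2 := hl.gain D hDS hDR hyD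
      have h3 := hl.loss D hDS hDR
      set L := Cfsg.Agent.ZN.ChoiceBase.cj y V with hL
      set D1 := D ⊓ centralizer (L : Set G) with hD1
      have hlt : Nat.card D1 < n := by
        rw [← hn]
        refine lt_of_le_of_ne (card_le_of_le inf_le_left) fun h0 => hyD ?_
        have h4 := eq_of_le_of_card_ge (inf_le_left : D1 ≤ D) h0.ge
        rw [← h4]
        exact inf_le_right
      have h6 := ih _ hlt D1 rfl (inf_le_left.trans hDQ) (inf_le_left.trans hDX)
      have hLX : L ≤ cl V X := cj_le_cl hy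
      rw [← split (D := D) hLX, ← hD1]
      exact (Nat.mul_le_mul h6 (h3.trans h2)).trans
        (step (D1 := D1) (D := D) inf_le_left hLX (le_centralizer_iff.1 inf_le_right))

/-- `C_A(X') ≤ Q` for `A ≤ S`. -/
theorem cent_le {A : Subgroup G} (hA : A ≤ S) : A ⊓ centralizer (cl R X : Set G) ≤ o2 X := by
  rcases min_or h.syl h.mp (K := X ⊓ centralizer (cl R X : Set G)) inf_le_left
    (le_normalizer_inf_cent (le_normalizer_cl R X)) with h1 | h1
  · exfalso
    apply h.nR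
    have h2 : oddGen X ≤ normalizer (R : Set G) :=
      (h1.trans inf_le_right).trans ((centralizer_le (le_cl R X)).trans (centralizer_le_normalizer _))
    rw [← oddGen_sup_syl h.syl]
    exact sup_le h2 h.SR
  · refine le_trans ?_ h1
    exact le_inf (inf_le_left.trans hA) (le_inf (inf_le_left.trans (hA.trans h.syl.1)) inf_le_right)

/-- the numbers of (2): `|A : A ∩ Q|`, `|A ∩ Q : C_A(X')|`, `|C_A(X') : C_A(U)|`, `|X' : C_{X'}(A)|` -/
structure Nums (_ : Cnt S X V R Rs q r) (A : Subgroup G) (α β γ ξ a : ℕ) : Prop where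
  elem : Elem (cl V X) A
  le : A ≤ S
  hα : α = (o2 X).relIndex A
  hβ : β = (centralizer (cl R X : Set G)).relIndex (A ⊓ o2 X)
  hγ : γ = (centralizer (cl V X : Set G)).relIndex (A ⊓ centralizer (cl R X : Set G))
  hξ : ξ = (centralizer (A : Set G)).relIndex (cl R X)
  α2 : 2 ≤ α
  γ0 : 0 < γ
  hβa : β = 2 ^ a
  /-- the chain -/
  chain : r ^ a ≤ ξ
  /-- maximality for `X'` -/
  maxX : ξ ≤ α * β
  /-- maximality for `U` -/
  maxU : (centralizer (A : Set G)).relIndex (cl V X) ≤ α * β * γ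

theorem exists_nums' {A : Subgroup G} (hAe : Elem (cl V X) A) (hAS : A ≤ S)
    (hmax : ∀ W : Subgroup G, W ≤ cl V X →
      (centralizer (A : Set G)).relIndex W ≤ (centralizer (W : Set G)).relIndex A) (hAQ : ¬ A ≤ o2 X) :
    ∃ α β γ ξ a, Nums h A α β γ ξ a := by
  obtain ⟨a, ha1, ha2⟩ := h.chain1 _ (A ⊓ o2 X) rfl inf_le_right (hAe.mono le_rfl inf_le_left)
  have hcA := h.cent_le hAS
  -- indices
  have e1 : (centralizer (cl R X : Set G)).relIndex A =
      (o2 X).relIndex A * (centralizer (cl R X : Set G)).relIndex (A ⊓ o2 X) := by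
    have h2 := relIndex_mul_relIndex (centralizer (cl R X : Set G) ⊓ A) (A ⊓ o2 X) A
      (le_inf inf_le_right (by rw [inf_comm]; exact hcA)) inf_le_left
    rw [inf_relIndex_right] at h2
    have h3 : (A ⊓ o2 X).relIndex A = (o2 X).relIndex A := by rw [inf_comm, inf_relIndex_right]
    have h4 : (centralizer (cl R X : Set G) ⊓ A).relIndex (A ⊓ o2 X) =
        (centralizer (cl R X : Set G)).relIndex (A ⊓ o2 X) := by
      rw [← inf_relIndex_right (centralizer (cl R X : Set G) ⊓ A), ← inf_relIndex_right (centralizer (cl R X : Set G))]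
      congr 1
      apply le_antisymm
      · exact le_inf (inf_le_left.trans inf_le_left) inf_le_right
      · exact le_inf (le_inf inf_le_left (inf_le_right.trans inf_le_left)) inf_le_right
    rw [h3, h4] at h2
    rw [← h2, mul_comm]
  have e2 : (centralizer (cl V X : Set G)).relIndex A =
      (o2 X).relIndex A * (centralizer (cl R X : Set G)).relIndex (A ⊓ o2 X) *
        (centralizer (cl V X : Set G)).relIndex (A ⊓ centralizer (cl R X : Set G)) := by
    rw [← split (D := A) h.XU, e1, mul_comm]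
  refine ⟨_, _, _, _, a, hAe, hAS, rfl, rfl, rfl, rfl, ?_, relIndex_pos _ _, ha1, ?_, ?_, ?_⟩
  · have h1 := relIndex_pos (o2 X) A
    have h2 : (o2 X).relIndex A ≠ 1 := fun h0 => hAQ (relIndex_eq_one.1 h0)
    omega
  · refine ha2.trans ?_
    refine relIndex_le_of_le_left (centralizer_le (inf_le_left : A ⊓ o2 X ≤ A)) ?_
    exact index_ne_zero_of_finite
  · rw [← e1]
    exact hmax _ h.XU
  · rw [← e2]
    exact hmax _ le_rfl

/-- the members of `A(S)` -/
theorem off_of_AA {A : Subgroup G} (hA : A ∈ AA S) (hUS : cl V X ≤ S) :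
    Elem (cl V X) A ∧ ∀ W : Subgroup G, W ≤ cl V X →
      (centralizer (A : Set G)).relIndex W ≤ (centralizer (W : Set G)).relIndex A := by
  have hel : ∀ W : Subgroup G, W ≤ cl V X → IsElementaryAbelian 2 W := fun W hW =>
    ⟨⟨⟨fun a b => Subtype.ext (mem_centralizer_iff.1 (h.comm (hW b.2)) a (hW a.2))⟩⟩, fun a ha => h.sq a (hW ha)⟩
  refine ⟨El.elem ⟨fun a ha => hA.1.2 a ha, fun a ha b hb =>
    congrArg (fun t : A => (t : G)) (hA.1.1.is_comm.comm ⟨a, ha⟩ ⟨b, hb⟩)⟩, fun W hW => ?_⟩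
  by_cases hc : A ≤ centralizer (W : Set G)
  · rw [relIndex_eq_one.2 (le_centralizer_iff.1 hc), relIndex_eq_one.2 hc]
  · exact FFThm.relIndex_le_iff.1 (FFThm.off_of_AA (hel W hW) (hW.trans hUS) hA hc).le

variable {A : Subgroup G} {α β γ ξ a : ℕ}

omit [Finite G] in
theorem Nums.pow_le (hn : Nums h A α β γ ξ a) : 4 ^ a ≤ ξ ∧ (8 ≤ r → 8 ^ a ≤ ξ) :=
  ⟨(Nat.pow_le_pow_left h.r4 a).trans hn.chain, fun h8 => (Nat.pow_le_pow_left h8 a).trans hn.chain⟩

/-- **(2), `c₁ ≥ 3`**. -/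
theorem end3 (hn : Nums h A α β γ ξ a) (hc : α ^ 3 ≤ ξ) : False := by
  have h1 := hn.α2
  have h2 := hn.maxX
  have h3 := (hn.pow_le h).1
  have h4 : (4 : ℕ) ^ a = β * β := by
    rw [hn.hβa, show (4 : ℕ) = 2 * 2 by norm_num, mul_pow]
  rw [h4] at h3
  have hβ0 : 0 < β := by rw [hn.hβa]; positivity
  have h5 : α * α ≤ β := by
    have : α * (α * α) ≤ α * β := by
      calc α * (α * α) = α ^ 3 := by ring
        _ ≤ ξ := hc
        _ ≤ α * β := h2
    exact Nat.le_of_mul_le_mul_left this (by omega)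
  have h6 : β ≤ α := by
    have : β * β ≤ α * β := h3.trans h2
    exact Nat.le_of_mul_le_mul_right this hβ0
  nlinarith only [h1, h5, h6]

/-- **(2), `c₁ ≥ 2`, `r ≥ 8`**. -/
theorem end2 (hn : Nums h A α β γ ξ a) (h8 : 8 ≤ r) (hc : α ^ 2 ≤ ξ) : False := by
  have h1 := hn.α2
  have h2 := hn.maxX
  have h3 := (hn.pow_le h).2 h8
  have h4 : (8 : ℕ) ^ a = β * β * β := by
    rw [hn.hβa, show (8 : ℕ) = 2 * 2 * 2 by norm_num, mul_pow, mul_pow]
  rw [h4] at h3
  have hβ0 : 0 < β := by rw [hn.hβa]; positivity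
  have h5 : α ≤ β := by
    have : α * α ≤ α * β := by
      calc α * α = α ^ 2 := by ring
        _ ≤ ξ := hc
        _ ≤ α * β := h2
    exact Nat.le_of_mul_le_mul_left this (by omega)
  have h6 : β * β ≤ α := by
    have : β * β * β ≤ α * β := h3.trans h2
    exact Nat.le_of_mul_le_mul_right this hβ0
  nlinarith only [h1, h2, h3, h5]

/-- **(3)**, the inequality `ξ r ≤ α β`, if `A ∩ Q` does not centralise `X'` and `Rs` is normal in `X`. -/
theorem last (hn : Nums h A α β γ ξ a) (hβ : β ≠ 1) (hRs : X ≤ normalizer (Rs : Set G)) :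
    ξ * r ≤ α * β := by
  obtain ⟨y, hy, hyA⟩ := exists_of_not (L := R) (X := X) (D := A ⊓ o2 X) (fun h0 => hβ (by
    rw [hn.hβ]; exact relIndex_eq_one.2 h0))
  obtain ⟨φ, hφ, hφR⟩ := SetLike.not_le_iff_exists.1 hyA
  have hl := h.line.cj y
  have hcjRs : Cfsg.Agent.ZN.ChoiceBase.cj y Rs = Rs := mem_normalizer_iff_cj.1 (hRs hy)
  rw [hcjRs] at hl
  have hφS := (h.Q_le_cj hy) hφ.2
  have hφ2 : φ ^ 2 ∈ centralizer (Cfsg.Agent.ZN.ChoiceBase.cj y V : Set G) :=
    centralizer_le (cj_le_cl hy) (hn.elem.sq φ hφ.1)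
  set V1 := Cfsg.Agent.ZN.ChoiceBase.cj y V with hV1
  set R1 := Cfsg.Agent.ZN.ChoiceBase.cj y R with hR1
  set A3 := A ⊓ centralizer (cl R X : Set G) with hA3
  have hA3Q : A3 ≤ o2 X := h.cent_le hn.le
  have hA3S := hA3Q.trans (h.Q_le_cj hy)
  have hA3R : A3 ≤ centralizer (R1 : Set G) := inf_le_right.trans (centralizer_le (cj_le_cl hy))
  have hA3X : A3 ≤ centralizer (cl R X : Set G) := inf_le_right
  have hV1U : V1 ≤ cl V X := cj_le_cl hy
  have hγ0 := hn.γ0
  have hγe := hn.hγ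
  have hmax := hn.maxU
  have hξe := hn.hξ
  -- `γ r ξ ≤ |U : C_U(A)|`
  have key : γ * r * ξ ≤ (centralizer (A : Set G)).relIndex (cl V X) := by
    by_cases hc : A3 ≤ centralizer (V1 : Set G)
    · -- `A₃` centralises `V₁`
      have h1 : γ ≤ (centralizer (A3 : Set G)).relIndex (cl V X) := by
        rw [hγe]
        exact h.chainU _ A3 rfl hA3Q hA3X
      set K1 := centralizer (A3 : Set G) ⊓ cl V X with hK1
      set C := centralizer (A : Set G) ⊓ cl V X with hC
      set N := cl R X ⊔ C with hN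
      have hCK : C ≤ K1 := inf_le_inf_right _ (centralizer_le inf_le_left)
      have hNK : N ≤ K1 := sup_le (le_inf (le_centralizer_iff.1 hA3X) h.XU) hCK
      have hVK : V1 ≤ K1 := le_inf (le_centralizer_iff.1 hc) hV1U
      have hNU : N ≤ cl V X := sup_le h.XU inf_le_right
      -- `|V₁ : V₁ ∩ N| ≥ r`
      have h2 : r ≤ N.relIndex V1 := by
        have h3 := hl.quot (N ⊓ V1) inf_le_right φ hφS hφ2 hφR ?_
        · rwa [inf_relIndex_right] at h3
        · intro v hv
          have hxC : cl R X ≤ normalizer (C : Set G) :=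
            (h.XU2.trans (centralizer_le inf_le_right)).trans (centralizer_le_normalizer _)
          obtain ⟨w, hw, c, hc', rfl⟩ := NO3b.CTwo.mem_sup_of_le_norm hxC hv.1
          have hcφ : c * φ = φ * c := (mem_centralizer_iff.1 hc'.1 φ hφ.1).symm
          have e : w * c * φ * (w * c)⁻¹ * φ⁻¹ = w * φ * w⁻¹ * φ⁻¹ := by
            have : w * c * φ * (w * c)⁻¹ * φ⁻¹ = w * (c * φ) * c⁻¹ * w⁻¹ * φ⁻¹ := by group
            rw [this, hcφ]; group
          rw [e]
          -- `[X', φ] ≤ Rs ≤ R₁`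
          have h4 : ∀ w ∈ cl R X, w * φ * w⁻¹ * φ⁻¹ ∈ Rs := by
            let T : Subgroup G :=
              { carrier := {w | w ∈ cl R X ∧ w * φ * w⁻¹ * φ⁻¹ ∈ Rs}
                one_mem' := ⟨one_mem _, by simp⟩
                mul_mem' := by
                  rintro a b ⟨ha, ha'⟩ ⟨hb, hb'⟩
                  refine ⟨mul_mem ha hb, ?_⟩
                  have hbR : b * φ * b⁻¹ * φ⁻¹ ∈ cl R X := ((hl.RsR.trans (cj_le_cl hy)) hb')
                  have e2 : a * b * φ * (a * b)⁻¹ * φ⁻¹ =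
                      a * (b * φ * b⁻¹ * φ⁻¹) * a⁻¹ * (a * φ * a⁻¹ * φ⁻¹) := by group
                  have e3 : a * (b * φ * b⁻¹ * φ⁻¹) * a⁻¹ = b * φ * b⁻¹ * φ⁻¹ := by
                    rw [← mem_centralizer_iff.1 (h.XU2 ha) _ (h.XU hbR), mul_inv_cancel_right]
                  rw [e2, e3]
                  exact mul_mem hb' ha'
                inv_mem' := by
                  rintro a ⟨ha, ha'⟩
                  refine ⟨inv_mem ha, ?_⟩
                  have haR : a * φ * a⁻¹ * φ⁻¹ ∈ cl R X := ((hl.RsR.trans (cj_le_cl hy)) ha')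
                  have e2 : a⁻¹ * φ * a⁻¹⁻¹ * φ⁻¹ = a⁻¹ * (a * φ * a⁻¹ * φ⁻¹)⁻¹ * a := by group
                  have e3 : a⁻¹ * (a * φ * a⁻¹ * φ⁻¹)⁻¹ * a = (a * φ * a⁻¹ * φ⁻¹)⁻¹ := by
                    rw [← mem_centralizer_iff.1 (h.XU2 (inv_mem ha)) _ (h.XU (inv_mem haR)),
                      inv_mul_cancel_right]
                  rw [e2, e3]
                  exact inv_mem ha' }
            have hT : cl R X ≤ T := by
              refine cl_le fun p hp x hx => ?_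
              refine ⟨(cj_le_cl hp) hx, ?_⟩
              have hlp := h.line.cj p
              rw [mem_normalizer_iff_cj.1 (hRs hp)] at hlp
              exact hlp.com (A ⊓ o2 X) (inf_le_right.trans (h.Q_le_cj hp))
                (hn.elem.mono (cj_le_cl hp) inf_le_left) x hx φ hφ
            exact fun w hw => (hT hw).2
          exact hl.RsR (h4 w hw)
      -- assemble
      have h5 : C.relIndex (V1 ⊔ N) ≤ C.relIndex K1 :=
        relIndex_le_of_le_right (sup_le hVK hNK) index_ne_zero_of_finite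
      have h6 : C.relIndex N * N.relIndex (V1 ⊔ N) = C.relIndex (V1 ⊔ N) :=
        relIndex_mul_relIndex _ _ _ le_sup_right le_sup_right
      have h7 : N.relIndex V1 ≤ N.relIndex (V1 ⊔ N) :=
        relIndex_le_of_le_right le_sup_left index_ne_zero_of_finite
      have h8 : ξ ≤ C.relIndex N := by
        rw [hξe]
        have h9 : C.relIndex (cl R X) ≤ C.relIndex N :=
          relIndex_le_of_le_right le_sup_left index_ne_zero_of_finite
        have h10 : C.relIndex (cl R X) = (centralizer (A : Set G)).relIndex (cl R X) := by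
          rw [← inf_relIndex_right C, ← inf_relIndex_right (centralizer (A : Set G))]
          congr 1
          apply le_antisymm
          · exact le_inf (inf_le_left.trans inf_le_left) inf_le_right
          · exact le_inf (le_inf inf_le_left (inf_le_right.trans h.XU)) inf_le_right
        rwa [h10] at h9
      have h11 : C.relIndex K1 * K1.relIndex (cl V X) = C.relIndex (cl V X) :=
        relIndex_mul_relIndex _ _ _ hCK inf_le_right
      have h12 : K1.relIndex (cl V X) = (centralizer (A3 : Set G)).relIndex (cl V X) := inf_relIndex_right _ _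
      have h13 : C.relIndex (cl V X) = (centralizer (A : Set G)).relIndex (cl V X) := inf_relIndex_right _ _
      rw [← h13, ← h11, h12]
      calc γ * r * ξ = ξ * r * γ := by ring
        _ ≤ C.relIndex N * N.relIndex (V1 ⊔ N) * (centralizer (A3 : Set G)).relIndex (cl V X) :=
            Nat.mul_le_mul (Nat.mul_le_mul h8 (h2.trans h7)) h1
        _ ≤ C.relIndex K1 * (centralizer (A3 : Set G)).relIndex (cl V X) :=
            Nat.mul_le_mul_right _ (h6.le.trans h5)
    · -- `A₃` acts nontrivially on `V₁`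
      have h1 := hl.gain A3 hA3S hA3R hc
      have h2 := hl.small A3 hA3S hA3R φ hφS hφ2 hφR fun d hd =>
        centralizer_le hV1U (hn.elem.comm d hd.1 φ hφ.1)
      set D' := A3 ⊓ centralizer (V1 : Set G) with hD'
      have h3 := h.chainU _ D' rfl (inf_le_left.trans hA3Q) (inf_le_left.trans hA3X)
      have h4 := split (D := A3) hV1U
      rw [← hD', ← hγe] at h4
      have h5 := step (D1 := D') (D := A3) inf_le_left hV1U (le_centralizer_iff.1 inf_le_right)
      have h6 := step (D1 := A3) (D := A) inf_le_left h.XU (le_centralizer_iff.1 hA3X)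
      rw [← hξe] at h6
      refine le_trans ?_ h6
      refine Nat.mul_le_mul_right _ ?_
      refine le_trans ?_ h5
      rw [← h4]
      calc (centralizer (cl V X : Set G)).relIndex D' * (centralizer (V1 : Set G)).relIndex A3 * r
          ≤ (centralizer (D' : Set G)).relIndex (cl V X) * r * r :=
            Nat.mul_le_mul_right _ (Nat.mul_le_mul h3 h2)
        _ = (centralizer (D' : Set G)).relIndex (cl V X) * q := by rw [h.qr, mul_assoc]
        _ ≤ (centralizer (D' : Set G)).relIndex (cl V X) * (centralizer (A3 : Set G)).relIndex V1 :=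
            Nat.mul_le_mul_left _ h1
  have h1 : γ * (ξ * r) ≤ γ * (α * β) := by
    calc γ * (ξ * r) = γ * r * ξ := by ring
      _ ≤ _ := key
      _ ≤ α * β * γ := hmax
      _ = γ * (α * β) := by ring
  exact Nat.le_of_mul_le_mul_left h1 hγ0

/-- **(3)**: `c₁ ≥ 2` and `Rs` normal in `X`. -/
theorem end4 (hn : Nums h A α β γ ξ a) (hRs : X ≤ normalizer (Rs : Set G))
    (hc : α ^ 2 ≤ ξ) : False := by
  have h1 := hn.α2
  have h2 := hn.maxX
  have h3 := (hn.pow_le h).1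
  have h4 : (4 : ℕ) ^ a = β * β := by
    rw [hn.hβa, show (4 : ℕ) = 2 * 2 by norm_num, mul_pow]
  rw [h4] at h3
  have hβ0 : 0 < β := by rw [hn.hβa]; positivity
  have hr := h.r4
  by_cases hβ1 : β = 1
  · rw [hβ1] at h2
    nlinarith only [hc, h1, h2]
  · have h5 := h.last hn hβ1 hRs
    have h6 : α * r ≤ β := by
      have : α * (α * r) ≤ α * β := by
        calc α * (α * r) = α ^ 2 * r := by ring
          _ ≤ ξ * r := Nat.mul_le_mul_right _ hc
          _ ≤ α * β := h5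
      exact Nat.le_of_mul_le_mul_left this (by omega)
    have h7 : β * r ≤ α := by
      have : β * r * β ≤ α * β := by
        calc β * r * β = β * β * r := by ring
          _ ≤ ξ * r := Nat.mul_le_mul_right _ h3
          _ ≤ α * β := h5
      exact Nat.le_of_mul_le_mul_right this hβ0
    nlinarith only [h1, hr, h6, h7]

end Cnt

end Cfsg.Agent.Omega.NO3S.Fld.Red

end
end
end
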